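import Cfsg.Prelude.Def_Classification2
import Cfsg.Agent.H6.QO.Frame
import Cfsg.Agent.S2034
import Cfsg.Agent.S2037
import Cfsg.Agent.S2038
import Cfsg.Agent.S2039
import Cfsg.Agent.S2042
import Cfsg.Agent.S2044
import Cfsg.Agent.S2045
import Cfsg.Agent.S2049
import Cfsg.Agent.S2050
import Cfsg.Agent.S2054
import Cfsg.Agent.S2056
import Cfsg.Agent.S2057
import Cfsg.Agent.S2059
import Cfsg.Agent.S2096
import Cfsg.Agent.S2097
import Cfsg.Agent.S2099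
import Cfsg.Agent.S2100
import Cfsg.Agent.S2103
import Cfsg.Agent.S2105
import Cfsg.Agent.S2106
import Cfsg.Agent.S2107
import Cfsg.Agent.S2108
import Cfsg.Agent.S2110
import Cfsg.Agent.S2111
import Cfsg.Agent.S2113
import Cfsg.Agent.S2114
import Cfsg.Agent.S2115
import Cfsg.Agent.H841.TwG_m3
import Cfsg.Agent.H417.RecogMathieu
import Cfsg.Agent.Mrg.Omega.ML.ExLow.NumX_m3
import Cfsg.Agent.S0254
import Cfsg.Prelude.Def_Sporadic
import Cfsg.Agent.S2112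
import Cfsg.Agent.H147.SzReal
import Cfsg.Agent.H538.Ore.Small
import Cfsg.Agent.H134.Sq.Base_m3
import Cfsg.Agent.H1.J2Cover
import Cfsg.Agent.H51.Mult
import Cfsg.Agent.S1619
import Cfsg.Agent.S2040
import Cfsg.Agent.H535.Ore.ON
import Cfsg.Agent.Classification.Order360Iso
import Cfsg.Agent.H680.ONThirtyOne_m3
import Cfsg.Agent.S2052
import Cfsg.Agent.Lib.FastPerm
import Cfsg.Agent.H606.PQR.Pieces_m3
import Cfsg.Agent.S2444
import Cfsg.Agent.S2445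
import Cfsg.Agent.S2446
import Cfsg.Agent.S2493
import Cfsg.Agent.S0892
import Cfsg.Agent.S2086
import Cfsg.Agent.S2089
import Cfsg.Agent.S2092
import Cfsg.Agent.S0246
import Cfsg.Agent.S0252
import Cfsg.Agent.S0255
import Cfsg.Agent.S0256
import Cfsg.Agent.S0280
import Cfsg.Agent.S0822
import Cfsg.Agent.H612.Ore.SpCover
import Cfsg.Agent.H62.SpSix
import Cfsg.Agent.StandardComponent.SpTwoAut
import Cfsg.Agent.H85.Ore.Phi_mg_m3
import Cfsg.Agent.H928.Ore.TwS_m3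
import Cfsg.Agent.Nodes.ChevChart
import Cfsg.Agent.S2177
import Cfsg.Agent.S1055
import Cfsg.Agent.H643.QO.Cov_m3
import Cfsg.Agent.S2046
import Cfsg.Agent.H95.StemCover
import Cfsg.Agent.H935.OreO8.Main
import Cfsg.Agent.H75.QO.Red_m3
import Cfsg.Agent.H201.O8.Fin_m3
import Cfsg.Agent.H630.Ore.Co1.Frame_mg_m3
import Cfsg.Agent.KFacts.Co1D4.Main
import Cfsg.Agent.H322.Eng.CoThirteen_m3
import Cfsg.Agent.StdG24.CoSide
import Cfsg.Agent.CoOneType.CoW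
import Cfsg.Agent.H868.Ore.CoOne
import Cfsg.Agent.H480.Ore.FiBThree
import Cfsg.Agent.OddHalf.D4.Spor.FiTF_m3
import Cfsg.Agent.OddHalf.NI3.Ex.FiRow.Outer
import Cfsg.Agent.FastGrp
import Cfsg.Agent.Prune
set_option linter.all false

section
prune_inst 0x7ff0fcfa8da83ddedfff7e3ffeb9dffc31c05fffefdff9437fe8e3bf2fdf23023be5fba79de050ff1e56e21430b87813fb7eceffe06bdc7ffffd57b41ffbee0ff5f6350851d5983406ac0fff03f07f0e6f3ffdffffffffffffffffffffffffbeffbfefffffff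

-- part: H860/QS/Asm_mg
section
set_option linter.all false
open scoped Cfsg.Agent.FastGrp

-- part: H323/QS/Triv
section
/-!
# S2491, S2492: the simple groups with trivial Schur multiplier (helper323)

`triv` : `K ≃* X`, the multiplier of `X` trivial, all elements of `K` commutators: `RowA K`.  The rest are the
instances: A2 (orthogonal groups in characteristic two), A3 (exceptional groups), A4 (sporadic groups).
-/

set_option autoImplicit false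

namespace Cfsg.Agent.H323.QS

open Cfsg.Agent.H777.Ore Cfsg.Agent.H51.Mult Cfsg.Agent.H6.QO

universe u v w w'

theorem triv {K : Type u} [Group K] {X : Type v} [Group X] (e : Nonempty (K ≃* X))
    (hm : HasCyclicSchurMultiplier X 1) (h : AllC K) : RowA K := by
  obtain ⟨e⟩ := e
  exact (RowA.of_simple' hm (AllC.congr e h)).congr e.symm

theorem multCongr {G : Type u} [Group G] {A : Type v} [CommGroup A] {B : Type w} [CommGroup B] (e : A ≃* B)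
    (h : HasSchurMultiplier G A) : HasSchurMultiplier G B := by
  obtain ⟨⟨Γ, i1, i2, σ, hσ, ⟨f⟩⟩, h2⟩ := h
  refine ⟨⟨Γ, i1, i2, σ, hσ, ⟨f.trans e⟩⟩, ?_⟩
  intro Γ' _ _ σ' hσ'
  obtain ⟨π, hπ⟩ := h2 Γ' σ' hσ'
  exact ⟨π.comp e.symm.toMonoidHom, hπ.comp e.symm.surjective⟩

section Spor

variable {K : Type u} [Group K]

theorem m11 (h : Spor.IsoM11 K) (hC : AllC K) : RowA K := triv h Cfsg.Agent.S2034.result hC
theorem m23 (h : Spor.IsoM23 K) (hC : AllC K) : RowA K := triv h Cfsg.Agent.S2037.result hC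
theorem m24 (h : Spor.IsoM24 K) (hC : AllC K) : RowA K := triv h Cfsg.Agent.S2038.result hC
theorem j1 (h : Spor.IsoJ1 K) (hC : AllC K) : RowA K := triv (by exact h) Cfsg.Agent.S2039.result hC
theorem j4 (h : Spor.IsoJ4 K) (hC : AllC K) : RowA K := triv h Cfsg.Agent.S2042.result hC
theorem co2 (h : Spor.IsoCo2 K) (hC : AllC K) : RowA K := triv h Cfsg.Agent.S2044.result hC
theorem co3 (h : Spor.IsoCo3 K) (hC : AllC K) : RowA K := triv h Cfsg.Agent.S2045.result hC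
theorem he (h : Spor.IsoHe K) (hC : AllC K) : RowA K := triv h Cfsg.Agent.S2049.result hC
theorem ly (h : Spor.IsoLy K) (hC : AllC K) : RowA K := triv h Cfsg.Agent.S2050.result hC
theorem fi23 (h : Spor.IsoFi23 K) (hC : AllC K) : RowA K := triv h Cfsg.Agent.S2054.result hC
theorem hn (h : Spor.IsoHN K) (hC : AllC K) : RowA K := triv h Cfsg.Agent.S2056.result hC
theorem th (h : Spor.IsoTh K) (hC : AllC K) : RowA K := triv h Cfsg.Agent.S2057.result hC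
theorem mo (h : Spor.IsoM K) (hC : AllC K) : RowA K := triv h Cfsg.Agent.S2059.result hC

end Spor

section Exc

variable {K : Type u} [Group K]

theorem g2 {F : Type v} [Field F] [Fintype F] (hF : 5 ≤ Fintype.card F)
    (e : Nonempty (K ≃* ↥(Lie.chevG2.group F))) (hC : AllC K) : RowA K := triv e (Cfsg.Agent.S2100.result hF) hC

theorem f4 {F : Type v} [Field F] [Fintype F] (hF : 3 ≤ Fintype.card F)
    (e : Nonempty (K ≃* ↥(Lie.chevF4.group F))) (hC : AllC K) : RowA K := triv e (Cfsg.Agent.S2103.result hF) hC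

theorem e6 {F : Type v} [Field F] [Fintype F] (hF : ¬ 3 ∣ Fintype.card F - 1)
    (e : Nonempty (K ≃* ↥(Lie.chevE6.group F))) (hC : AllC K) : RowA K := by
  have h := Cfsg.Agent.S2105.result (F := F) rfl
  rw [(Nat.Prime.coprime_iff_not_dvd Nat.prime_three).2 hF |>.gcd_eq_one] at h
  exact triv e h hC

theorem e7 {F : Type v} [Field F] [Fintype F] (hF : Even (Fintype.card F))
    (e : Nonempty (K ≃* ↥(Lie.chevE7.group F))) (hC : AllC K) : RowA K := by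
  have h := Cfsg.Agent.S2106.result (F := F) rfl
  have h2 : ¬ 2 ∣ Fintype.card F - 1 := by
    have := Fintype.card_pos (α := F)
    obtain ⟨k, hk⟩ := hF
    omega
  rw [(Nat.Prime.coprime_iff_not_dvd Nat.prime_two).2 h2 |>.gcd_eq_one] at h
  exact triv e h hC

theorem e8 {F : Type v} [Field F] [Fintype F]
    (e : Nonempty (K ≃* ↥(Lie.chevE8.group F))) (hC : AllC K) : RowA K := triv e Cfsg.Agent.S2107.result hC

theorem te6 {F : Type v} [Field F] [Fintype F] {q : ℕ} (hq : IsPrimePow q) (hF : Fintype.card F = q ^ 2) (h2 : q ≠ 2)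
    (h3 : ¬ 3 ∣ q + 1) (e : Nonempty (K ≃* ↥(Lie.twistedE6 F q))) (hC : AllC K) : RowA K := by
  have h := Cfsg.Agent.S2108.result hq hF h2
  rw [(Nat.Prime.coprime_iff_not_dvd Nat.prime_three).2 h3 |>.gcd_eq_one] at h
  exact triv e h hC

theorem td4 {F : Type v} [Field F] [Fintype F] {q : ℕ} (hq : IsPrimePow q) (hF : Fintype.card F = q ^ 3)
    (e : Nonempty (K ≃* ↥(Lie.twistedD4 F q))) (hC : AllC K) : RowA K :=
  triv e (Cfsg.Agent.S2110.result hq hF) hC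

theorem sz {F : Type v} [Field F] [Fintype F] {m : ℕ} (hm : 2 ≤ m) (hF : Fintype.card F = 2 ^ (2 * m + 1))
    (e : Nonempty (K ≃* ↥(Lie.Sz F (2 ^ (m + 1))))) (hC : AllC K) : RowA K :=
  triv e (Cfsg.Agent.S2111.result hm hF) hC

theorem ree (h : Lie.IsoRee K) (hC : AllC K) : RowA K := by
  obtain ⟨F, _, _, m, hm, hF, e⟩ := h
  exact triv e (Cfsg.Agent.S2113.result hm hF) hC

theorem tf4 (h : Lie.Iso2F4 K) (hC : AllC K) : RowA K := by
  obtain ⟨F, _, _, m, hm, hF, e⟩ := h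
  exact triv e (Cfsg.Agent.S2114.result hm hF) hC

theorem tits' (hC : AllC Lie.TitsGroup) : RowA Lie.TitsGroup := RowA.of_simple' Cfsg.Agent.S2115.result hC

theorem tits (h : Lie.IsoTits K) (hC : AllC K) : RowA K := by
  obtain ⟨e⟩ := h
  exact (tits' (AllC.congr e hC)).congr e.symm

end Exc

section Orth

variable {K : Type u} [Group K]

theorem odd_pow_sub {q l : ℕ} (hq : Even q) (h0 : q ≠ 0) (hl : l ≠ 0) : Odd (q ^ l - 1) := by
  have h1 : Even (q ^ l) := (Nat.even_pow.2 ⟨hq, hl⟩)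
  have h2 : 0 < q ^ l := Nat.pos_of_ne_zero (pow_ne_zero l h0)
  obtain ⟨k, hk⟩ := h1
  exact ⟨k - 1, by omega⟩

theorem gcd_four {n : ℕ} (h : Odd n) : Nat.gcd 4 n = 1 := by
  have h1 : Nat.Coprime (2 ^ 2) n := Nat.Coprime.pow_left 2 ((Nat.coprime_two_left).2 h)
  exact h1

/-- A2, plus type -/
theorem pop {F : Type v} [Field F] [Fintype F] (hq : Even (Fintype.card F)) {l : ℕ} (hl : 4 ≤ l)
    (hexc : ¬ (l = 4 ∧ Fintype.card F = 2)) (e : Nonempty (K ≃* POmega F (quadFormPlus l F))) (hC : AllC K) :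
    RowA K := by
  have hodd := odd_pow_sub (l := l) hq (Fintype.card_ne_zero) (by omega)
  rcases Nat.even_or_odd l with he | ho
  · have h := Cfsg.Agent.S2097.result (F := F) rfl l hl he hexc
    rw [(Nat.coprime_two_left).2 hodd |>.gcd_eq_one] at h
    refine triv e (multCongr ?_ h) hC
    exact AddEquiv.toMultiplicative
      { toFun := fun _ => 0
        invFun := fun _ => 0
        left_inv := fun x => Subsingleton.elim (α := ZMod 1 × ZMod 1) _ _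
        right_inv := fun x => Subsingleton.elim (α := ZMod 1) _ _
        map_add' := fun _ _ => Subsingleton.elim (α := ZMod 1) _ _ }
  · have h5 : 5 ≤ l := by
      obtain ⟨k, hk⟩ := ho
      omega
    have h := Cfsg.Agent.S2096.result (F := F) rfl l h5 ho
    rw [gcd_four hodd] at h
    exact triv e h hC

/-- A2, minus type -/
theorem pom {F : Type v} [Field F] [Fintype F] (hq : Even (Fintype.card F)) {l : ℕ} (hl : 4 ≤ l) {a b : F}
    (hab : ∀ z₁ z₂ : F, z₁ ^ 2 + a * z₁ * z₂ + b * z₂ ^ 2 = 0 → z₁ = 0 ∧ z₂ = 0)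
    (e : Nonempty (K ≃* POmega F (quadFormMinus (l - 1) F a b))) (hC : AllC K) : RowA K := by
  have h := Cfsg.Agent.S2099.result (F := F) rfl l hl a b hab
  have hodd : Odd (Fintype.card F ^ l + 1) := (Nat.even_pow.2 ⟨hq, by omega⟩).add_one
  rw [gcd_four hodd] at h
  exact triv e h hC

end Orth

end Cfsg.Agent.H323.QS
end

-- part: H860/QS/Asm
section
/-!
# S2491, S2492: the assembly with optional rows (after helper323, H323/QS/Asm.lean)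

`QRows N` : the rows; the rows `psu62`, `te62`, `m22`, `fi22` are needed only if `N` holds: `N = True` for S2491, `N = False` for
S2492 (its hypotheses exclude these four groups).
-/

set_option autoImplicit false

namespace Cfsg.Agent.H860.QS

open Cfsg.Agent.H777.Ore Cfsg.Agent.H51.Mult Cfsg.Agent.H6.QO Cfsg.Agent.H323.QS

universe u v

/-- the groups excluded in S2491 and S2492 -/
def ExN (K : Type u) [Group K] : Prop :=
  Nonempty (K ≃* alternatingGroup (Fin 6)) ∨ Nonempty (K ≃* alternatingGroup (Fin 7)) ∨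
    (∃ (F : Type) (_ : Field F) (_ : Fintype F), Fintype.card F = 4 ∧
      Nonempty (K ≃* Matrix.ProjectiveSpecialLinearGroup (Fin 3) F)) ∨
    (∃ (F : Type) (_ : Field F) (_ : Fintype F), Fintype.card F = 9 ∧ Nonempty (K ≃* Cfsg.PSU 4 F 3))

/-- the groups excluded only in S2492 -/
def ExA (K : Type u) [Group K] : Prop :=
  (∃ (F : Type) (_ : Field F) (_ : Fintype F), Fintype.card F = 4 ∧ Nonempty (K ≃* Cfsg.PSU 6 F 2)) ∨
    Spor.IsoM22 K ∨ Spor.IsoFi22 K ∨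
    (∃ (F : Type) (_ : Field F) (_ : Fintype F), Fintype.card F = 4 ∧ Nonempty (K ≃* ↥(Lie.twistedE6 F 2)))

/-- the result of a row -/
def Res (N : Prop) (K : Type u) [Group K] : Prop := ExN K ∨ RowA K ∨ (ExA K ∧ (N → RowN K))

/-- The rows to be filled in.  `ore` is S2443. -/
structure QRows (N : Prop) : Prop where
  ore : ∀ (K : Type u) [Group K] [Finite K] [IsSimpleGroup K], ¬ IsMulCommutative K → AllC K
  alt : ∀ (n : ℕ), 5 ≤ n → n ≠ 6 → n ≠ 7 → RowA (alternatingGroup (Fin n))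
  psl : ∀ (F : Type) [Field F] [Fintype F] (n : ℕ), 2 ≤ n → (n = 2 → 4 ≤ Fintype.card F) →
    ¬ (n = 2 ∧ Fintype.card F = 9) → ¬ (n = 3 ∧ Fintype.card F = 4) →
    RowA (Matrix.ProjectiveSpecialLinearGroup (Fin n) F)
  psp : ∀ (F : Type) [Field F] [Fintype F] (m : ℕ), 2 ≤ m → (m = 2 → 3 ≤ Fintype.card F) →
    ¬ (m = 3 ∧ Fintype.card F = 2) → RowA (PSp m F)
  psu : ∀ (F : Type) [Field F] [Fintype F] (n q : ℕ), Fintype.card F = q ^ 2 → 3 ≤ n → ¬ (n = 3 ∧ q = 2) →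
    ¬ (n = 4 ∧ q = 3) → ¬ (n = 6 ∧ q = 2) → RowA (PSU n F q)
  psp62 : ∀ (F : Type) [Field F] [Fintype F], Fintype.card F = 2 → RowA (PSp 3 F)
  psu62 : N → ∀ (F : Type) [Field F] [Fintype F], Fintype.card F = 4 → RowN (PSU 6 F 2)
  poo : ∀ (F : Type) [Field F] [Fintype F] (m : ℕ), 3 ≤ m → Odd (Fintype.card F) →
    RowA (POmega F (quadFormOdd m F))
  pop : ∀ (F : Type) [Field F] [Fintype F] (m : ℕ), 4 ≤ m → Odd (Fintype.card F) →
    RowA (POmega F (quadFormPlus m F))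
  pop82 : ∀ (F : Type) [Field F] [Fintype F], Fintype.card F = 2 → RowA (POmega F (quadFormPlus 4 F))
  pom : ∀ (F : Type) [Field F] [Fintype F] (m : ℕ) (a b : F), 4 ≤ m → Odd (Fintype.card F) →
    (∀ z₁ z₂ : F, z₁ ^ 2 + a * z₁ * z₂ + b * z₂ ^ 2 = 0 → z₁ = 0 ∧ z₂ = 0) →
    RowA (POmega F (quadFormMinus (m - 1) F a b))
  g23 : ∀ (F : Type) [Field F] [Fintype F], Fintype.card F = 3 → RowA ↥(Lie.chevG2.group F)
  g24 : ∀ (F : Type) [Field F] [Fintype F], Fintype.card F = 4 → RowA ↥(Lie.chevG2.group F)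
  f42 : ∀ (F : Type) [Field F] [Fintype F], Fintype.card F = 2 → RowA ↥(Lie.chevF4.group F)
  e6 : ∀ (F : Type) [Field F] [Fintype F], 4 ≤ Nat.card F → RowA ↥(Lie.chevE6.group F)
  te6 : ∀ (F : Type) [Field F] [Fintype F] (q : ℕ), IsPrimePow q → Fintype.card F = q ^ 2 → 3 ∣ q + 1 → q ≠ 2 →
    RowA ↥(Lie.twistedE6 F q)
  e7 : ∀ (F : Type) [Field F] [Fintype F], Odd (Fintype.card F) → RowA ↥(Lie.chevE7.group F)
  te62 : N → ∀ (F : Type) [Field F] [Fintype F], Fintype.card F = 4 → RowN ↥(Lie.twistedE6 F 2)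
  sz8 : ∀ (F : Type) [Field F] [Fintype F], Fintype.card F = 8 → RowA ↥(Lie.Sz F 4)
  m22 : N → ∀ (K : Type u) [Group K], Spor.IsoM22 K → RowN K
  m12 : ∀ (K : Type u) [Group K], Spor.IsoM12 K → RowA K
  j2 : ∀ (K : Type u) [Group K], Spor.IsoJ2 K → RowA K
  hs : ∀ (K : Type u) [Group K], Spor.IsoHS K → RowA K
  mcl : ∀ (K : Type u) [Group K], Spor.IsoMcL K → RowA K
  suz : ∀ (K : Type u) [Group K], Spor.IsoSuz K → RowA K
  j3 : ∀ (K : Type u) [Group K], Spor.IsoJ3 K → RowA K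
  ru : ∀ (K : Type u) [Group K], Spor.IsoRu K → RowA K
  on : ∀ (K : Type u) [Group K], Spor.IsoON K → RowA K
  co1 : ∀ (K : Type u) [Group K], Spor.IsoCo1 K → RowA K
  fi22 : N → ∀ (K : Type u) [Group K], Spor.IsoFi22 K → RowN K
  fi24 : ∀ (K : Type u) [Group K], Spor.IsoFi24' K → RowA K
  b : ∀ (K : Type u) [Group K], Spor.IsoB K → RowA K

section rows

variable {N : Prop} (Q : QRows.{u} N) {K : Type u} [Group K] (hC : AllC K)

omit Q in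
theorem Res.a {N : Prop} {K : Type u} [Group K] (h : RowA K) : Res N K := Or.inr (Or.inl h)

include Q in
theorem res_alt (h : IsAlternating K) : Res N K := by
  obtain ⟨n, hn, ⟨e⟩⟩ := h
  by_cases h6 : n = 6
  · subst h6; exact Or.inl (Or.inl ⟨e⟩)
  by_cases h7 : n = 7
  · subst h7; exact Or.inl (Or.inr (Or.inl ⟨e⟩))
  · exact Res.a ((Q.alt n hn h6 h7).congr e.symm)

include Q in
theorem res_psl (h : IsPSL K) : Res N K := by
  obtain ⟨F, _, _, n, hn, h4, ⟨e⟩⟩ := h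
  by_cases h9 : n = 2 ∧ Fintype.card F = 9
  · obtain ⟨rfl, hF⟩ := h9
    obtain ⟨f⟩ := Cfsg.Agent.S0254.result hF
    exact Or.inl (Or.inl ⟨e.trans f⟩)
  by_cases h34 : n = 3 ∧ Fintype.card F = 4
  · obtain ⟨rfl, hF⟩ := h34
    exact Or.inl (Or.inr (Or.inr (Or.inl ⟨F, _, _, hF, ⟨e⟩⟩)))
  · exact Res.a ((Q.psl F n hn h4 h9 h34).congr e.symm)

include Q in
theorem res_psp (h : IsPSp K) : Res N K := by
  obtain ⟨F, _, _, m, hm, h3, ⟨e⟩⟩ := h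
  by_cases h62 : m = 3 ∧ Fintype.card F = 2
  · obtain ⟨rfl, hF⟩ := h62
    exact Res.a ((Q.psp62 F hF).congr e.symm)
  · exact Res.a ((Q.psp F m hm h3 h62).congr e.symm)

include Q in
theorem res_psu (h : IsPSU K) : Res N K := by
  obtain ⟨F, _, _, n, q, hF, hn, hex, ⟨e⟩⟩ := h
  by_cases h43 : n = 4 ∧ q = 3
  · obtain ⟨rfl, rfl⟩ := h43
    exact Or.inl (Or.inr (Or.inr (Or.inr ⟨F, _, _, by rw [hF]; norm_num, ⟨e⟩⟩)))
  by_cases h62 : n = 6 ∧ q = 2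
  · obtain ⟨rfl, rfl⟩ := h62
    exact Or.inr (Or.inr ⟨Or.inl ⟨F, _, _, by rw [hF]; norm_num, ⟨e⟩⟩,
      fun hN => (Q.psu62 hN F (by rw [hF]; norm_num)).congr e.symm⟩)
  · exact Res.a ((Q.psu F n q hF hn hex h43 h62).congr e.symm)

include Q in
theorem res_poo (h : IsPOmegaOdd K) : Res N K := by
  obtain ⟨F, _, _, m, hm, ho, ⟨e⟩⟩ := h
  exact Res.a ((Q.poo F m hm ho).congr e.symm)

include Q hC in
theorem res_pop (h : IsPOmegaPlus K) : Res N K := by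
  obtain ⟨F, _, _, m, hm, ⟨e⟩⟩ := h
  rcases Nat.even_or_odd (Fintype.card F) with he | ho
  · by_cases h42 : m = 4 ∧ Fintype.card F = 2
    · obtain ⟨rfl, hF⟩ := h42
      exact Res.a ((Q.pop82 F hF).congr e.symm)
    · exact Res.a (pop he hm h42 ⟨e⟩ hC)
  · exact Res.a ((Q.pop F m hm ho).congr e.symm)

include Q hC in
theorem res_pom (h : IsPOmegaMinus K) : Res N K := by
  obtain ⟨F, _, _, m, a, b, hm, hab, ⟨e⟩⟩ := h
  rcases Nat.even_or_odd (Fintype.card F) with he | ho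
  · exact Res.a (pom he hm hab ⟨e⟩ hC)
  · exact Res.a ((Q.pom F m a b hm ho hab).congr e.symm)

include Q hC in
theorem res_g2 (h : Lie.IsoChevG2 K) : Res N K := by
  obtain ⟨F, _, _, h3, ⟨e⟩⟩ := h
  by_cases hF3 : Fintype.card F = 3
  · exact Res.a ((Q.g23 F hF3).congr e.symm)
  by_cases hF4 : Fintype.card F = 4
  · exact Res.a ((Q.g24 F hF4).congr e.symm)
  · exact Res.a (g2 (by omega) ⟨e⟩ hC)

include Q hC in
theorem res_f4 (h : Lie.IsoF4 K) : Res N K := by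
  obtain ⟨F, _, _, ⟨e⟩⟩ := h
  have h1 : 1 < Fintype.card F := Fintype.one_lt_card
  by_cases hF2 : Fintype.card F = 2
  · exact Res.a ((Q.f42 F hF2).congr e.symm)
  · exact Res.a (f4 (by omega) ⟨e⟩ hC)

include Q hC in
theorem res_e6 (h : Lie.IsoChevE6 K) : Res N K := by
  obtain ⟨F, _, _, ⟨e⟩⟩ := h
  by_cases h3 : 3 ∣ Fintype.card F - 1
  · have h1 : 1 < Fintype.card F := Fintype.one_lt_card
    have h4 : 4 ≤ Nat.card F := by
      rw [Nat.card_eq_fintype_card]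
      omega
    exact Res.a ((Q.e6 F h4).congr e.symm)
  · exact Res.a (e6 h3 ⟨e⟩ hC)

include Q hC in
theorem res_e7 (h : Lie.IsoE7 K) : Res N K := by
  obtain ⟨F, _, _, ⟨e⟩⟩ := h
  rcases Nat.even_or_odd (Fintype.card F) with he | ho
  · exact Res.a (e7 he ⟨e⟩ hC)
  · exact Res.a ((Q.e7 F ho).congr e.symm)

include hC in
theorem res_e8 (h : Lie.IsoE8 K) : Res N K := by
  obtain ⟨F, _, _, ⟨e⟩⟩ := h
  exact Res.a (e8 ⟨e⟩ hC)

include Q hC in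
theorem res_te6 (h : Lie.Iso2E6 K) : Res N K := by
  obtain ⟨F, _, _, q, hq, hF, ⟨e⟩⟩ := h
  by_cases h2 : q = 2
  · subst h2
    exact Or.inr (Or.inr ⟨Or.inr (Or.inr (Or.inr ⟨F, _, _, by rw [hF]; norm_num, ⟨e⟩⟩)),
      fun hN => (Q.te62 hN F (by rw [hF]; norm_num)).congr e.symm⟩)
  by_cases h3 : 3 ∣ q + 1
  · exact Res.a ((Q.te6 F q hq hF h3 h2).congr e.symm)
  · exact Res.a (te6 hq hF h2 h3 ⟨e⟩ hC)

include hC in
theorem res_td4 (h : Lie.Iso3D4 K) : Res N K := by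
  obtain ⟨F, _, _, q, hq, hF, ⟨e⟩⟩ := h
  exact Res.a (td4 hq hF ⟨e⟩ hC)

include Q hC in
theorem res_sz (h : Lie.IsoSuzuki K) : Res N K := by
  obtain ⟨F, _, _, m, hm, hF, ⟨e⟩⟩ := h
  by_cases h1 : m = 1
  · subst h1
    exact Res.a ((Q.sz8 F (by rw [hF]; norm_num)).congr e.symm)
  · exact Res.a (sz (by omega) hF ⟨e⟩ hC)

end rows

theorem rows_cls {N : Prop} (Q : QRows.{u} N) : H459.Ore.ClsRows.{u} (fun G _ => AllC G → Res N G) where
  alt := fun h _ => res_alt Q h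
  psl := fun h _ => res_psl Q h
  psp := fun h _ => res_psp Q h
  psu := fun h _ => res_psu Q h
  poo := fun h _ => res_poo Q h
  pop := fun h hC => res_pop Q hC h
  pom := fun h hC => res_pom Q hC h

theorem rows_exc {N : Prop} (Q : QRows.{u} N) : H459.Ore.ExcRows.{u} (fun G _ => AllC G → Res N G) where
  g2 := fun h hC => res_g2 Q hC h
  f4 := fun h hC => res_f4 Q hC h
  e6 := fun h hC => res_e6 Q hC h
  e7 := fun h hC => res_e7 Q hC h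
  e8 := fun h hC => res_e8 hC h
  te6 := fun h hC => res_te6 Q hC h
  td4 := fun h hC => res_td4 hC h
  sz := fun h hC => res_sz Q hC h
  ree := fun h hC => Res.a (ree h hC)
  tf4 := fun h hC => Res.a (tf4 h hC)
  tits := fun h hC => Res.a (tits h hC)

theorem rows_spor {N : Prop} (Q : QRows.{u} N) : H459.Ore.SporRows.{u} (fun G _ => AllC G → Res N G) where
  m11 := fun h hC => Res.a (m11 h hC)
  m12 := fun h _ => Res.a (Q.m12 _ h)
  m22 := fun h _ => Or.inr (Or.inr ⟨Or.inr (Or.inl h), fun hN => Q.m22 hN _ h⟩)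
  m23 := fun h hC => Res.a (m23 h hC)
  m24 := fun h hC => Res.a (m24 h hC)
  j1 := fun h hC => Res.a (j1 h hC)
  j2 := fun h _ => Res.a (Q.j2 _ h)
  j3 := fun h _ => Res.a (Q.j3 _ h)
  j4 := fun h hC => Res.a (j4 h hC)
  co1 := fun h _ => Res.a (Q.co1 _ h)
  co2 := fun h hC => Res.a (co2 h hC)
  co3 := fun h hC => Res.a (co3 h hC)
  mcL := fun h _ => Res.a (Q.mcl _ h)
  hS := fun h _ => Res.a (Q.hs _ h)
  suz := fun h _ => Res.a (Q.suz _ h)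
  he := fun h hC => Res.a (he h hC)
  ru := fun h _ => Res.a (Q.ru _ h)
  oN := fun h _ => Res.a (Q.on _ h)
  ly := fun h hC => Res.a (ly h hC)
  fi22 := fun h _ => Or.inr (Or.inr ⟨Or.inr (Or.inr (Or.inl h)), fun hN => Q.fi22 hN _ h⟩)
  fi23 := fun h hC => Res.a (fi23 h hC)
  fi24 := fun h _ => Res.a (Q.fi24 _ h)
  hN := fun h hC => Res.a (hn h hC)
  th := fun h hC => Res.a (th h hC)
  b := fun h _ => Res.a (Q.b _ h)
  m := fun h hC => Res.a (mo h hC)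

theorem main {N : Prop} (Q : QRows.{u} N) {K : Type u} [Group K] [Finite K] [IsSimpleGroup K]
    (hna : ¬ IsMulCommutative K) (hK : IsKnownSimple' K) : Res N K :=
  H459.Ore.main (rows_cls Q) (rows_exc Q) (rows_spor Q) hna hK (Q.ore K hna)

/-! ### the statements -/

theorem not_comm_of_perfect {K : Type u} [Group K] [IsSimpleGroup K] (h : commutator K = ⊤) :
    ¬ IsMulCommutative K := by
  rintro ⟨⟨hc⟩⟩
  have h1 : commutator K = ⊥ := by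
    rw [eq_bot_iff, _root_.commutator_def, Subgroup.commutator_le]
    intro a _ b _
    rw [Subgroup.mem_bot, commutatorElement_def, hc a b]
    group
  rw [h1] at h
  exact bot_ne_top h

section final

variable {N : Prop} (Q : QRows.{u} N) (hkn : ∀ (K : Type u) [Group K] [Finite K] [IsSimpleGroup K], IsKnownSimple' K)
  {G : Type u} [Group G] [Finite G] (hperf : commutator G = ⊤) (hs : IsSimpleGroup (G ⧸ Subgroup.center G))
  (hA6 : ¬ Nonempty (G ⧸ Subgroup.center G ≃* alternatingGroup (Fin 6)))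
  (hA7 : ¬ Nonempty (G ⧸ Subgroup.center G ≃* alternatingGroup (Fin 7)))
  (hL34 : ∀ (F : Type) [Field F] [Fintype F], Fintype.card F = 4 →
    ¬ Nonempty (G ⧸ Subgroup.center G ≃* Matrix.ProjectiveSpecialLinearGroup (Fin 3) F))
  (hU43 : ∀ (F : Type) [Field F] [Fintype F], Fintype.card F = 9 →
    ¬ Nonempty (G ⧸ Subgroup.center G ≃* Cfsg.PSU 4 F 3))

include Q hkn hperf hs hA6 hA7 hL34 hU43

theorem res : RowA (G ⧸ Subgroup.center G) ∨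
    (ExA (G ⧸ Subgroup.center G) ∧ (N → RowN (G ⧸ Subgroup.center G))) := by
  have hp : commutator (G ⧸ Subgroup.center G) = ⊤ := by
    have h1 := Subgroup.map_commutator (⊤ : Subgroup G) ⊤ (QuotientGroup.mk' (Subgroup.center G))
    rw [← _root_.commutator_def, hperf, Subgroup.map_top_of_surjective _ (QuotientGroup.mk'_surjective _),
      ← _root_.commutator_def] at h1
    exact h1.symm
  rcases main Q (not_comm_of_perfect hp) (hkn (G ⧸ Subgroup.center G)) with h | h | h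
  · exfalso
    rcases h with h | h | ⟨F, _, _, hF, h⟩ | ⟨F, _, _, hF, h⟩
    · exact hA6 h
    · exact hA7 h
    · exact hL34 F hF h
    · exact hU43 F hF h
  · exact Or.inl h
  · exact Or.inr h

theorem s2491 (hN : N) (g : G) (hg : g ∉ Subgroup.center G) : ∃ a b : G, a * b * a⁻¹ * b⁻¹ = g := by
  have h : RowN (G ⧸ Subgroup.center G) := by
    rcases res Q hkn hperf hs hA6 hA7 hL34 hU43 with h | h
    · exact h.toN
    · exact h.2 hN
  obtain ⟨a, b, e⟩ := h.result hperf (MulEquiv.refl _) g hg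
  exact ⟨a, b, e.symm⟩

theorem s2492
    (hU62 : ∀ (F : Type) [Field F] [Fintype F], Fintype.card F = 4 →
      ¬ Nonempty (G ⧸ Subgroup.center G ≃* Cfsg.PSU 6 F 2))
    (hM22 : ¬ Cfsg.IsM22 (G ⧸ Subgroup.center G)) (hFi22 : ¬ Cfsg.IsFi22 (G ⧸ Subgroup.center G))
    (hE : Nat.card (G ⧸ Subgroup.center G) ≠ 76532479683774853939200)
    (hcard : ∀ (F : Type) [Field F] [Fintype F], Fintype.card F = 4 →
      Nat.card ↥(Lie.twistedE6 F 2) = 76532479683774853939200) (g : G) : ∃ a b : G, a * b * a⁻¹ * b⁻¹ = g := by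
  have h : RowA (G ⧸ Subgroup.center G) := by
    rcases res Q hkn hperf hs hA6 hA7 hL34 hU43 with h | ⟨h, -⟩
    · exact h
    · exfalso
      rcases h with ⟨F, _, _, hF, h⟩ | h | h | ⟨F, _, _, hF, ⟨e⟩⟩
      · exact hU62 F hF h
      · exact hM22 (Cfsg.Agent.H417.RecogMathieu.isM22 h)
      · obtain ⟨e⟩ := h
        refine hFi22 ⟨hs, ?_⟩
        rw [Nat.card_congr e.toEquiv]
        exact Cfsg.Agent.Fischer.Fi22Order.card_fi22
      · apply hE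
        rw [Nat.card_congr e.toEquiv]
        exact hcard F hF
  obtain ⟨a, b, e⟩ := h.result hperf (MulEquiv.refl _) g
  exact ⟨a, b, e.symm⟩

end final

end Cfsg.Agent.H860.QS
end

-- part: H788/QS/Sz
section
/-!
# `2².Sz(8)`: every element is a commutator (helper788, S2491, S2492, row D4)

The cocycle of `H48/SzCoc.lean` restricted to the Sylow 2-subgroup is `q (b ^ 4 * c + a * c ^ 6 + a ^ 5 * c ^ 2)`; hence every
lift `x` of a nontrivial 2-element is conjugate to all the elements `x z`, `z` in the kernel.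

* `exists_cover` : the extension, with `AllC`
-/

set_option autoImplicit false

namespace Cfsg.Agent.H788.QS.Sz

open Subgroup
open Cfsg.Agent.H48 Cfsg.Agent.H48.Cores Cfsg.Agent.StdSz Cfsg.Agent.StdSz.BorelCoord
open Cfsg.Agent.H777.Ore (IsC AllC)

universe u v

/-! ### commutators in the extension of a cocycle -/

section ext

variable {G : Type u} {A : Type v} [Group G] [AddCommGroup A] {κ : Coc G A}

/-- all the lifts of `π s` are conjugate to `s` -/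
def Fz (s : _root_.Cfsg.Agent.H48.Cores.Ext κ) : Prop := ∀ α : Multiplicative A, ∃ u : _root_.Cfsg.Agent.H48.Cores.Ext κ, u * s * u⁻¹ = Ext.ι κ α * s

theorem ι_comm (α : Multiplicative A) (x : _root_.Cfsg.Agent.H48.Cores.Ext κ) : Ext.ι κ α * x = x * Ext.ι κ α := Ext.ι_central κ α x

theorem Fz.conj {s : _root_.Cfsg.Agent.H48.Cores.Ext κ} (h : Fz s) (x : _root_.Cfsg.Agent.H48.Cores.Ext κ) : Fz (x * s * x⁻¹) := by
  intro α
  obtain ⟨u, hu⟩ := h α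
  refine ⟨x * u * x⁻¹, ?_⟩
  calc x * u * x⁻¹ * (x * s * x⁻¹) * (x * u * x⁻¹)⁻¹ = x * (u * s * u⁻¹) * x⁻¹ := by group
    _ = x * (Ext.ι κ α * s) * x⁻¹ := by rw [hu]
    _ = (x * Ext.ι κ α) * s * x⁻¹ := by group
    _ = (Ext.ι κ α * x) * s * x⁻¹ := by rw [ι_comm]
    _ = Ext.ι κ α * (x * s * x⁻¹) := by group

theorem conj_lift {x y : G} (h : x * y = y * x) (α : A) :
    (⟨y, 0⟩ : _root_.Cfsg.Agent.H48.Cores.Ext κ) * ⟨x, α⟩ * (⟨y, 0⟩ : _root_.Cfsg.Agent.H48.Cores.Ext κ)⁻¹ = Ext.ι κ (Multiplicative.ofAdd (κ.c y x - κ.c x y)) * ⟨x, α⟩ := by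
  rw [mul_inv_eq_iff_eq_mul]
  ext
  · show y * x = 1 * x * y
    rw [one_mul, h]
  · show 0 + α + κ.c y x = (κ.c y x - κ.c x y) + α + κ.c 1 x + 0 + κ.c (1 * x) y
    rw [κ.left, one_mul]
    abel

theorem fz_of {x : G} (h : ∀ α : A, ∃ y, x * y = y * x ∧ κ.c y x - κ.c x y = α) (α : A) : Fz (⟨x, α⟩ : _root_.Cfsg.Agent.H48.Cores.Ext κ) := by
  intro β
  obtain ⟨y, h1, h2⟩ := h β.toAdd
  refine ⟨⟨y, 0⟩, ?_⟩
  rw [conj_lift h1, h2]
  rfl

/-- the lifts of a conjugate of `x` -/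
theorem fz_of_isConj {x : G} (h : ∀ α : A, ∃ y, x * y = y * x ∧ κ.c y x - κ.c x y = α) {s : _root_.Cfsg.Agent.H48.Cores.Ext κ}
    (hs : IsConj x s.g) : Fz s := by
  obtain ⟨c, hc⟩ := isConj_iff.1 hs
  obtain ⟨c', rfl⟩ := Ext.π_surj κ c
  have h1 : Fz (c'⁻¹ * s * c') := by
    have h2 : (c'⁻¹ * s * c').g = x := by
      show (Ext.π κ) (c'⁻¹ * s * c') = x
      rw [map_mul, map_mul, map_inv, Ext.π_apply κ s, ← hc]
      group
    have h3 : c'⁻¹ * s * c' = ⟨x, (c'⁻¹ * s * c').a⟩ := Ext.ext h2 rfl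
    rw [h3]
    exact fz_of h _
  have h2 := h1.conj c'
  rwa [show c' * (c'⁻¹ * s * c') * c'⁻¹ = s by group] at h2

theorem exists_ι {g h : _root_.Cfsg.Agent.H48.Cores.Ext κ} (hgh : g.g = h.g) : ∃ α, g = Ext.ι κ α * h := by
  have h1 : g * h⁻¹ ∈ (Ext.π κ).ker := by
    rw [MonoidHom.mem_ker, map_mul, map_inv, Ext.π_apply, Ext.π_apply, hgh, mul_inv_cancel]
  rw [Ext.ker_eq] at h1
  obtain ⟨α, hα⟩ := h1
  exact ⟨α, by rw [hα, inv_mul_cancel_right]⟩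

/-- (C1) -/
theorem isC_of_fz {g : _root_.Cfsg.Agent.H48.Cores.Ext κ} (hg : Fz g) (h : IsC g.g) : IsC g := by
  obtain ⟨a, b, hab⟩ := h
  obtain ⟨a, rfl⟩ := Ext.π_surj κ a
  obtain ⟨b, rfl⟩ := Ext.π_surj κ b
  have h1 : (a * b * a⁻¹ * b⁻¹).g = g.g := by
    rw [hab]
    show (Ext.π κ) (a * b * a⁻¹ * b⁻¹) = _
    rw [map_mul, map_mul, map_mul, map_inv, map_inv]
  obtain ⟨α, hα⟩ := exists_ι h1
  obtain ⟨u, hu⟩ := hg α
  rw [← hu] at hα
  exact IsC.of_conj u ⟨a, b, hα.symm⟩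

/-- (C2) -/
theorem isC_of_fst {g s t : _root_.Cfsg.Agent.H48.Cores.Ext κ} (hs : Fz s) (h : g.g = s.g * t.g * s.g⁻¹ * t.g⁻¹) : IsC g := by
  have h1 : g.g = (s * t * s⁻¹ * t⁻¹).g := h
  obtain ⟨α, hα⟩ := exists_ι h1
  obtain ⟨u, hu⟩ := hs α⁻¹
  refine ⟨s, t * u, ?_⟩
  have h2 : u * s⁻¹ * u⁻¹ = s⁻¹ * Ext.ι κ α := by
    have h3 : u * s⁻¹ * u⁻¹ = (u * s * u⁻¹)⁻¹ := by group
    rw [h3, hu, mul_inv_rev, ← map_inv, inv_inv]
  calc g = Ext.ι κ α * (s * t * s⁻¹ * t⁻¹) := hα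
    _ = (Ext.ι κ α * (s * t * s⁻¹)) * t⁻¹ := by group
    _ = (s * t * s⁻¹ * Ext.ι κ α) * t⁻¹ := by rw [ι_comm]
    _ = s * t * (s⁻¹ * Ext.ι κ α) * t⁻¹ := by group
    _ = s * t * (u * s⁻¹ * u⁻¹) * t⁻¹ := by rw [h2]
    _ = s * (t * u) * s⁻¹ * (t * u)⁻¹ := by group

end ext

/-! ### the stem extension with its values on the Sylow 2-subgroup -/

section stem

variable {F : Type u} [Field F] [Fintype F] [CharP F 2] {S : Type u} [Group S] [Finite S]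

open SzCoc in
theorem exists_stem' (C : Data 1 F S)
    (hinj : ∀ a b c d (k l : Fˣ), C.p a b * C.h k = C.p c d * C.h l → a = c ∧ b = d ∧ k = l)
    (hF : Fintype.card F = 8) (B P : Subgroup S) (w : S) (hB : ∀ g, g ∈ B ↔ ∃ x, g = bel C x)
    (hP : ∀ g, g ∈ P ↔ ∃ a b, g = C.p a b)
    (h1 : ∀ g, g ∉ B → ∃ s ∈ P, (s * w)⁻¹ * g ∈ B) (h2 : ∀ s ∈ P, w⁻¹ * s * w ∈ B → s = 1) :
    ∃ κ : Cores.Coc S (Ker F), Cfsg.IsStemExtension (Cores.Ext.π κ) ∧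
      ∀ a b c d, κ.c (C.p a b) (C.p c d) = q F (f a b c) := by
  have hPB : P ≤ B := by
    intro g hg
    obtain ⟨a, b, rfl⟩ := (hP g).1 hg
    exact (hB _).2 ⟨_, p_eq C hinj a b⟩
  obtain ⟨κ, hκ⟩ := Cores.exists_coc B P w hPB h1 h2 (coc C)
    (by
      intro x hx y hy z hz
      obtain ⟨x, rfl⟩ := (hB _).1 hx
      obtain ⟨y, rfl⟩ := (hB _).1 hy
      obtain ⟨z, rfl⟩ := (hB _).1 hz
      exact coc_assoc C hinj hF x y z)
    (by
      intro x hx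
      obtain ⟨x, rfl⟩ := (hB _).1 hx
      exact coc_left C hinj x)
    (by
      intro x hx
      obtain ⟨x, rfl⟩ := (hB _).1 hx
      exact coc_right C hinj x)
  have key : ∀ a b c d, κ.c (C.p a b) (C.p c d) = q F (f a b c) := by
    intro a b c d
    rw [hκ _ ((hP _).2 ⟨_, _, rfl⟩) _ ((hP _).2 ⟨_, _, rfl⟩), p_eq C hinj, p_eq C hinj, coc_bel C hinj]
    simp
  refine ⟨κ, Cores.stem_of_coc κ ?_, key⟩
  intro a
  obtain ⟨y, rfl⟩ := q_surj a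
  refine ⟨C.p 0 1, C.p y 0, (C.comm_zero y 0 1).symm, ?_⟩
  rw [key, key]
  unfold f
  simp

end stem

/-! ### the group -/

section main

variable {F : Type u} [Field F] [Fintype F]

open SzCoc in
theorem full_p [CharP F 2] {S : Type v} [Group S] {C : Data 1 F S} {κ : Cores.Coc S (Ker F)} (hF : Fintype.card F = 8)
    (hκ : ∀ a b c d, κ.c (C.p a b) (C.p c d) = q F (f a b c)) {a b : F} (h : a ≠ 0 ∨ b ≠ 0) (α : Ker F) :
    ∃ y, C.p a b * y = y * C.p a b ∧ κ.c y (C.p a b) - κ.c (C.p a b) y = α := by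
  obtain ⟨β, rfl⟩ := q_surj α
  by_cases ha : a = 0
  · subst ha
    have hb : b ≠ 0 := by
      rcases h with h | h
      · exact absurd rfl h
      · exact h
    refine ⟨C.p (-(β / b ^ 4)) 0, (C.comm_zero _ 0 b).symm, ?_⟩
    rw [hκ, hκ, ← map_sub]
    congr 1
    unfold f
    field_simp
    ring
  · refine ⟨C.p 0 ((β / a) ^ 2), C.comm_zero a b _, ?_⟩
    rw [hκ, hκ, ← map_sub]
    congr 1
    have h8 := pow8 hF (β / a)
    have h1 : ((β / a) ^ 2) ^ 4 = β / a := by rw [← pow_mul]; exact h8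
    unfold f
    rw [h1]
    field_simp
    ring

open Cfsg.Agent.LieRecognition.SzMatrix in
theorem exists_ext' (hF : Fintype.card F = 8) :
    ∃ κ : Cores.Coc ↥(Cfsg.Lie.Sz F (2 ^ (1 + 1))) (SzCoc.Ker F), Cfsg.IsStemExtension (Cores.Ext.π κ) ∧
      AllC (_root_.Cfsg.Agent.H48.Cores.Ext κ) := by
  have hF' : Fintype.card F = 2 ^ (2 * 1 + 1) := hF
  have := charP_two hF'
  have H := good hF'
  let C : Data 1 F ↥(Cfsg.Lie.Sz F (2 ^ (1 + 1))) := szData hF'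
  have hp : ∀ a b, C.p a b = H.u a (b + a * theta hF' a) := fun a b => rfl
  have hh : ∀ l, C.h l = H.d (l ^ 3) := fun l => rfl
  have h7 : ∀ l : Fˣ, l ^ 7 = 1 := fun l => Units.ext (by
    rw [Units.val_pow_eq_pow_val]
    exact SzCoc.pow7 hF l)
  have hu : ∀ a b, H.u a b = C.p a (b + a * theta hF' a) := by
    intro a b
    rw [hp, add_assoc, CharTwo.add_self_eq_zero (a * theta hF' a), add_zero]
  have hd : ∀ k : Fˣ, H.d k = C.h (k ^ 5) := by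
    intro k
    rw [hh, ← pow_mul]
    have : k ^ (5 * 3) = (k ^ 7) ^ 2 * k := by rw [← pow_mul, ← pow_succ]
    rw [this, h7, one_pow, one_mul]
  obtain ⟨κ, hst, hκ⟩ := exists_stem' C (by
    intro a b c d k l h
    rw [hp, hp, hh, hh] at h
    obtain ⟨h1, h2, h3⟩ := H.u_mul_d_inj h
    subst h1
    refine ⟨rfl, add_right_cancel h2, ?_⟩
    have h4 : (k ^ 3) ^ 5 = (l ^ 3) ^ 5 := by rw [h3]
    have h5 : ∀ x : Fˣ, (x ^ 3) ^ 5 = x := by
      intro x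
      have : (x ^ 3) ^ 5 = (x ^ 7) ^ 2 * x := by rw [← pow_mul, ← pow_mul, ← pow_succ]
      rw [this, h7, one_pow, one_mul]
    rwa [h5, h5] at h4) hF H.borel H.unip H.w (by
    intro g
    rw [H.mem_borel_iff']
    constructor
    · rintro ⟨a, b, k, rfl⟩
      exact ⟨(a, b + a * theta hF' a, k ^ 5), by rw [hu, hd]; rfl⟩
    · rintro ⟨⟨a, b, k⟩, rfl⟩
      exact ⟨a, b + a * theta hF' a, k ^ 3, rfl⟩) (by
    intro g
    rw [H.mem_unip_iff]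
    constructor
    · rintro ⟨a, b, rfl⟩
      exact ⟨a, _, hu a b⟩
    · rintro ⟨a, b, rfl⟩
      exact ⟨a, _, hp a b⟩) H.bruhat_sz H.inter_trivial
  refine ⟨κ, hst, ?_⟩
  have hfull : ∀ a b, a ≠ 0 ∨ b ≠ 0 → ∀ s : _root_.Cfsg.Agent.H48.Cores.Ext κ, IsConj (H.u a b) s.g → Fz s := by
    intro a b hab s hs
    rw [hu] at hs
    refine fz_of_isConj (full_p hF hκ ?_) hs
    by_cases ha : a = 0
    · right
      rcases hab with h | h
      · exact absurd ha h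
      · rwa [ha, zero_mul, add_zero]
    · exact Or.inl ha
  have hinv : ∀ s : _root_.Cfsg.Agent.H48.Cores.Ext κ, s.g ≠ 1 → s.g * s.g = 1 → Fz s := fun s h1 h2 =>
    hfull 0 1 (Or.inr one_ne_zero) s (H147.Sz.isConj_invol H h1 h2).symm
  have hall : AllC ↥(Cfsg.Lie.Sz F (2 ^ (1 + 1))) := (H538.Ore.th_sz 1 le_rfl hF').allC
  have hi1 : H.u 0 1 ≠ 1 := fun h => one_ne_zero ((H147.Sz.u_eq_one_iff H).1 h).2
  have hi2 : H.u 0 1 * H.u 0 1 = 1 := by rw [H147.Sz.u_sq, zero_mul, H.u_zero]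
  intro g
  by_cases hg1 : g.g = 1
  · exact isC_of_fst (s := ⟨H.u 0 1, 0⟩) (t := 1) (hinv _ hi1 hi2) (by
      rw [hg1]
      show 1 = H.u 0 1 * 1 * (H.u 0 1)⁻¹ * (1 : ↥(Cfsg.Lie.Sz F (2 ^ (1 + 1))))⁻¹
      group)
  rcases H147.Sz.real le_rfl hF' g.g hg1 with ⟨h1, i, h2, h3, h4⟩ | ⟨a, b, h⟩
  · -- `g` is a product of two involutions
    have h5 : (i * g.g) * (i * g.g) = 1 := by
      calc (i * g.g) * (i * g.g) = (i * g.g * i) * g.g := by group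
        _ = 1 := by rw [h4, inv_mul_cancel]
    have h6 : i * g.g ≠ 1 := by
      intro h
      apply h1
      have h7 : g.g = i⁻¹ := (inv_eq_of_mul_eq_one_right h).symm
      rw [h7, ← mul_inv_rev, h3, inv_one]
    have h7 := (H147.Sz.isConj_invol H h2 h3).trans (H147.Sz.isConj_invol H h6 h5).symm
    obtain ⟨t, ht⟩ := isConj_iff.1 h7
    refine isC_of_fst (s := ⟨i, 0⟩) (t := ⟨t, 0⟩) (hinv _ h2 h3) ?_
    show g.g = i * t * i⁻¹ * t⁻¹
    have h8 : i⁻¹ = i := inv_eq_of_mul_eq_one_left h3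
    calc g.g = (i * i) * g.g := by rw [h3, one_mul]
      _ = i * (i * g.g) := mul_assoc _ _ _
      _ = i * (t * i * t⁻¹) := by rw [ht]
      _ = i * t * i⁻¹ * t⁻¹ := by rw [h8]; group
  · refine isC_of_fz (hfull a b ?_ g h.symm) (hall _)
    by_contra hne
    push Not at hne
    rw [hne.1, hne.2, H.u_zero] at h
    exact hg1 (isConj_one_left.1 h)

end main

end Cfsg.Agent.H788.QS.Sz
end

-- part: H788/QS/SzRow
section
/-!
# `RowA (Sz(8))` (helper788, S2491, S2492, row D4)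
-/

set_option autoImplicit false

namespace Cfsg.Agent.H788.QS.Sz

open Subgroup Cfsg.Agent.H48 Cfsg.Agent.H48.Cores

/-- every element of every perfect central extension of `Sz(8)` is a commutator -/
theorem rowA {F : Type*} [Field F] [Fintype F] (hF : Fintype.card F = 8) :
    Cfsg.Agent.H6.QO.RowA ↥(Cfsg.Lie.Sz F (2 ^ (1 + 1))) := by
  have hF' : Fintype.card F = 2 ^ (2 * 1 + 1) := hF
  obtain ⟨κ, hst, h⟩ := exists_ext' hF
  have hX : commutator ↥(Cfsg.Lie.Sz F (2 ^ (1 + 1))) = ⊤ := Cfsg.Agent.H67.SzOdd.perfect_sz (m := 1) le_rfl hF'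
  have hK := Cfsg.Agent.H67.perf_of_stem hX hst
  have hA : Cfsg.HasSchurMultiplier ↥(Cfsg.Lie.Sz F (2 ^ (1 + 1))) (Multiplicative (ZMod 2 × ZMod 2)) :=
    Cfsg.Agent.S2112.result hF
  have : Finite (SzCoc.Ker F) := inferInstance
  refine Cfsg.Agent.H6.QO.RowA.of_univ hA (σ := Ext.π κ) ⟨hst.1, hst.2.1, hK⟩ ?_ h
  rw [Nat.card_congr (Ext.kerEquiv κ).toEquiv]
  have h1 : Nat.card (Multiplicative (SzCoc.Ker F)) = 4 := S2112.card_ker hF
  rw [h1, Nat.card_eq_fintype_card]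
  rfl

theorem rowA' {F : Type*} [Field F] [Fintype F] (hF : Fintype.card F = 8) :
    Cfsg.Agent.H6.QO.RowA ↥(Cfsg.Lie.Sz F 4) := rowA hF

end Cfsg.Agent.H788.QS.Sz
end

-- part: H109/QO/JTwo
section
/-!
# The double cover of `J₂`: every element is a commutator (helper109, S2491/S2492 row E2)

`W` : the pairs `(f, g)`, `f` a permutation of 200 points which commutes with the antipodal map `Z`, preserves a signed
version of the graph of valency 36 and induces `g ∈ J₂` on the 100 antipodal pairs. `W → J₂` is surjective (explicit lifts)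
with kernel `{1, (Z, 1)}` (the signed graph is connected). Every element of `J₂` is conjugate to one of 21 words
(`H1/J2Cover`); both lifts of each word are commutators of words (the sign is read off from the image of one point).
-/

set_option autoImplicit false

namespace Cfsg.Agent.H109.QO.JTwo

open Equiv Cfsg.Agent.SporadicA.PermTab Cfsg.Agent.SporadicA.J2Hundred
open Cfsg.Agent.J2.HundredGens Cfsg.Agent.H1.J2Cls Cfsg.Agent.H1.J2Cover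
open Cfsg.Agent.H777.Ore (IsC AllC)
open Cfsg.Agent.H51.Mult (PCE)

/-! ### general lemma -/

/-- both lifts of the representatives of the classes are commutators -/
theorem allC_of_cover {U H : Type*} [Group U] [Group H] (π : U →* H) (hs : Function.Surjective π) {z : U}
    (hker : ∀ u : U, π u = 1 → u = 1 ∨ u = z)
    (hcov : ∀ g : H, ∃ r : U, IsC r ∧ IsC (r * z) ∧ ∃ c : H, c * g * c⁻¹ = π r) : AllC U := by
  intro u
  obtain ⟨r, h1, h2, c, hc⟩ := hcov (π u)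
  obtain ⟨d, rfl⟩ := hs c
  have h3 : π (r⁻¹ * (d * u * d⁻¹)) = 1 := by
    rw [map_mul, map_mul, map_mul, map_inv, map_inv, hc, inv_mul_cancel]
  have h4 : IsC (d * u * d⁻¹) := by
    rcases hker _ h3 with h | h
    · rw [inv_mul_eq_one] at h
      rwa [← h]
    · rw [inv_mul_eq_iff_eq_mul] at h
      rwa [h]
  obtain ⟨a, b, hab⟩ := h4
  refine ⟨d⁻¹ * a * d, d⁻¹ * b * d, ?_⟩
  have h5 : u = d⁻¹ * (d * u * d⁻¹) * d := by group
  rw [h5, hab]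
  group

theorem perfect_of_allC {U : Type*} [Group U] (h : AllC U) : commutator U = ⊤ := by
  rw [eq_top_iff]
  intro u _
  obtain ⟨a, b, hab⟩ := h u
  rw [hab, ← commutatorElement_def]
  exact Subgroup.commutator_mem_commutator (Subgroup.mem_top _) (Subgroup.mem_top _)

/-! ### data -/

def t0 : ℕ := 0x18e314630b7108238600c117e2f85e8881702e45d0bb1882d85a88c15c2c8588ab1582cc540af1602a4550ad14c29c4d8a4146284510a013e2684e09d14a2784c0990f82584a88512424c488901143083d8b40fe23c3c0bc10c21c4a0c310420c400811161f43f09711a1e43d0890d81d83a8730e81b8380710da1c8378770d41ac348680cc19c320650c6184310530400a82e05d0b61682c8240a81542b0570c0148288280941382684709013c2204b0981142304908410c1b84007e0f41f03c0760d81c0390820e81a0350300c81882105c0bc1682c04c1780b8500360ac0a05804408c1805f03c07c0e01d04e0640d0330520540b0250100480880f0200280600d0120380581300c01c0280400400c00001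
def t1 : ℕ := 0x176290528c41863084c8a015222c5e0bd18e1f05c88912625c5a0b51002b8580b115e2c84608511e2385f8a8142298628c614428c538c013c27c4d09c1362746089816c2484a09516e258410791562a8468ad17c2285c08711021856083108244408b30fc1fc3e8ba0f41ec480780e01c43906e0e61d43b0770d21d03506c0d61b4378000ce194330040ae100208600be1781a83c08a09c2c0590c60602a82505e0cc280510381282604d096138140210560a82d84407a1083086207c0fc2185c0740ec1b03806e0e42e8340a40b8180310a60c80f01508e118148490b40982a0230480882401f0400b40e84f03406c0c85602c05c160140180340700a01e0440901300a0400300800e0240586400600401068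
def t2 : ℕ := 0x18e314630bb1281e4600c117e2f85e8781882a8548b71702d85a87d15a2c8588af1602a0598ab1582e85c8ae14e298510a31482944d89f1402644e89c1422604f09a11a2584a8c310e218488901061e84b87e102208440891262484208511e2284587f1002305a07b0f8238610bc0e41d43b0740e61dc380710da1b03786e0ca190020050ce1983586a0c6184310570600542e05d0b61682c8140c0118228530a8148288190921382684b098110278470901582a84a0861081f03f0801041b83b0780d41c83807a0d01d0360520c81885f0460881682c03e0581981a03a0781202505e0b8100210560981381b0380a0280170300a82f05801c0440901001e04c0600d0120200580a0020003406900600803806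
def t3 : ℕ := 0x22140140c30c00201205802427c500c001c29c5300a10828c520c61562c42704a0522c05281709e0300689b0ac154248510a40cc0c0590b409c0d01908806c11822144244160151062081909503804c578c513c074080c11322600b05305e0b84508f1342744e0a11582144a00f11c2fc638890f02ec548aa0002e0008c2006008340050d61a83686f0ea2d04605f1881b0440bc0ec0ec1e05c0e410c2106e0400fc2006208e134590ae11a1302087b1661c0388371742e4568b516c25c3e0bd17c22c3f07d1501fc4388607c0b44807903e0784b0311001dc258610742043a05d06a0d03d0b71262481302b06c0e41c03d0900841807305416c3182502815c228460c81503285e0ce1980206900e0180480b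
def t4 : ℕ := 0x17e1702e8b9032050628c60c62444807915214c300aa1740c84a8941562c42704a0882c05604909e1502b8af0720e01a83c0760e81b0a4146288538a60682845289b05c2d8288500f825c2d059038094110851040744707a0f62341401a03609c4508f1062106182f0460902c0c200c01434002006000058090e2004380070d81dc3b0110e61d0370720b6300608550fa1e03086218e0b41601508a2dc620460ac2581883008e134590ae150130240ad1662e05d84b13a2704c8a013e2784d04007e0f8218421300f4208371241485a8b40300cc5f0bd1002244302103c2041501602e0a44607e0fe22c1302b03e0802f89310e2205e05e0d41a4020660ce1903786d01a1940606b01004c0907501e0400500e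
def i3 : ℕ := 0xea2d04605f1881b0440bc0ec0ec1e05c0e410c2106e0400fc2006208e134590ae11a1302087b1661c0388371742e4568b516c25c3e0bd17c22c3f07d1501fc4388607c0b44807903e0784b0311001dc258610742043a05d06a0d03d0b71262481302b06c0e41c03d0900841807305416c3182502815c228460c81503285e0ce1980206900e0180480b022140140c30c00201205802427c500c001c29c5300a10828c520c61562c42704a0522c05281709e0300689b0ac154248510a40cc0c0590b409c0d01908806c11822144244160151062081909503804c578c513c074080c11322600b05305e0b84508f1342744e0a11582144a00f11c2fc638890f02ec548aa0002e0008c2006008340050d61a83686f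
def i4 : ℕ := 0xb6300608550fa1e03086218e0b41601508a2dc620460ac2581883008e134590ae150130240ad1662e05d84b13a2704c8a013e2784d04007e0f8218421300f4208371241485a8b40300cc5f0bd1002244302103c2041501602e0a44607e0fe22c1302b03e0802f89310e2205e05e0d41a4020660ce1903786d01a1940606b01004c0907501e0400500e17e1702e8b9032050628c60c62444807915214c300aa1740c84a8941562c42704a0882c05604909e1502b8af0720e01a83c0760e81b0a4146288538a60682845289b05c2d8288500f825c2d059038094110851040744707a0f62341401a03609c4508f1062106182f0460902c0c200c01434002006000058090e2004380070d81dc3b0110e61d037072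
def tz : ℕ := 0xc6188308600be1782e85c0b61682c8580ae1582a8540a61482885009e1382684c0961282484808e118228440861082084007e0f81e83c0760e81c83806e0d81a8340660c81883005e0b81682c0560a81482804e098128240460881082003e0780e81c0360680c81802e0580a8140260480881001e0380680c0160280480800e018028040060080080018e318628c4186308608c017e2f85e8bc1762e85c8b816e2d85a8b41662c8588b015e2b8568ac1562a8548a814e298528a4146288508a013e2784e89c1362684c89812e2584a8941262484889011e2384688c1162284488810e21842884106208408800fe1f83e87c0f61e83c8780ee1d83a8740e61c8388700de1b83686c0d61a8348680ce19832864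
/-- the signed graph -/
def SG : ℕ := 0x402000c000e2200018600206020419800470108038018a10861204040041122a11140538101202170000024008000028008904040200068241228b82c4202202889000028004000012000800400440088044422081250054003200d2400381801081010030c4440c11884400c0081003402008120c000000201818261a023880000200004100081014030830192c00820182081098205880880000253280300184244802a0122000004080482600504111100000a90140490228120802260040800c0040205900032048610000620000006001c0040200026380d84cc00030201089c600c0302000000084520830020001800c0a40c1800a10e40026000000204000061801c0880486118475000300003020040811443000110000080840a4a00041304a1a4100900c0801000450004200142804040680102500a8030a1808022420846000000c000084008a9028021442008008054225a40094120c800800044000c0002440c18108844010010921146022620242400002400084000810288a0160201400250109a10050134140a004004002a00000809150029900a4012090b5000420488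90002802002000030030803800302018c9840027881000300018a1063c0020000000f00c0008451c84200598c1800040000600020000081023102400944023110a051802c44240018020080080122280000020400126814aa0a0048400801068a8011480000050010600019802303000184f00686600060030500030000000c170990001800205000660300000606000c18043000000180c3d40020240502190200a8c00100110100042408408040208684a80c380020c0010181122400006000000400a00244221089264121100004409000840331160089200103014244808100000a51200000000904c110484d002008001040a222026a10200054c0132040008c811052042040001000000a00100c2814890229a000a00303010568204140110020000008404081108941484800001420010108012a10014055810010068604290808440302001004010102941005000600a20009008881c420d5002c08012e308000200208240020524010080000a0c113080420d000980402221a0052c83080428c04980418000002002800980100040004338400254440403c10586904800000010020c0600080080a884054012001008655512240010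908100021080410080040046f0840008320600c08a01c00010160001005011200040030106080270144a08400164443308000600008040021061200001194400900a0195c000832804080101400040040008a1040110682d120009005a1208029208000808080004080a1440004121000e2001000100ae087400c00000150e280803100000a01300c19620008000c4113002003300060490160003000060444008c2099040400c0028a0004804400200c08800000024b232011109c0c2480000680480110049004040006400200031988c0040083844340000a07840008086084040008208b028020010508018148820110810259224a8281000003000010015a200001809020004a020040505511006082004081048009008084429012802500a0200058a90022802242400110390000004110851040803a00110008440420cc009284800002c500000f002004a08000580900001400000642c0801b90000528848280a0800084600066060618000200000003a0080801000c04701940c606000c601008610030822300191800083e00600180001000000600c3002544013014003085050841040180142050200080002062842484080802008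0010880401a0090121058492028800440140540920140040000480410c00600208202a42a1020410a20600a00060206c1800c08c38060000e0806400003060000000030c38080120001806010006018a00031065982608000300016000c01c81015a0014820008302100000480200a2200009048206290104a050000100109200900023820022854840401044802154144000a00011001c000124250c20a0009920230818200081011010000c110940008884aa00502010a12840411650000002029000014242149802000031901400c50080502062410040006002c100a2400a441a000c81000180200010c110020402024826000280300a00810010449004442040d000158200ca02820c800001080a10080170200014005210014a40292280016104030240800034000800a20102204020204a0c0a15012500a00021542080008320000004020d2400115023810412c0200250081098002a5420106800024a0a140102001080c03010001008401c4814204c020a22048900309000040048030008c004201000232916d400488404c000812001410000108041068081020104094801c289004240404142500601000081042301494000000c0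284880a0081401900218000526503000401420c0824064200000180150030a022000050084d8904400c082008c12008850000028000880c846004002011aa2022803410003010a90000a000a0000c00100a8448c001014d04409028228a0018102040400880040300800cc0440602005248812040301400a01001813002400041004800600001092440302c2008884680424001481140a000409011002200c2008020c90a1150120540120046100900020201200d000408082040140a040280a1069011016401001405010821220040140000a008460202112c0890a8080a0010600a180400810c00010000320818821020448212430a040c0242400e1080122120000044080004030422d009002845610800022400100006108361010c00000308080012929088e000370000c00006000009446186000100000808018d016800238c088000338001c21880520000001800004002010416420214b32240004990084380402580200000000080c3008208218311001c3000860103000804a01404001300011404824a28840002165440080442a0000000411640900200800210cca030408409006a0002812da0000000060a00600400200520352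642200400c094000842c954508a00000006284005100220884000449c108010802000020c01000290888220040001220512415480410008a2a00208a242411400001091142182400510104002206412002900100011000084011800619800000804c44b44850010888001100828040503010009320244d04a0004102880051100800012d00100000a02282002a248a82151000320400409120042202428000008a920901100808c1090a010080404840288b0c000006400008440402117440040c0002000010a0a108088010202f0844400040004594010458078021050000b23002822d000000210800008000da08020594484048c00000a4200464520013004010000080082c402042615010a29000221110224890004080900040010101a1204402aa01204320004508000588a080194000040006020419800470108038018a1000402000c000e2200018600200120217000002400800002800861204040041122a11140538102202889000028004000012008904040200068241228b82c42054003200d24003818010810108004004400880444220812503402008120c000000201818260030c4440c11884400c0081004030830192c0082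01820810981a0238800002000041000810144802a0122000004080482600205880880000253280300184220802260040800c0040205900504111100000a9014049022810040200026380d84cc0003020032048610000620000006001c830020001800c0a40c1800a101089c600c03020000000845200880486118475000300003020e40026000000204000061801c4a00041304a1a4100900c0801040811443000110000080840a02500a8030a1808022420846000045000420014280404068012008008054225a40094120c8000000c000084008a90280214444010010921146022620242400800044000c0002440c18108801400250109a10050134140a00002400084000810288a016020a4012090b50004204889000204004002a000008091500299018c9840027881000300018a10802002000030030803800302084200598c180004000060002063c0020000000f00c0008451c051802c442400180200800801000081023102400944023110a048400801068a80114800000522280000020400126814aa0a0686600060030500030000000c0010600019802303000184f0000606000c18043000000180c3170990001800205000660300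00110100042408408040208684d40020240502190200a8c001006000000400a0024422108926a80c380020c00101811224000089200103014244808100000a4121100004409000840331160008001040a222026a1020005451200000000904c110484d00201000000a00100c2814890229c0132040008c81105204204000200000084040811089414848a000a00303010568204140110581001006860429080844030200001420010108012a100140520009008881c420d5002c0801001004010102941005000600a0080000a0c113080420d000982e3080002002082400205240180418000002002800980100040402221a0052c83080428c049904800000010020c0600080080004338400254440403c1058600109081000210804100800400a884054012001008655512240010160001005011200040030046f0840008320600c08a01c00800060000804002106120000106080270144a084001644433080101400040040008a1040111194400900a0195c000832804000808080004080a1440004120682d120009005a12080292080000150e280803100000a01301000e2001000100ae087400c000060490160003000060444000c196200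08000c41130020033400200c08800000024b2320118c2099040400c0028a0004804004040006400200031988c004109c0c2480000680480110049084040008208b0280200105080083844340000a078400080861000003000010015a20000180018148820110810259224a82820040810480090080844290129020004a020040505511006082400110390000004110851040802500a0200058a90022802244800002c500000f002004a080803a00110008440420cc00928b90000528848280a08000846000580900001400000642c080180801000c04701940c606000c0066060618000200000003a0083e00600180001000000600c3601008610030822300191800040180142050200080002062840025440130140030850508410090121058492028800440140524840808020080010880401a00208202a42a1020410a20600a40920140040000480410c0060e0806400003060000000030c300060206c1800c08c38060000031065982608000300016000c8080120001806010006018a00000480200a22000090482062901c81015a001482000830210038200228548404010448021540104a05000010010920090002c20a0009920230818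20008101144000a00011001c00012425002010a12840411650000002021010000c110940008884aa005400c5008050206241004000609000014242149802000031901180200010c11002040202482602c100a2400a441a000c8100042040d000158200ca02820c80000280300a008100104490044210014a4029228001610403020001080a100801702000140050204a0c0a15012500a000215440800034000800a201022040215023810412c02002500810982080008320000004020d240012001080c03010001008401c48002a5420106800024a0a1401040048030008c004201000232914204c020a220489003090000000108041068081020104094816d400488404c00081200141000081042301494000000c028401c28900424040414250060103000401420c08240642000001880a0081401900218000526504400c082008c120088500000280150030a022000050084d8902803410003010a90000a000a08000880c846004002011aa20209028228a0018102040400880000c00100a8448c001014d04412040301400a0100181300240040300800cc04406020052488c2008884680424001481140a00041004800600001092440302a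11501205401200461009000200409011002200c2008020c9040280a10690110164010014050201200d000408082040140a0202112c0890a8080a0010600a010821220040140000a00846021020448212430a040c024240180400810c00010000320818830422d00900284561080002240e108012212000004408000408080012929088e000370000c000100006108361010c0000030808018d016800238c088000330006000009446186000100000002010416420214b3224000498001c218805200000018000040c3008208218311001c3000869008438040258020000000008404824a2884000216544008040103000804a01404001300011210cca030408409006a00028142a0000000411640900200800520352642200400c0940008422da0000000060a00600400200220884000449c108010802000c954508a0000000628400510020512415480410008a2a00208020c0100029088822004000125101040022064120029001000a2424114000010911421824004c44b4485001088800110082811000084011800619800000804102880051100800012d00100040503010009320244d04a0003204004091200422024280000000a02282002a248a8215100080404840288b0c0000064000008a920901100808c1090a010010a0a108088010202f08444008440402117440040c0002000000b23002822d0000002108000040004594010458078021050000a420046452001300401000008000da08020594484048c0002211102248900040809000400080082c402042615010a290004508000588a0801940000400010101a1204402aa0120432000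
/-- a spanning tree and its levels -/
def tp : ℕ := 0x220000681d05e000148000220c4080500000341482f01a0341681001a0b40682f022040100110520000680000004008011000034088160000740002d01a080148160000340801609e0f80881001a04008800000058080000220000801007c0340682001a0ac068160220401d03e08a0c41583a0520001001608a0580682001a040088110200580880d0200341780003a0800682b01a0a40680003a044088100200400b0000000800003a03a0c414800020058000160200741584d0220001001105a0001001003a0440800d05e0440000d000034000110000340002902c0440881d01a0b40b00005e1140002d0560581001002000006811040074000000620580004d01a0740e82b02c0740b01d08a04022800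
def tl : ℕ := 0x40040100200400401001004008010020020080100200400801002004008010020040080100200400401001002008010020020080100200200800802004008010020020080100200400801002004008010010020080100100400401002004008010020040080100200400801002004008010020040040100200400801002004008010020040080100200400801001004008010020040080100100400801002004008010010020080080200400801001004008008020040080100200400401002004004010020040080100200400800802002008008020020080080200400801002004008010010040080080200400801002004004010020040080080100400800802004008010020040080100200400801000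
/-- the words of the commutators -/
def PA : List (List ℕ × List ℕ) := [
  ([], []),
  ([3, 2, 3], [2]),
  ([2, 3, 2, 3, 4, 1, 2, 3, 0, 1, 0, 1, 2, 3, 4, 1, 2, 3], [0, 1, 2, 3, 4, 2, 3, 0, 1, 2, 3, 0, 1, 2, 3, 4, 3, 2, 0]),
  ([0, 1, 0], [1]),
  ([1], [2]),
  ([2, 3, 1, 2, 3, 4, 3, 2, 3, 0, 1, 0, 1, 2, 3, 4, 1, 2, 3, 2], [3, 4, 3, 0, 1, 0, 1]),
  ([3, 2, 0, 1, 0], [2, 3, 4, 1, 2, 3, 1, 0, 1, 2, 3, 4, 2, 3, 1, 2]),
  ([2, 3, 2, 1], [2, 3]),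
  ([3, 1, 2, 3, 2, 1, 0, 1, 2, 3, 4, 2, 3, 0, 1, 2, 3, 2, 1, 0], [3, 4, 2, 3, 1, 2]),
  ([2, 3, 4, 2, 3, 2], [2, 3, 1, 2, 3, 4, 3, 2, 3, 1, 2, 3, 4, 3, 2, 1]),
  ([3, 4, 0, 1, 2, 3, 2, 1, 0, 1, 2, 3, 1, 0], [3, 4, 3, 2, 3, 0, 1, 2, 3, 4, 2]),
  ([1, 2, 3, 2, 0, 1, 0, 1, 2, 3, 4, 3, 2, 3, 1, 2, 3, 2, 1], [3, 4, 3, 0]),
  ([3, 2, 3, 4, 3, 0, 1, 2, 3, 0, 1, 2, 3, 2, 1, 0, 1, 2, 3, 4, 3], [3, 4, 2, 1, 0, 1, 0]),
  ([2, 3, 4, 2, 3, 1, 2, 3, 4, 3, 2, 3, 1, 2, 3, 1, 2, 1, 0, 1], [4, 0]),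
  ([4, 3, 2, 3, 4, 3], [1, 2, 3, 4, 2, 3, 0, 1, 2, 3, 1, 2, 1]),
  ([3, 1, 0, 1, 2, 3, 1, 2, 0, 1], [2, 3, 4, 2, 3, 1, 2, 3, 4]),
  ([3, 1], [3, 0, 1, 2, 3, 4, 3, 2, 3, 2, 1, 0, 1, 2, 3, 4, 1, 2, 3, 1, 2]),
  ([1, 0, 1, 2, 3, 4, 1, 2, 3, 1, 2, 3, 4, 1, 2, 3, 2, 1, 0, 1], [3, 4, 3, 0]),
  ([4, 2, 3, 0, 1, 2, 1, 0], [4, 3, 2, 1, 0, 1, 2, 3, 4, 2, 3, 1, 2, 3, 2, 1]),
  ([4, 3, 2, 0], [4, 0, 1, 2]),
  ([3, 2, 1], [2, 3, 4, 3, 0, 1])]
def PB : List (List ℕ × List ℕ) := [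
  ([4, 2], [4, 3, 0, 1, 2, 3, 4, 3, 1, 2, 3, 1, 2, 3, 4, 3, 1, 2, 3, 1]),
  ([4, 2], [3, 1, 2, 3, 4, 1, 2, 3, 1, 2, 3, 4, 1, 2, 3, 0, 1]),
  ([0, 1, 2, 3, 4, 2, 3, 0, 1, 2, 3, 0, 1, 2, 3, 4, 3, 2, 0], [2, 3, 2, 3, 4, 1, 2, 3, 0, 1, 0, 1, 2, 3, 4, 1, 2, 3]),
  ([4, 0], [3, 2, 3, 4, 2, 3, 1, 2, 3, 1, 2, 3, 4, 1, 2, 3, 2, 3, 1, 0, 1, 2]),
  ([4, 1], [3, 4, 2, 3, 0, 1, 2, 3, 4, 2, 3, 1, 2, 3, 0, 1, 0, 1, 2, 0]),
  ([2, 3, 4, 1, 0, 1, 2, 3, 2, 3], [4, 3, 1, 2, 3, 1, 0, 1, 2, 3, 4, 3, 2, 3, 0, 1]),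
  ([3], [4]),
  ([3, 4, 2, 3, 2, 3, 1, 2, 3, 4, 2, 3, 1, 2, 3, 1], [4, 2, 0]),
  ([2, 3, 4, 0, 1, 0, 1], [2, 3, 4, 2, 3, 0, 1, 2, 3, 2, 1, 0, 1, 2, 3, 4, 1, 2, 3, 2]),
  ([3], [4, 2, 3, 2]),
  ([3, 4, 3, 2, 3, 1, 0, 1, 2, 3, 4, 0, 1, 2, 3, 2, 3, 1, 2, 3, 4, 3, 0], [3, 2, 1]),
  ([3, 1, 2, 0, 1, 0, 1], [4, 2, 0]),
  ([4, 3, 2, 3, 4, 3, 2, 3, 1, 2, 3, 4, 2, 1, 0, 1, 2], [3, 4, 2, 3, 1, 2, 3]),
  ([3, 0], [4, 1, 0, 1]),
  ([3], [2]),
  ([2, 3, 4], [3, 2, 0, 1]),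
  ([2, 1, 0, 1, 0], [3, 1]),
  ([3, 4, 3, 0], [2, 3, 1, 0, 1]),
  ([2, 3, 1, 2, 3, 2, 1, 0, 1, 2, 1], [3, 2, 0, 1, 0, 1, 2, 3, 4, 3, 0]),
  ([1, 0, 1, 2], [3, 4, 3, 2, 3, 1, 2, 3, 1, 0, 1, 2, 3, 4, 3, 2]),
  ([4, 3, 2, 3, 1, 2, 1, 0], [3, 2, 3, 4, 3, 2, 3, 1, 2, 3, 1, 0])]


/-! ### the permutations of 200 points -/

theorem c0 : chkInv 200 t0 t0 = true := by decide +kernel
theorem c1 : chkInv 200 t1 t1 = true := by decide +kernel
theorem c2 : chkInv 200 t2 t2 = true := by decide +kernel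
theorem c3 : chkInv 200 t3 i3 = true := by decide +kernel
theorem c4 : chkInv 200 t4 i4 = true := by decide +kernel
theorem cz : chkInv 200 tz tz = true := by decide +kernel

theorem s0 : chkAutBlk 200 SG t0 0 200 = true := by decide +kernel
theorem s1 : chkAutBlk 200 SG t1 0 200 = true := by decide +kernel
theorem s2 : chkAutBlk 200 SG t2 0 200 = true := by decide +kernel
theorem s3 : chkAutBlk 200 SG t3 0 200 = true := by decide +kernel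
theorem s4 : chkAutBlk 200 SG t4 0 200 = true := by decide +kernel
theorem sz : chkAutBlk 200 SG tz 0 200 = true := by decide +kernel

/-- the antipodal map -/
def Z : Perm (Fin 200) := mkPerm tz tz cz

/-- the lifts of the generators -/
def q (k : ℕ) : Perm (Fin 200) := match k with
  | 0 => mkPerm t0 t0 c0
  | 1 => mkPerm t1 t1 c1
  | 2 => mkPerm t2 t2 c2
  | 3 => mkPerm t3 i3 c3
  | _ => mkPerm t4 i4 c4

def qt (k : ℕ) : ℕ := match k with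
  | 0 => t0
  | 1 => t1
  | 2 => t2
  | 3 => t3
  | _ => t4

def qi (k : ℕ) : ℕ := match k with
  | 0 => t0
  | 1 => t1
  | 2 => t2
  | 3 => i3
  | _ => i4

theorem q_val (k : ℕ) (i : Fin 200) : (q k i : ℕ) = lk (qt k) i := by
  match k with
  | 0 => rfl
  | 1 => rfl
  | 2 => rfl
  | 3 => rfl
  | (n + 4) => rfl

theorem q_inv (k : ℕ) (i : Fin 200) : ((q k)⁻¹ i : ℕ) = lk (qi k) i := by
  match k with
  | 0 => rfl
  | 1 => rfl
  | 2 => rfl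
  | 3 => rfl
  | (n + 4) => rfl

theorem q_aut (k : ℕ) : q k ∈ autG 200 SG := by
  match k with
  | 0 => exact mkPerm_mem_autG c0 (rowsOK_of_chk (chkInv_lt c0) (chkInv_inj c0) s0)
  | 1 => exact mkPerm_mem_autG c1 (rowsOK_of_chk (chkInv_lt c1) (chkInv_inj c1) s1)
  | 2 => exact mkPerm_mem_autG c2 (rowsOK_of_chk (chkInv_lt c2) (chkInv_inj c2) s2)
  | 3 => exact mkPerm_mem_autG c3 (rowsOK_of_chk (chkInv_lt c3) (chkInv_inj c3) s3)
  | (n + 4) => exact mkPerm_mem_autG c4 (rowsOK_of_chk (chkInv_lt c4) (chkInv_inj c4) s4)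

theorem Z_aut : Z ∈ autG 200 SG := mkPerm_mem_autG cz (rowsOK_of_chk (chkInv_lt cz) (chkInv_inj cz) sz)

theorem Z_val (i : Fin 200) : (Z i : ℕ) = lk tz i := rfl

theorem Z_chk : allB (fun i => Nat.beq (lk tz i) (Nat.mod (Nat.add i 100) 200)) 200 = true := by decide +kernel

theorem Z_eq (i : Fin 200) : (Z i : ℕ) = ((i : ℕ) + 100) % 200 :=
  Nat.eq_of_beq_eq_true ((allB_iff _ _).1 Z_chk i i.2)

theorem Z_sq : Z * Z = 1 := by
  ext i
  rw [Perm.mul_apply, Z_eq, Z_eq, Perm.one_apply]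
  omega

/-- the pair of a point -/
def bl (x : Fin 200) : Fin 100 := ⟨(x : ℕ) % 100, Nat.mod_lt _ (by norm_num)⟩

theorem bl_Z (x : Fin 200) : bl (Z x) = bl x := by
  apply Fin.ext
  change (Z x : ℕ) % 100 = (x : ℕ) % 100
  rw [Z_eq]
  omega

theorem eq_or_of_bl {x y : Fin 200} (h : bl x = bl y) : x = y ∨ x = Z y := by
  have h1 : (x : ℕ) % 100 = (y : ℕ) % 100 := congrArg Fin.val h
  by_cases h2 : x = y
  · exact Or.inl h2
  · right
    apply Fin.ext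
    rw [Z_eq]
    have h3 : (x : ℕ) ≠ y := fun h => h2 (Fin.ext h)
    (clear * - h1 h3; solve | lia | omega)

/-! ### the cover -/

/-- the double cover -/
def W : Subgroup (Perm (Fin 200) × G) where
  carrier := {p | p.1 ∈ autG 200 SG ∧ p.1 * Z = Z * p.1 ∧ ∀ x : Fin 200, bl (p.1 x) = (p.2 : Perm (Fin 100)) (bl x)}
  one_mem' := ⟨one_mem _, by rw [Prod.fst_one, one_mul, mul_one], fun x => rfl⟩
  mul_mem' := by
    rintro p r ⟨h1, h2, h3⟩ ⟨k1, k2, k3⟩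
    refine ⟨mul_mem h1 k1, ?_, fun x => ?_⟩
    · rw [Prod.fst_mul, mul_assoc, k2, ← mul_assoc, h2, mul_assoc]
    · rw [Prod.fst_mul, Perm.mul_apply, h3, k3]
      rfl
  inv_mem' := by
    rintro p ⟨h1, h2, h3⟩
    refine ⟨inv_mem h1, ?_, fun x => ?_⟩
    · rw [Prod.fst_inv, eq_comm, mul_inv_eq_iff_eq_mul, mul_assoc, ← h2, inv_mul_cancel_left]
    · have h4 := h3 (p.1⁻¹ x)
      rw [← Perm.mul_apply, mul_inv_cancel, Perm.one_apply] at h4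
      change bl (p.1⁻¹ x) = (p.2 : Perm (Fin 100))⁻¹ (bl x)
      rw [h4, ← Perm.mul_apply, inv_mul_cancel, Perm.one_apply]

theorem mem_W {p : Perm (Fin 200) × G} : p ∈ W ↔ p.1 ∈ autG 200 SG ∧ p.1 * Z = Z * p.1 ∧
    ∀ x : Fin 200, bl (p.1 x) = (p.2 : Perm (Fin 100)) (bl x) := Iff.rfl

theorem tree_chk : allB (fun y => cond (Nat.beq y 0) true (band (Nat.blt (lk tp y) 200)
    (band (Nat.blt (lk tl (lk tp y)) (lk tl y)) (band (Nat.beq (bitM 200 SG (lk tp y) y) 1)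
    (Nat.beq (bitM 200 SG (lk tp y) (lk tz y)) 0))))) 200 = true := by decide +kernel

theorem eq_one_of_fix {f : Perm (Fin 200)} (hf : f ∈ autG 200 SG) (hb : ∀ x, bl (f x) = bl x) (h0 : f 0 = 0) :
    f = 1 := by
  have key : ∀ n : ℕ, ∀ y : Fin 200, lk tl y = n → f y = y := by
    intro n
    induction n using Nat.strong_induction_on with
    | _ n ih =>
      intro y hy
      by_cases hy0 : y = 0
      · rw [hy0]; exact h0
      · have h1 := (allB_iff _ _).1 tree_chk y y.2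
        have h2 : Nat.beq (y : ℕ) 0 = false := by
          rw [← Bool.not_eq_true, Nat.beq_eq]
          exact fun h => hy0 (Fin.ext h)
        rw [h2, cond_false, band_eq_true, band_eq_true, band_eq_true, Nat.blt_eq, Nat.blt_eq, Nat.beq_eq,
          Nat.beq_eq] at h1
        obtain ⟨hp, hl, he, hne⟩ := h1
        have h3 := ih _ (by rw [← hy]; exact hl) ⟨lk tp y, hp⟩ rfl
        have h4 := hf ⟨lk tp y, hp⟩ y
        rw [h3] at h4
        rcases eq_or_of_bl (hb y) with h5 | h5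
        · exact h5
        · exfalso
          rw [h5, Z_val] at h4
          change bitM 200 SG (lk tp y) (lk tz y) = bitM 200 SG (lk tp y) y at h4
          rw [he, hne] at h4
          exact absurd h4 (by norm_num)
  ext1 y
  exact key _ y rfl

theorem ker_W {p : Perm (Fin 200) × G} (hp : p ∈ W) (h : p.2 = 1) : p = 1 ∨ p = (Z, 1) := by
  obtain ⟨h1, h2, h3⟩ := hp
  rw [h] at h3
  have h3' : ∀ x, bl (p.1 x) = bl x := h3
  rcases eq_or_of_bl (h3' 0) with h4 | h4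
  · exact Or.inl (Prod.ext (eq_one_of_fix h1 h3' h4) h)
  · right
    refine Prod.ext ?_ h
    have h5 : Z * p.1 = 1 := by
      refine eq_one_of_fix (mul_mem Z_aut h1) (fun x => ?_) ?_
      · rw [Perm.mul_apply, bl_Z, h3']
      · rw [Perm.mul_apply, h4, ← Perm.mul_apply, Z_sq, Perm.one_apply]
    have h6 : p.1 = Z * (Z * p.1) := by rw [← mul_assoc, Z_sq, one_mul]
    rw [h6, h5, mul_one]

/-- elements with the same image in `J₂` and the same image of a point are equal -/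
theorem eq_of {p r : Perm (Fin 200) × G} (hp : p ∈ W) (hr : r ∈ W) (h2 : p.2 = r.2) (h0 : p.1 0 = r.1 0) : p = r := by
  have h1 : (r⁻¹ * p).2 = 1 := by
    rw [Prod.snd_mul, Prod.snd_inv, h2, inv_mul_cancel]
  have h3 : (r⁻¹ * p).1 0 = 0 := by
    rw [Prod.fst_mul, Prod.fst_inv, Perm.mul_apply, h0, ← Perm.mul_apply, inv_mul_cancel, Perm.one_apply]
  rcases ker_W (mul_mem (inv_mem hr) hp) h1 with h | h
  · exact (inv_mul_eq_one.1 h).symm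
  · exfalso
    rw [h] at h3
    have h4 := congrArg Fin.val h3
    change (Z 0 : ℕ) = 0 at h4
    rw [Z_eq] at h4
    exact absurd h4 (by norm_num)

/-! ### words -/

/-- the generators of the cover -/
noncomputable def ug (k : ℕ) : Perm (Fin 200) × G := (q k, ⟨gen k, gen_mem k⟩)

theorem blk_chk : allB (fun k => allB (fun x => Nat.beq (Nat.mod (lk (qt k) x) 100) (lk (tab k) (Nat.mod x 100))) 200) 5
    = true := by decide +kernel

theorem com_chk : allB (fun k => allB (fun x => Nat.beq (lk (qt k) (lk tz x)) (lk tz (lk (qt k) x))) 200) 5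
    = true := by decide +kernel

theorem ug_mem' {k : ℕ} (hk : k < 5) : ug k ∈ W := by
  refine ⟨q_aut k, ?_, fun x => ?_⟩
  · ext x
    change (q k (Z x) : ℕ) = (Z (q k x) : ℕ)
    rw [q_val, Z_val, Z_val, q_val]
    exact Nat.eq_of_beq_eq_true ((allB_iff _ _).1 ((allB_iff _ _).1 com_chk k hk) x x.2)
  · apply Fin.ext
    change (q k x : ℕ) % 100 = (gen k (bl x) : ℕ)
    rw [q_val, gen_val]
    exact Nat.eq_of_beq_eq_true ((allB_iff _ _).1 ((allB_iff _ _).1 blk_chk k hk) x x.2)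

theorem ug_mem (k : ℕ) : ug k ∈ W := by
  by_cases hk : k < 5
  · exact ug_mem' hk
  · have h : ug k = ug 4 := by
      obtain ⟨n, rfl⟩ : ∃ n, k = n + 4 := ⟨k - 4, by omega⟩
      rfl
    rw [h]
    exact ug_mem' (by norm_num)

/-- the element of a word -/
noncomputable def uw : List ℕ → Perm (Fin 200) × G
  | [] => 1
  | k :: L => ug k * uw L

/-- images of points under a word and its inverse -/
def rn : List ℕ → ℕ → ℕ
  | [], x => x
  | k :: L, x => lk (qt k) (rn L x)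

def ri : List ℕ → ℕ → ℕ
  | [], x => x
  | k :: L, x => ri L (lk (qi k) x)

theorem uw_mem (L : List ℕ) : uw L ∈ W := by
  induction L with
  | nil => exact one_mem _
  | cons k L ih => exact mul_mem (ug_mem k) ih

theorem uw_snd (L : List ℕ) : (uw L).2 = gw L := by
  induction L with
  | nil => rfl
  | cons k L ih =>
    change (ug k).2 * (uw L).2 = gw (k :: L)
    rw [ih]
    apply Subtype.ext
    change gen k * pw L = pw (k :: L)
    rw [pw_cons]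

theorem uw_val (L : List ℕ) (x : Fin 200) : ((uw L).1 x : ℕ) = rn L x := by
  induction L with
  | nil => rfl
  | cons k L ih =>
    change (q k ((uw L).1 x) : ℕ) = _
    rw [q_val, ih]
    rfl

theorem uw_inv (L : List ℕ) (x : Fin 200) : ((uw L).1⁻¹ x : ℕ) = ri L x := by
  induction L generalizing x with
  | nil => rfl
  | cons k L ih =>
    change ((q k * (uw L).1)⁻¹ x : ℕ) = _
    rw [mul_inv_rev, Perm.mul_apply, ih, q_inv]
    rfl

/-- `gw` of the commutator word -/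
theorem gw_cw (A B : List ℕ) : gw (A ++ B ++ A.reverse ++ B.reverse) = gw A * gw B * (gw A)⁻¹ * (gw B)⁻¹ := by
  rw [gw_append, gw_append, gw_append, gw_reverse, gw_reverse]

theorem z_mem : ((Z, 1) : Perm (Fin 200) × G) ∈ W := ⟨Z_aut, rfl, fun x => bl_Z x⟩

/-- the two certificates -/
theorem comm_of {L A B : List ℕ} {s : ℕ} (h : ∀ i < 4, run L (bs i) = run (A ++ B ++ A.reverse ++ B.reverse) (bs i))
    {r : Perm (Fin 200) × G} (hr : r ∈ W) (h2 : r.2 = gw L) (h0 : (r.1 0 : ℕ) = s)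
    (h1 : s = rn A (rn B (ri A (ri B 0)))) : r = uw A * uw B * (uw A)⁻¹ * (uw B)⁻¹ := by
  refine eq_of hr (mul_mem (mul_mem (mul_mem (uw_mem A) (uw_mem B)) (inv_mem (uw_mem A))) (inv_mem (uw_mem B))) ?_ ?_
  · rw [h2, Prod.snd_mul, Prod.snd_mul, Prod.snd_mul, Prod.snd_inv, Prod.snd_inv, uw_snd, uw_snd, ← gw_cw]
    exact Subtype.ext (pw_eq_of_base h)
  · apply Fin.ext
    rw [Prod.fst_mul, Prod.fst_mul, Prod.fst_mul, Prod.fst_inv, Prod.fst_inv, Perm.mul_apply, Perm.mul_apply,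
      Perm.mul_apply, uw_val, uw_val, uw_inv, uw_inv, h0]
    exact h1

def gp (P : List (List ℕ × List ℕ)) (j : ℕ) : List ℕ × List ℕ := P.getD j ([], [])

set_option maxRecDepth 100000 in
theorem chkA : ∀ j < 21, (∀ i < 4, run (rL j) (bs i) =
    run ((gp PA j).1 ++ (gp PA j).2 ++ (gp PA j).1.reverse ++ (gp PA j).2.reverse) (bs i)) ∧
    rn (rL j) 0 = rn (gp PA j).1 (rn (gp PA j).2 (ri (gp PA j).1 (ri (gp PA j).2 0))) := by decide +kernel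

set_option maxRecDepth 100000 in
theorem chkB : ∀ j < 21, (∀ i < 4, run (rL j) (bs i) =
    run ((gp PB j).1 ++ (gp PB j).2 ++ (gp PB j).1.reverse ++ (gp PB j).2.reverse) (bs i)) ∧
    rn (rL j) 100 = rn (gp PB j).1 (rn (gp PB j).2 (ri (gp PB j).1 (ri (gp PB j).2 0))) := by decide +kernel

theorem isC_sub {A B : List ℕ} {r : W} (h : (r : Perm (Fin 200) × G) = uw A * uw B * (uw A)⁻¹ * (uw B)⁻¹) : IsC r :=
  ⟨⟨uw A, uw_mem A⟩, ⟨uw B, uw_mem B⟩, Subtype.ext h⟩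

/-! ### conclusion -/

/-- the projection -/
def pr : W →* G := (MonoidHom.snd (Perm (Fin 200)) G).comp W.subtype

theorem exists_word (g : G) : ∃ L : List ℕ, gw L = g := by
  obtain ⟨g, hg⟩ := g
  have h1 : ∃ L : List ℕ, pw L = g := by
    rw [G] at hg
    induction hg using Subgroup.closure_induction with
    | mem x hx =>
      rcases hx with rfl | rfl | rfl | rfl | rfl
      · exact ⟨[0], by rw [pw_cons, pw_nil, mul_one]; rfl⟩
      · exact ⟨[1], by rw [pw_cons, pw_nil, mul_one]; rfl⟩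
      · exact ⟨[2], by rw [pw_cons, pw_nil, mul_one]; rfl⟩
      · exact ⟨[3], by rw [pw_cons, pw_nil, mul_one]; rfl⟩
      · exact ⟨[4], by rw [pw_cons, pw_nil, mul_one]; rfl⟩
    | one => exact ⟨[], rfl⟩
    | mul x y _ _ hx hy =>
      obtain ⟨L, rfl⟩ := hx
      obtain ⟨M, rfl⟩ := hy
      exact ⟨L ++ M, pw_append L M⟩
    | inv x _ hx =>
      obtain ⟨L, rfl⟩ := hx
      exact ⟨L.reverse, pw_reverse L⟩
  obtain ⟨L, hL⟩ := h1
  exact ⟨L, Subtype.ext hL⟩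

theorem pr_surj : Function.Surjective pr := by
  intro g
  obtain ⟨L, rfl⟩ := exists_word g
  exact ⟨⟨uw L, uw_mem L⟩, uw_snd L⟩

def zz : W := ⟨(Z, 1), z_mem⟩

theorem zz_comm (u : W) : u * zz = zz * u := by
  apply Subtype.ext
  refine Prod.ext ?_ ?_
  · exact (mem_W.1 u.2).2.1
  · change (u : Perm (Fin 200) × G).2 * 1 = 1 * (u : Perm (Fin 200) × G).2
    rw [mul_one, one_mul]

theorem pr_ker (u : W) (h : pr u = 1) : u = 1 ∨ u = zz := by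
  rcases ker_W u.2 h with h | h
  · exact Or.inl (Subtype.ext h)
  · exact Or.inr (Subtype.ext h)

/-- **every element of `2.J₂` is a commutator** -/
theorem allC_W : AllC W := by
  refine allC_of_cover pr pr_surj pr_ker fun g => ?_
  obtain ⟨j, hj, c, hc⟩ := cover g
  refine ⟨⟨uw (rL j), uw_mem _⟩, ?_, ?_, c, hc.trans (uw_snd _).symm⟩
  · obtain ⟨h1, h2⟩ := chkA j hj
    refine isC_sub (comm_of h1 (uw_mem _) (uw_snd _) (uw_val _ 0) h2)
  · obtain ⟨h1, h2⟩ := chkB j hj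
    refine isC_sub (comm_of h1 (mul_mem (uw_mem _) z_mem) (s := rn (rL j) 100) ?_ ?_ h2)
    · change (uw (rL j)).2 * 1 = _
      rw [mul_one]
      exact uw_snd _
    · change ((uw (rL j)).1 (Z 0) : ℕ) = _
      rw [uw_val, Z_eq]
      rfl

theorem zz_ne : zz ≠ 1 := by
  intro h
  have h1 := congrArg (fun w : W => ((w : Perm (Fin 200) × G).1 0 : ℕ)) h
  change (Z 0 : ℕ) = 0 at h1
  rw [Z_eq] at h1
  exact absurd h1 (by norm_num)

theorem pce_pr : PCE pr where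
  surj := pr_surj
  cen := by
    intro u hu
    rw [Subgroup.mem_center_iff]
    intro v
    rcases pr_ker u hu with rfl | rfl
    · rw [mul_one, one_mul]
    · exact zz_comm v
  perf := perfect_of_allC allC_W

theorem card_ker : Nat.card pr.ker = 2 := by
  have h1 : (pr.ker : Set W) = {1, zz} := by
    ext u
    rw [SetLike.mem_coe, MonoidHom.mem_ker, Set.mem_insert_iff, Set.mem_singleton_iff]
    constructor
    · exact pr_ker u
    · rintro (rfl | rfl)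
      · exact map_one _
      · rfl
  have h2 : Nat.card pr.ker = (pr.ker : Set W).ncard := rfl
  rw [h2, h1, Set.ncard_pair zz_ne.symm]

/-- **the universal cover of `J₂`**: a perfect central extension with kernel of order two all of whose elements are
commutators -/
theorem exists_cover {K : Type*} [Group K] (h : Spor.IsoJ2 K) :
    ∃ π : W →* K, PCE π ∧ Nat.card π.ker = 2 ∧ AllC W := by
  obtain ⟨e⟩ := h
  obtain ⟨f⟩ := J2_iso S1619.result.2.2.2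
  let E : G ≃* K := (e.trans f).symm
  have hk : (E.toMonoidHom.comp pr).ker = pr.ker := by
    ext u
    rw [MonoidHom.mem_ker, MonoidHom.mem_ker]
    exact map_eq_one_iff E E.injective
  refine ⟨E.toMonoidHom.comp pr, ⟨E.surjective.comp pr_surj, ?_, pce_pr.perf⟩, ?_, allC_W⟩
  · rw [hk]
    exact pce_pr.cen
  · rw [hk]
    exact card_ker

/-- **row E2: `2.J₂`** -/
theorem row_j2 {K : Type*} [Group K] (h : Spor.IsoJ2 K) : H6.QO.RowA K := by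
  obtain ⟨π, h1, h2, h3⟩ := exists_cover (K := Spor.J2) ⟨MulEquiv.refl _⟩
  obtain ⟨e⟩ := h
  refine H6.QO.RowA.congr (H6.QO.RowA.of_univ S2040.result h1 ?_ h3) e.symm
  rw [h2, Nat.card_congr Multiplicative.toAdd, Nat.card_zmod]

end Cfsg.Agent.H109.QO.JTwo
end

-- part: H890/QON/Sieve
section
/-!
# The O'Nan group: products of two elements of order 15 (helper890)

`Δ.x` of order 15, `|C(Δ.x)| = 45`. `prd15` : every `g` with `|C(g)| ≤ 512` is a product of a conjugate of `Δ.x` and a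
conjugate of `Δ.x⁻¹`.
-/

set_option autoImplicit false
set_option linter.unusedSectionVars false

open Cfsg Subgroup
open scoped ComplexConjugate

namespace Cfsg.Agent.H890.QON

open Cfsg.Agent.Characters.Core
open Cfsg.Agent.H653.Sieve (IsCol deg deg_cast csum csum_eq_erase one_of_deg allDiv facProd)
open Cfsg.Agent.H653.Sys
open Cfsg.Agent.H210.On7 (Data rt rt_sq)
open Cfsg.Agent.H894.J4Two (apply_eq_of_isConj exists_col_rat orderOf_of_card orderOf_eq_of_isConj)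
open Cfsg.Agent.H535.K4.ON
open Cfsg.Agent.H535.Ore.ON
open Cfsg.Agent.H65.Ore (Prd)

universe u

variable {G : Type u} [Group G] [Finite G]

/-- the condition on the degree and the sum of the two values at the elements of order 15 -/
def condU (d : ℕ) (ws : List ℤ) : Bool :=
  let u := ws.getD 5 0
  Nat.ble (341 * u.natAbs) (6 * d) && (Nat.beq (u.natAbs % 2) 0 || Nat.ble 46872 d)

/-- the degrees -/
def chk15 (d : ℕ) : Bool :=
  Nat.ble NN (d * d) || Nat.beq d 1 || Nat.beq d 32 || Nat.beq d 837 || Nat.beq d 1178 || allV Gs d (condU d)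

theorem chk15_all : allDiv NN chk15 facs 1 = true := by
  refine Q3.pass (φ := fun d l => l.filter fun l => Nat.beq (((l.getD 1 0).natAbs * 2560086144) % d) 0) (k := fun d ws =>
    (Nat.ble NN (d * d) || Nat.beq d 1 || Nat.beq d 32 || Nat.beq d 837 || Nat.beq d 1178) || condU d ws)
    (by decide +kernel) fun d h => ?_
  rw [chk15]
  cases h1 : Nat.beq d 1
  · rw [h1, cond_false] at h
    revert h
    cases (Nat.ble NN (d * d) || false || Nat.beq d 32 || Nat.beq d 837 || Nat.beq d 1178)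
    · exact id
    · exact fun _ => rfl
  · rw [Bool.or_true]
    rfl

/-- the columns, with the values at the elements of order 15 -/
theorem exists_pieces' [IsSimpleGroup G] (hG : ¬ IsMulCommutative G) [Fintype (IrrCharacter G)] (Δ : Data G) :
    ∃ (A B C T F u v : IrrCharacter G → ℤ), FamOK (fun g : G => orderOf g) (primeFam 31 wl31 62 2 true 2) [A] ∧
      FamOK (fun g : G => orderOf g) (primeFam 19 wl19 57 3 true 3) [B] ∧
      FamOK (fun g : G => orderOf g) (primeFam 11 wl11 11 0 false 1) [C] ∧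
      (∀ χ : IrrCharacter G, (χ : G → ℂ) Δ.y = F χ) ∧ (∀ χ : IrrCharacter G, [T χ, F χ, u χ] ∈ fam3.vals (deg χ)) ∧
      (∀ χ : IrrCharacter G, (χ : G → ℂ) Δ.x + (χ : G → ℂ) (Δ.x ^ 2) = u χ) ∧
      (∀ χ : IrrCharacter G, (χ : G → ℂ) Δ.x - (χ : G → ℂ) (Δ.x ^ 2) = v χ * rt) ∧
      (∀ χ, (3 : ℤ) ∣ v χ) ∧ (∀ χ, (2 : ℤ) ∣ u χ + v χ) ∧ ∑ χ, u χ * u χ = 90 ∧ ∑ χ, v χ * v χ = 18 := by
  classical
  have hN : Nat.card G = NN := Δ.card
  obtain ⟨x31, o31, c31⟩ := exists_elt (G := G) (p := 31) (by norm_num) (by rw [Δ.card]; norm_num) Δ.h31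
  obtain ⟨x19, o19, c19⟩ := exists_elt (G := G) (p := 19) (by norm_num) (by rw [Δ.card]; norm_num) Δ.h19
  obtain ⟨x11, o11, c11⟩ := exists_elt (G := G) (p := 11) (by norm_num) (by rw [Δ.card]; norm_num) Δ.h11
  obtain ⟨A, hA⟩ := primeFam_ok hG hN o31 (k := 1) (by rw [c31]) 15 2 wl31 2 true num31 62 2 (by norm_num) (by norm_num)
  obtain ⟨B, hB⟩ := primeFam_ok hG hN o19 (k := 1) (by rw [c19]) 6 3 wl19 3 true num19 57 3 (by norm_num) (by norm_num)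
  obtain ⟨C, hC⟩ := primeFam_ok hG hN o11 (k := 1) (by rw [c11]) 10 1 wl11 0 false num11 11 1 (by norm_num) (by norm_num)
  have hz : ∀ w ∈ zpowers Δ.z, w ≠ 1 → IsConj w Δ.z := fun w hw h1 =>
    Δ.c3 w (orderOf_of_card Nat.prime_three (by rw [Nat.card_zpowers, Δ.oz]) hw h1)
  obtain ⟨T, cT, vT, qT⟩ := exists_col_rat Nat.prime_three Δ.oz hz
  obtain ⟨F, cF, vF, qF⟩ := exists_col_rat Nat.prime_five Δ.oy Δ.hy
  have dF : ∀ χ : IrrCharacter G, (5 : ℤ) ∣ (deg χ : ℤ) + 4 * F χ := fun χ => by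
    have h := cF.dvd χ
    rw [Nat.card_zpowers, Δ.oy] at h
    exact_mod_cast h
  obtain ⟨u, v, hu, hv, v3, uv2, d5, d9, qu, qv, -⟩ := Δ.exists_uv vT vF dF
  -- the pairs for the prime 5
  obtain ⟨P, W, hP, -, hcol, hok⟩ := H653.Sieve.exists_col hG hN Δ.oy (k := 36) (by rw [Δ.cy]) 4 1 wl5 0 false num5
  have hWF : ∀ χ : IrrCharacter G, W χ = F χ := by
    intro χ
    have hpg : IsPGroup 5 (zpowers Δ.y) := IsPGroup.of_card (n := 1) (by rw [Nat.card_zpowers, Δ.oy, pow_one])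
    obtain ⟨Q, hQ⟩ := hpg.exists_le_sylow
    have hQc : Nat.card Q = 5 := (Nat.card_congr (Q.equiv P).toEquiv).trans hP
    have hQy : (Q : Subgroup G) = zpowers Δ.y := by
      symm
      apply Subgroup.eq_of_le_of_card_ge hQ
      rw [Nat.card_zpowers, Δ.oy]
      exact hQc.le
    obtain ⟨g, hg⟩ := MulAction.exists_smul_eq G P Q
    have hconj : ∀ w ∈ (P : Subgroup G), w ≠ 1 → IsConj w Δ.y := by
      intro w hw h1
      have h2 : g * w * g⁻¹ ∈ zpowers Δ.y := by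
        rw [← hQy, ← hg]
        rw [Sylow.coe_subgroup_smul]
        exact Subgroup.smul_mem_pointwise_smul w (MulAut.conj g) (P : Subgroup G) hw
      have h3 := Δ.hy _ h2 (fun h => h1 (by
        have h4 : g * w = g := mul_inv_eq_one.1 h
        exact mul_eq_left.1 h4))
      exact (isConj_iff.2 ⟨g, rfl⟩).trans h3
    have h1 := hcol χ
    have := Fintype.ofFinite (P : Subgroup G)
    rw [csum_eq_erase, Finset.sum_congr rfl (g := fun _ => (F χ : ℂ)), Finset.sum_const,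
      Finset.card_erase_of_mem (Finset.mem_univ _), Finset.card_univ, ← Nat.card_eq_fintype_card,
      show Nat.card (P : Subgroup G) = 5 from hP] at h1
    · simp only [nsmul_eq_mul] at h1
      have h2 : ((4 * W χ : ℤ) : ℂ) = ((4 * F χ : ℤ) : ℂ) := by
        push_cast
        push_cast at h1
        linear_combination h1
      have h3 : 4 * W χ = 4 * F χ := by exact_mod_cast h2
      omega
    · intro b hb
      rw [← vF]
      exact apply_eq_of_isConj χ.2 (hconj b b.2 fun e => (Finset.mem_erase.1 hb).1 (Subtype.ext e))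
  have hmF : ∀ χ : IrrCharacter G, (deg χ % 5, F χ) ∈ wl5 := by
    intro χ
    have h1 := hok.mem χ
    rwa [hWF χ] at h1
  have hmem : ∀ χ : IrrCharacter G, [T χ, F χ, u χ] ∈ fam3.vals (deg χ) := by
    intro χ
    obtain ⟨m, hm⟩ : ∃ m : ℕ, (deg χ : ℤ) + 80 * T χ = 81 * m := by
      have := Fintype.ofFinite Δ.E
      obtain ⟨m, hm⟩ := SmallSimple.TheoremBCor.exists_sum_eq (isIrr_isCharacter χ.2) Δ.E
      rw [← Finset.add_sum_erase _ _ (Finset.mem_univ (1 : Δ.E)), Subgroup.coe_one, deg_cast,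
        Finset.sum_congr rfl (g := fun _ => (T χ : ℂ)), Finset.sum_const,
        Finset.card_erase_of_mem (Finset.mem_univ _), Finset.card_univ, ← Nat.card_eq_fintype_card, Δ.cardE] at hm
      · refine ⟨m, ?_⟩
        have h6 : (((deg χ : ℤ) + 80 * T χ : ℤ) : ℂ) = ((81 * m : ℤ) : ℂ) := by
          push_cast
          simp only [nsmul_eq_mul] at hm
          push_cast at hm
          linear_combination hm
        exact_mod_cast h6
      · intro b hb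
        rw [← vT]
        exact apply_eq_of_isConj χ.2 (Δ.c3 b (Δ.expE b b.2 fun e => (Finset.mem_erase.1 hb).1 (Subtype.ext e)))
    have hTs : T χ * T χ ≤ 3240 := by
      have h1 := Finset.single_le_sum (f := fun χ : IrrCharacter G => T χ * T χ) (fun χ _ => mul_self_nonneg _)
        (Finset.mem_univ χ)
      have h2 : ∑ χ : IrrCharacter G, T χ * T χ = 3240 := by rw [qT, Δ.cz]; norm_num
      rw [h2] at h1
      exact h1
    have hus : u χ * u χ ≤ 90 := by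
      have h1 := Finset.single_le_sum (f := fun χ : IrrCharacter G => u χ * u χ) (fun χ _ => mul_self_nonneg _)
        (Finset.mem_univ χ)
      rw [qu] at h1
      exact h1
    exact mem_fam3 hTs hus (hmF χ) (by rw [hm]; (clear * -; positivity)) ⟨m, hm⟩ (d5 χ) (d9 χ)
  exact ⟨A, B, C, T, F, u, v, hA, hB, hC, vF, hmem, hu, hv, v3, uv2, qu, qv⟩

/-- **the values at an element of order 15** -/
theorem exists_uv [IsSimpleGroup G] (hG : ¬ IsMulCommutative G) [Fintype (IrrCharacter G)] (Δ : Data G) :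
    ∃ (u v : IrrCharacter G → ℤ),
      (∀ χ : IrrCharacter G, (χ : G → ℂ) Δ.x + (χ : G → ℂ) (Δ.x ^ 2) = u χ) ∧
      (∀ χ : IrrCharacter G, 2 * (χ : G → ℂ) Δ.x = u χ + v χ * rt) ∧
      (∀ χ, (3 : ℤ) ∣ v χ) ∧ (∀ χ, (2 : ℤ) ∣ u χ + v χ) ∧ ∑ χ, u χ * u χ = 90 ∧ ∑ χ, v χ * v χ = 18 ∧
      ∀ χ : IrrCharacter G, (χ : G → ℂ) ≠ 1 → 341 * (u χ).natAbs ≤ 6 * deg χ ∧
        ((u χ).natAbs % 2 = 0 ∨ 46872 ≤ deg χ) := by
  classical
  obtain ⟨A, B, C, T, F, u, v, hA, hB, hC, vF, hmem, hu, hv, v3, uv2, qu, qv⟩ := exists_pieces' hG Δ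
  refine ⟨u, v, hu, fun χ => ?_, v3, uv2, qu, qv, fun χ h1 => ?_⟩
  · have h2 := hu χ
    have h3 := hv χ
    linear_combination h2 + h3
  -- the degree
  have hN : Nat.card G = NN := Δ.card
  have hne1 : deg χ ≠ 1 := fun h => h1 (one_of_deg (not_prime Δ) χ h)
  have hdvd : deg χ ∣ H653.Sieve.facProd facs := by
    rw [facs_prod, ← hN]
    exact Blocks.Knorr.charDegree_dvd χ.2
  have hlt : deg χ * deg χ < NN := by
    have hsq : ∑ χ : IrrCharacter G, deg χ * deg χ = NN := by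
      have h3 := SmallSimple.DegreeData.sum_sq (G := G)
      rw [← hN, ← h3]
      exact Finset.sum_congr rfl fun χ _ => by unfold deg; ring
    have hχ₁ : ∃ χ₁ : IrrCharacter G, (χ₁ : G → ℂ) = 1 := ⟨⟨1, isIrr_one⟩, rfl⟩
    obtain ⟨χ₁, hχ₁⟩ := hχ₁
    have hne : χ ≠ χ₁ := fun h => h1 (by rw [h, hχ₁])
    have hd1 : deg χ₁ = 1 := by
      unfold deg charDegree
      rw [hχ₁]
      simp
    have h4 : ∑ χ' ∈ ({χ, χ₁} : Finset (IrrCharacter G)), deg χ' * deg χ' ≤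
        ∑ χ' : IrrCharacter G, deg χ' * deg χ' :=
      Finset.sum_le_sum_of_subset (Finset.subset_univ _)
    rw [Finset.sum_pair hne, hsq, hd1] at h4
    omega
  have hpr : ∀ pa ∈ facs, pa.1.Prime := by
    intro pa hpa
    have := List.all_eq_true.1 facs_prime pa hpa
    simpa using this
  have h3 := H653.Sieve.allDiv_spec hpr chk15_all (deg χ) hdvd (by rwa [one_mul])
  rw [one_mul, chk15] at h3
  simp only [Bool.or_eq_true] at h3
  -- the filtered family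
  have hvals : [T χ, F χ, u χ] ∈ fam3i.vals (deg χ) := by
    refine List.mem_filter.2 ⟨hmem χ, ?_⟩
    have h5 := SmallSimple.InvolColumn.dvd_index_mul χ.2 (vF χ)
    have hi : (centralizer ({Δ.y} : Set G)).index = 2560086144 := by
      have h2 := (centralizer ({Δ.y} : Set G)).card_mul_index
      rw [Δ.cy, Δ.card] at h2
      omega
    rw [hi] at h5
    rw [Nat.beq_eq]
    apply Nat.mod_eq_zero_of_dvd
    have h2 : (deg χ : ℤ).natAbs ∣ (((2560086144 : ℕ) : ℤ) * F χ).natAbs := Int.natAbs_dvd_natAbs.2 h5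
    rw [Int.natAbs_natCast, Int.natAbs_mul, Int.natAbs_natCast, mul_comm] at h2
    exact h2
  rcases h3 with ((((h3 | h3) | h3) | h3) | h3) | h3
  · exact absurd (Nat.le_of_ble_eq_true h3) (by omega)
  · exact absurd (Nat.eq_of_beq_eq_true h3) hne1
  · exact absurd (Nat.eq_of_beq_eq_true h3) (no_deg hG Δ 32 a_32 m_32 (by norm_num [m_32]) cs_32 cert_32 all_32 χ)
  · exact absurd (Nat.eq_of_beq_eq_true h3) (no_deg hG Δ 837 a_837 m_837 (by norm_num [m_837]) cs_837 cert_837 all_837 χ)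
  · exact absurd (Nat.eq_of_beq_eq_true h3)
      (no_deg hG Δ 1178 a_1178 m_1178 (by norm_num [m_1178]) cs_1178 cert_1178 all_1178 χ)
  · -- the tuple of the values
    have h4 : condU (deg χ) ([A χ] ++ ([B χ] ++ ([C χ] ++ ([T χ, F χ, u χ] ++ [])))) = true := by
      have e1 := List.all_eq_true.1 h3 _ (hA.mem χ)
      have e2 := List.all_eq_true.1 e1 _ (hB.mem χ)
      have e3 := List.all_eq_true.1 e2 _ (hC.mem χ)
      exact List.all_eq_true.1 e3 _ hvals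
    have h5 : (Nat.ble (341 * (u χ).natAbs) (6 * deg χ) && (Nat.beq ((u χ).natAbs % 2) 0 || Nat.ble 46872 (deg χ))) =
        true := h4
    rw [Bool.and_eq_true, Bool.or_eq_true] at h5
    exact ⟨Nat.le_of_ble_eq_true h5.1, h5.2.imp Nat.eq_of_beq_eq_true Nat.le_of_ble_eq_true⟩

theorem norm_rt : ‖rt‖ ≤ 9 / 4 := by
  have h1 : ‖rt‖ * ‖rt‖ = 5 := by rw [← norm_mul, rt_sq]; norm_num
  by_contra h
  push Not at h
  nlinarith only [h1, h]

/-- one term -/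
theorem term_le {a D u v : ℝ} (ha : 0 ≤ a) (hD : 0 < D) (h0 : v = 0 → 2 * a = |u|) (hu : 341 * |u| ≤ 6 * D)
    (h1 : v ≠ 0 → a ≤ 8 ∧ 9 ≤ v ^ 2 ∧ 46872 ≤ D) : (a * a / D) ^ 2 ≤ 9 / 465124 * u ^ 2 + v ^ 2 / 1000000 := by
  by_cases hv : v = 0
  · have h2 := h0 hv
    have h3 : u ^ 2 = 4 * a ^ 2 := by rw [← sq_abs u, ← h2]; ring
    have h4 : a / D ≤ 3 / 341 := by
      rw [div_le_div_iff₀ hD (by norm_num)]
      rw [← h2] at hu
      linarith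
    have h5 : (a * a / D) ^ 2 = a ^ 2 * (a / D) ^ 2 := by ring
    have h6 : (a / D) ^ 2 ≤ (3 / 341) ^ 2 := by
      have : 0 ≤ a / D := by positivity
      gcongr
    rw [h5, h3, hv]
    have h7 : a ^ 2 * (a / D) ^ 2 ≤ a ^ 2 * (3 / 341) ^ 2 := by gcongr
    linarith only [h7]
  · obtain ⟨h2, h3, h4⟩ := h1 hv
    have h5 : a * a / D ≤ 8 * 8 / 46872 := by gcongr
    have h6 : (a * a / D) ^ 2 ≤ (8 * 8 / 46872) ^ 2 := by
      have : 0 ≤ a * a / D := by positivity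
      gcongr
    have h7 : (8 * 8 / 46872 : ℝ) ^ 2 ≤ 9 / 1000000 := by norm_num
    have h8 : (9 : ℝ) / 1000000 ≤ v ^ 2 / 1000000 := by gcongr
    have h9 : 0 ≤ 9 / 465124 * u ^ 2 := by positivity
    linarith only [h3, h6, h9]

/-- **Products of two elements of order 15.** -/
theorem prd15 [IsSimpleGroup G] (hG : ¬ IsMulCommutative G) (Δ : Data G) {g : G}
    (hg : Nat.card (centralizer ({g} : Set G)) ≤ 512) : Prd Δ.x Δ.x⁻¹ g := by
  classical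
  have := finite_irr (G := G)
  have := Fintype.ofFinite (IrrCharacter G)
  obtain ⟨u, v, hu, hx, v3, uv2, qu, qv, hall⟩ := exists_uv hG Δ
  apply H65.Ore.prd_of_weighted
  rw [← Finset.add_sum_erase Finset.univ _ (Finset.mem_univ (H65.Ore.one1 G))]
  simp only [H65.Ore.one1_apply, norm_one, mul_one, div_one, one_pow, add_sub_cancel_left]
  have hc : (Nat.card (centralizer ({g} : Set G)) : ℝ) - 1 ≤ 511 := by
    have : (Nat.card (centralizer ({g} : Set G)) : ℝ) ≤ 512 := by exact_mod_cast hg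
    linarith
  have hc0 : (0 : ℝ) ≤ (Nat.card (centralizer ({g} : Set G)) : ℝ) - 1 := by
    have h1 : 1 ≤ Nat.card (centralizer ({g} : Set G)) := Nat.card_pos
    have : (1 : ℝ) ≤ (Nat.card (centralizer ({g} : Set G)) : ℝ) := by exact_mod_cast h1
    linarith
  have hterm : ∀ χ ∈ Finset.univ.erase (H65.Ore.one1 G),
      (‖(χ : G → ℂ) Δ.x‖ * ‖(χ : G → ℂ) Δ.x⁻¹‖ / ‖(χ : G → ℂ) 1‖) ^ 2 ≤
        9 / 465124 * (u χ : ℝ) ^ 2 + (v χ : ℝ) ^ 2 / 1000000 := by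
    intro χ hχ
    have hne : (χ : G → ℂ) ≠ 1 := H65.Ore.coe_ne_one (Finset.ne_of_mem_erase hχ)
    obtain ⟨h1, h2⟩ := hall χ hne
    have h3 : ‖(χ : G → ℂ) Δ.x⁻¹‖ = ‖(χ : G → ℂ) Δ.x‖ := by
      rw [isCharacter_apply_inv (isIrr_isCharacter χ.2), Complex.norm_conj]
    have h4 : ‖(χ : G → ℂ) 1‖ = (deg χ : ℝ) := by
      rw [deg_cast]; simp
    have hd0 : 0 < deg χ := by
      rcases Nat.eq_zero_or_pos (deg χ) with h | h
      · exact absurd h (H65.Ore.charDegree_ne_zero χ.2)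
      · exact h
    rw [h3, h4]
    have h5 := hx χ
    refine term_le (norm_nonneg _) (by exact_mod_cast hd0) (fun h => ?_) ?_ (fun h => ?_)
    · have h6 : v χ = 0 := by exact_mod_cast h
      rw [h6] at h5
      have h7 : 2 * (χ : G → ℂ) Δ.x = u χ := by rw [h5]; simp
      have h8 := congrArg norm h7
      rw [norm_mul] at h8
      simpa using h8
    · have h6 : ((341 * (u χ).natAbs : ℕ) : ℝ) ≤ ((6 * deg χ : ℕ) : ℝ) := by exact_mod_cast h1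
      push_cast at h6
      rw [Nat.cast_natAbs] at h6
      push_cast at h6
      exact h6
    · have h6 : v χ ≠ 0 := by exact_mod_cast h
      have hv2 : v χ * v χ ≤ 18 := by
        rw [← qv]
        exact Finset.single_le_sum (f := fun χ : IrrCharacter G => v χ * v χ) (fun χ _ => mul_self_nonneg _)
          (Finset.mem_univ χ)
      have hu2 : u χ * u χ ≤ 90 := by
        rw [← qu]
        exact Finset.single_le_sum (f := fun χ : IrrCharacter G => u χ * u χ) (fun χ _ => mul_self_nonneg _)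
          (Finset.mem_univ χ)
      have bv : -4 ≤ v χ ∧ v χ ≤ 4 := by constructor <;> nlinarith only [hv2]
      have bu : -9 ≤ u χ ∧ u χ ≤ 9 := by constructor <;> nlinarith only [hu2]
      have hv3 := v3 χ
      have huv := uv2 χ
      have h7 : v χ = 3 ∨ v χ = -3 := by omega
      have h8 : |(v χ : ℝ)| = 3 := by
        rcases h7 with h | h <;> rw [h] <;> norm_num
      have h9 : |(u χ : ℝ)| ≤ 9 := by
        rw [abs_le]
        constructor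
        · exact_mod_cast bu.1
        · exact_mod_cast bu.2
      refine ⟨?_, ?_, ?_⟩
      · have h10 := congrArg norm h5
        rw [norm_mul] at h10
        have h11 := norm_add_le (u χ : ℂ) (v χ * rt)
        rw [norm_mul, Complex.norm_intCast, Complex.norm_intCast, h8] at h11
        have h12 : ‖(2 : ℂ)‖ = 2 := by norm_num
        rw [h12] at h10
        have h13 := norm_rt
        linarith only [h9, h10, h11, h13]
      · have h10 : (v χ : ℝ) ^ 2 = 9 := by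
          rw [← sq_abs, h8]; norm_num
        rw [h10]
      · have h10 : (u χ).natAbs % 2 ≠ 0 := by (clear * - huv h7; omega)
        have h11 := h2.resolve_left h10
        exact_mod_cast h11
  have hsum := Finset.sum_le_sum hterm
  rw [Finset.sum_add_distrib, ← Finset.mul_sum, ← Finset.sum_div] at hsum
  have hu1 : u (H65.Ore.one1 G) = 2 := by
    have h1 := hu (H65.Ore.one1 G)
    rw [H65.Ore.one1_apply, H65.Ore.one1_apply] at h1
    have h2 : ((2 : ℤ) : ℂ) = ((u (H65.Ore.one1 G) : ℤ) : ℂ) := by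
      rw [← h1]; push_cast; norm_num
    exact_mod_cast h2.symm
  have hu86 : ∑ χ ∈ Finset.univ.erase (H65.Ore.one1 G), (u χ : ℝ) ^ 2 = 86 := by
    have h1 : ∑ χ : IrrCharacter G, (u χ : ℝ) ^ 2 = 90 := by
      have h2 : ((∑ χ : IrrCharacter G, u χ * u χ : ℤ) : ℝ) = ((90 : ℤ) : ℝ) := by rw [qu]
      push_cast at h2
      rw [← h2]
      exact Finset.sum_congr rfl fun χ _ => by ring
    rw [← Finset.add_sum_erase Finset.univ _ (Finset.mem_univ (H65.Ore.one1 G)), hu1] at h1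
    push_cast at h1
    linarith only [h1]
  have hv18 : ∑ χ ∈ Finset.univ.erase (H65.Ore.one1 G), (v χ : ℝ) ^ 2 ≤ 18 := by
    have h1 : ∑ χ : IrrCharacter G, (v χ : ℝ) ^ 2 = 18 := by
      have h2 : ((∑ χ : IrrCharacter G, v χ * v χ : ℤ) : ℝ) = ((18 : ℤ) : ℝ) := by rw [qv]
      push_cast at h2
      rw [← h2]
      exact Finset.sum_congr rfl fun χ _ => by ring
    rw [← h1]
    exact Finset.sum_le_sum_of_subset_of_nonneg (Finset.subset_univ _) fun _ _ _ => sq_nonneg _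
  rw [hu86] at hsum
  have h17 : ∑ χ ∈ Finset.univ.erase (H65.Ore.one1 G),
      (‖(χ : G → ℂ) Δ.x‖ * ‖(χ : G → ℂ) Δ.x⁻¹‖ / ‖(χ : G → ℂ) 1‖) ^ 2 ≤ 17 / 10000 := by
    refine hsum.trans ?_
    have : (∑ χ ∈ Finset.univ.erase (H65.Ore.one1 G), (v χ : ℝ) ^ 2) / 1000000 ≤ 18 / 1000000 := by gcongr
    linarith only [hv18]
  have h0 : 0 ≤ ∑ χ ∈ Finset.univ.erase (H65.Ore.one1 G),
      (‖(χ : G → ℂ) Δ.x‖ * ‖(χ : G → ℂ) Δ.x⁻¹‖ / ‖(χ : G → ℂ) 1‖) ^ 2 := Finset.sum_nonneg fun _ _ => sq_nonneg _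
  nlinarith only [hc, hsum, hv18, h0]

end Cfsg.Agent.H890.QON
end

-- part: H890/QON/Cases
section
/-!
# The O'Nan group: commutators with a member of order divisible by three (helper890)

`good` : every element `g ≠ 1` of order prime to 3 is `x k x⁻¹ k⁻¹` with `3 ∣ orderOf x`:
* `g` commutes with an element of order 3: `g` lies in the `A6` of its centralizer and is a product of two elements of
  order 3;
* `|C(g)| ≤ 512`: `H890/QON/Sieve`;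
* otherwise `g` has order 7 and is normalised by an element of order divisible by 3.
-/

set_option autoImplicit false

namespace Cfsg.Agent.H890.QON

open Subgroup Cfsg Equiv

/-! ### The alternating group of degree six -/

/-- elements of order three -/
def L12 : List (Perm (Fin 6)) := [
  swap 3 4 * swap 4 5,
  swap 3 5 * swap 5 4,
  swap 0 1 * swap 1 2,
  swap 0 1 * swap 1 2 * (swap 3 4 * swap 4 5),
  swap 0 1 * swap 1 2 * (swap 3 5 * swap 5 4),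
  swap 0 2 * swap 2 1,
  swap 1 2 * swap 2 3,
  swap 0 1 * swap 1 4,
  swap 0 5 * swap 5 2,
  swap 0 1 * swap 1 4 * (swap 2 3 * swap 3 5),
  swap 0 2 * swap 2 5 * (swap 1 4 * swap 4 3),
  swap 2 3 * swap 3 4]

theorem L12_ok : (L12.all fun a => decide (a * a * a = 1) && decide (Perm.sign a = 1)) = true := by decide +kernel

theorem L12_one : ∀ g : Perm (Fin 6), Perm.sign g = 1 → g ≠ 1 → g * g * g ≠ 1 →
    (L12.any fun a => decide ((a⁻¹ * g) * (a⁻¹ * g) * (a⁻¹ * g) = 1)) = true := by (set_option synthInstance.maxSize 9000 in open scoped Cfsg.Agent.Lib.FastPerm in (simp only [Cfsg.Agent.Lib.FastPerm.sw_dec, Cfsg.Agent.Lib.FastPerm.sw_ite, Cfsg.Agent.Lib.FastPerm.sw_beq, Cfsg.Agent.Lib.FastPerm.sw_bne]; decide +kernel))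

theorem alt6 (g : alternatingGroup (Fin 6)) (h1 : g ≠ 1) (h3 : g * g * g ≠ 1) :
    ∃ a b : alternatingGroup (Fin 6), orderOf a = 3 ∧ orderOf b = 3 ∧ g = a * b := by
  have h3F : Fact (Nat.Prime 3) := ⟨Nat.prime_three⟩
  have hs : Perm.sign (g : Perm (Fin 6)) = 1 := Perm.mem_alternatingGroup.1 g.2
  obtain ⟨a, ha, hb⟩ := List.any_eq_true.1 (L12_one g hs (fun h => h1 (Subtype.ext h)) (fun h => h3 (Subtype.ext h)))
  have hb := of_decide_eq_true hb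
  have ha2 := List.all_eq_true.1 L12_ok a ha
  rw [Bool.and_eq_true] at ha2
  have ha3 := of_decide_eq_true ha2.1
  have hsa := of_decide_eq_true ha2.2
  have haA : a ∈ alternatingGroup (Fin 6) := Perm.mem_alternatingGroup.2 hsa
  let A : alternatingGroup (Fin 6) := ⟨a, haA⟩
  have hA3 : A * A * A = 1 := Subtype.ext ha3
  have hB3 : (A⁻¹ * g) * (A⁻¹ * g) * (A⁻¹ * g) = 1 := Subtype.ext hb
  refine ⟨A, A⁻¹ * g, orderOf_eq_prime (by rw [pow_succ, pow_two, hA3]) ?_,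
    orderOf_eq_prime (by rw [pow_succ, pow_two, hB3]) ?_, by group⟩
  · intro h
    rw [h, inv_one, one_mul] at hB3
    exact h3 hB3
  · intro h
    have h4 : g = A := (inv_mul_eq_one.1 h).symm
    rw [h4] at h3
    exact h3 hA3

theorem simple360 {T : Type*} [Group T] [Finite T] [IsSimpleGroup T] (hT : Nat.card T = 360) {g : T} (h1 : g ≠ 1)
    (h3 : g * g * g ≠ 1) : ∃ a b : T, orderOf a = 3 ∧ orderOf b = 3 ∧ g = a * b := by
  obtain ⟨e⟩ := Classification.Order360Iso.nonempty_mulEquiv_alternating hT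
  obtain ⟨a, b, ha, hb, hab⟩ := alt6 (e g) (fun h => h1 ((map_eq_one_iff e e.injective).1 h)) (fun h => h3 (by
    rw [← map_mul, ← map_mul] at h
    exact (map_eq_one_iff e e.injective).1 h))
  refine ⟨e.symm a, e.symm b, ?_, ?_, ?_⟩
  · rw [← ha]; exact orderOf_injective e.symm.toMonoidHom e.symm.injective a
  · rw [← hb]; exact orderOf_injective e.symm.toMonoidHom e.symm.injective b
  · rw [← map_mul, ← hab, e.symm_apply_apply]

/-! ### The O'Nan group -/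

open Cfsg.Spor (ON)
open Cfsg.Spor.ON (Gen)
open Cfsg.Agent.SporadicB.ON45Word (on)
open Cfsg.Agent.KFacts.ON.Cent (hON finite_ON card_K0)
open Cfsg.Agent.KFacts.ON.Words (v vv)
open Cfsg.Agent.KFacts.ON.Struct
open Cfsg.Agent.ONType.TupK (K0)
open Cfsg.Agent.H474.ONC
open Cfsg.Agent.H210.On7 (card_cent_three card_cent_nineteen thirtyone exists_three exists_threeData)
open Cfsg.Agent.H65.Ore (Prd card_centralizer_pow_le)

/-- `g` is a commutator whose first member has order divisible by three -/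
def Good (g : ON) : Prop := ∃ x k : ON, 3 ∣ orderOf x ∧ g = x * k * x⁻¹ * k⁻¹

theorem Good.of_conj {g : ON} (c : ON) (h : Good (c * g * c⁻¹)) : Good g := by
  obtain ⟨x, k, hx, hg⟩ := h
  refine ⟨c⁻¹ * x * c, c⁻¹ * k * c, ?_, ?_⟩
  · have h1 : IsConj x (c⁻¹ * x * c) := isConj_iff.2 ⟨c⁻¹, by group⟩
    have h2 : orderOf (c⁻¹ * x * c) = orderOf x := by
      have := (MulAut.conj c⁻¹).orderOf_eq x
      rw [← this]
      congr 1
      change _ = c⁻¹ * x * c⁻¹⁻¹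
      rw [inv_inv]
    rwa [h2]
  · have h1 : g = c⁻¹ * (c * g * c⁻¹) * c := by group
    rw [h1, hg]; group

/-- a product of two elements of order three -/
theorem good_mul {a b : ON} (ha : orderOf a = 3) (hb : orderOf b = 3) : Good (a * b) := by
  obtain ⟨z, -, hz, -⟩ := exists_three
  obtain ⟨k, hk⟩ := isConj_iff.1 ((hz a⁻¹ (by rw [orderOf_inv, ha])).trans (hz b hb).symm)
  exact ⟨a, k, by rw [ha], by rw [← hk]; group⟩

theorem mem_sup_prod {G : Type*} [Group G] {P L : Subgroup G} (h : ∀ a ∈ P, ∀ b ∈ L, a * b = b * a) {g : G}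
    (hg : g ∈ P ⊔ L) : ∃ a ∈ P, ∃ b ∈ L, g = a * b := by
  let φ : P × L →* G := MonoidHom.noncommCoprod P.subtype L.subtype (fun a b => h a a.2 b b.2)
  have hr : φ.range = P ⊔ L := by
    refine (MonoidHom.noncommCoprod_range P.subtype L.subtype (fun a b => h a a.2 b b.2)).trans ?_
    rw [range_subtype, range_subtype]
  rw [← hr] at hg
  obtain ⟨⟨a, b⟩, hab⟩ := hg
  exact ⟨a, a.2, b, b.2, hab.symm⟩

/-- the elements of order prime to three commuting with an element of order three -/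
theorem good_three {g s : ON} (hs : orderOf s = 3) (hsg : s * g = g * s) (h1 : g ≠ 1) (h3 : ¬ 3 ∣ orderOf g) :
    Good g := by
  have hfin := finite_ON
  obtain ⟨x, P, L, s0, h⟩ := exists_threeData
  obtain ⟨z, -, hz, -⟩ := exists_three
  obtain ⟨c, hc⟩ := isConj_iff.1 ((hz s hs).trans (hz x h.ox).symm)
  apply Good.of_conj c
  obtain ⟨g', hg'⟩ : ∃ g', g' = c * g * c⁻¹ := ⟨_, rfl⟩
  rw [← hg']
  have ho : orderOf g' = orderOf g := by
    rw [hg']; exact (MulAut.conj c).orderOf_eq g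
  have h1' : g' ≠ 1 := fun e => h1 (by
    have : g = c⁻¹ * g' * c := by rw [hg']; group
    rw [this, e]; group)
  rw [← ho] at h3
  have hmem : g' ∈ P ⊔ L := by
    rw [← h.cent, mem_cent, hg', ← hc]
    calc c * g * c⁻¹ * (c * s * c⁻¹) = c * (g * s) * c⁻¹ := by group
      _ = c * (s * g) * c⁻¹ := by rw [hsg]
      _ = c * s * c⁻¹ * (c * g * c⁻¹) := by group
  obtain ⟨p, hp, l, hl, hpl⟩ := mem_sup_prod h.comm hmem
  have hcomm : Commute p l := h.comm p hp l hl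
  -- `g'` is a power of its cube
  have hcop : Nat.Coprime 3 (orderOf g') := (Nat.Prime.coprime_iff_not_dvd Nat.prime_three).2 h3
  obtain ⟨m, hm⟩ := Nat.exists_mul_mod_eq_one_of_coprime hcop (by
    have h2 : 0 < orderOf g' := orderOf_pos g'
    rcases Nat.lt_or_ge 1 (orderOf g') with h5 | h5
    · exact h5
    · exact absurd (orderOf_eq_one_iff.1 (by omega)) h1')
  have hgm : g' ^ (3 * m) = g' := by
    rw [← pow_mod_orderOf, hm.2, pow_one]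
  have hL : g' ∈ L := by
    rw [← hgm, pow_mul, hpl, hcomm.mul_pow, h.expP p hp, one_mul, ← pow_mul]
    exact L.pow_mem hl _
  have hsim := h.simple
  obtain ⟨a, b, ha, hb, hab⟩ := simple360 h.cardL (g := (⟨g', hL⟩ : L)) (fun e => h1' (congrArg Subtype.val e))
    (fun e => by
      have e1 : g' * g' * g' = 1 := congrArg Subtype.val e
      have e2 : orderOf g' ∣ 3 := orderOf_dvd_of_pow_eq_one (by rw [pow_succ, pow_two, e1])
      rcases (Nat.dvd_prime Nat.prime_three).1 e2 with e3 | e3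
      · exact h1' (orderOf_eq_one_iff.1 e3)
      · exact h3 (by rw [e3]))
  have hab' : g' = (a : ON) * b := congrArg Subtype.val hab
  rw [hab']
  exact good_mul (by rw [orderOf_coe, ha]) (by rw [orderOf_coe, hb])

theorem good_small {g : ON} (hg : Nat.card (centralizer ({g} : Set ON)) ≤ 512) : Good g := by
  have hfin := finite_ON
  have hs : IsSimpleGroup ON := hON.1
  obtain ⟨Δ⟩ := H210.On7.exists_data
  obtain ⟨a, b, hab⟩ := prd15 H535.Ore.ON.not_comm Δ hg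
  refine ⟨a * Δ.x * a⁻¹, b * a⁻¹, ?_, by rw [hab]; group⟩
  have h1 : orderOf (a * Δ.x * a⁻¹) = 15 := by
    rw [← Δ.ox]; exact (MulAut.conj a).orderOf_eq Δ.x
  rw [h1]; norm_num

/-! ### Elements commuting with an element of order 5 or 7 and an involution -/

theorem x1_comm {i : ℕ} : H210.On7.x1 * v ^ i = v ^ i * H210.On7.x1 :=
  ((show Commute v H210.On7.x1 from H210.On7.vx1).symm.pow_right i).eq

theorem order_x1 : orderOf H210.On7.x1 = 3 := by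
  have h3F : Fact (Nat.Prime 3) := ⟨Nat.prime_three⟩
  exact orderOf_eq_prime H210.On7.x1_pow H210.On7.x1_ne

theorem card_le_of_loc {p : ℕ} {u g : ON} (h : Loc p u v) (hg : ∀ c, c * g = g * c → c * u = u * c ∧ c * v ^ 2 = v ^ 2 * c) :
    Nat.card (centralizer ({g} : Set ON)) ≤ p * 4 := by
  have hfin := finite_ON
  have h1 : ∀ c : centralizer ({g} : Set ON), ∃ q : zpowers u × zpowers v, (q.1 : ON) * q.2 = c := by
    intro c
    obtain ⟨hc1, hc2⟩ := hg c (mem_cent.1 c.2)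
    obtain ⟨i, j, hij⟩ := h.cent c hc1 hc2
    exact ⟨(⟨u ^ i, npow_mem_zpowers u i⟩, ⟨v ^ j, npow_mem_zpowers v j⟩), hij.symm⟩
  choose f hf using h1
  have hinj : Function.Injective f := by
    intro c d hcd
    apply Subtype.ext
    rw [← hf c, ← hf d, hcd]
  have h2 := Nat.card_le_card_of_injective f hinj
  rwa [Nat.card_prod, Nat.card_zpowers, Nat.card_zpowers, h.ox, h.ov] at h2

/-- `g` of even order commuting with an element of order 5 or 7 -/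
theorem good_loc {p : ℕ} {u g : ON} (h : Loc p u v) (hp : p ≤ 128) (hgu : g * u = u * g) (hgf : g * v ^ 2 = v ^ 2 * g)
    {k : ℕ} (hk : g ^ k = v ^ 2) (h1 : g ≠ 1) (h3 : ¬ 3 ∣ orderOf g) : Good g := by
  have hfin := finite_ON
  obtain ⟨i, j, hij⟩ := h.cent g hgu hgf
  by_cases hi : p ∣ i
  · have hui : u ^ i = 1 := orderOf_dvd_iff_pow_eq_one.1 (by rw [h.ox]; exact hi)
    rw [hui, one_mul] at hij
    refine good_three order_x1 ?_ h1 h3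
    rw [hij]
    exact x1_comm
  · apply good_small
    refine (card_le_of_loc h ?_).trans (by omega)
    intro c hc
    have hc : Commute c g := hc
    refine ⟨?_, ?_⟩
    · -- `u` is a power of `g ^ 4`
      have h4 : g ^ 4 = u ^ (4 * i) := by
        rw [hij, (h.commute i j).mul_pow, ← pow_mul, ← pow_mul, mul_comm j 4, pow_mul v, h.v4, one_pow, mul_one,
          mul_comm i 4]
      have hcop : Nat.Coprime (4 * i) p := by
        apply Nat.Coprime.mul_left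
        · exact Nat.Coprime.pow_left 2 ((Nat.coprime_primes Nat.prime_two h.hp).2 (Ne.symm h.hp2))
        · exact ((Nat.Prime.coprime_iff_not_dvd h.hp).2 hi).symm
      obtain ⟨m, hm⟩ := Nat.exists_mul_mod_eq_one_of_coprime hcop h.hp.one_lt
      have hu : u = g ^ (4 * m) := by
        rw [pow_mul, h4, ← pow_mul]
        conv_rhs => rw [← pow_mod_orderOf, h.ox, hm.2, pow_one]
      rw [hu]
      exact (hc.pow_right _).eq
    · rw [← hk]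
      exact (hc.pow_right _).eq

/-- an element of order 7 commuting with an involution -/
theorem good_seven {g : ON} (hg : orderOf g = 7) (hgK : g ∈ K0) : Good g := by
  have hfin := finite_ON
  have h7 : g ^ 7 = 1 := by rw [← hg, pow_orderOf_eq_one]
  have h1 : g ≠ 1 := by
    rintro rfl
    rw [orderOf_one] at hg
    norm_num at hg
  obtain ⟨y, -, hy⟩ := CpAutON.Seven.exists_cube h7 h1 hgK
  obtain ⟨s, hs⟩ : ∃ s, s = y * y := ⟨_, rfl⟩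
  have hsg : s * g * s⁻¹ = g ^ 2 := by
    calc s * g * s⁻¹ = y * (y * g * y⁻¹) * y⁻¹ := by rw [hs]; group
      _ = y * g ^ 3 * y⁻¹ := by rw [hy]
      _ = (y * g * y⁻¹) ^ 3 := conj_pow.symm
      _ = g ^ 7 * g ^ 2 := by rw [hy, ← pow_mul, ← pow_add]
      _ = g ^ 2 := by rw [h7, one_mul]
  have hn : ∀ n : ℕ, s ^ n * g * (s ^ n)⁻¹ = g ^ 2 ^ n := by
    intro n
    induction n with
    | zero => simp
    | succ n ih =>
      calc s ^ (n + 1) * g * (s ^ (n + 1))⁻¹ = s * (s ^ n * g * (s ^ n)⁻¹) * s⁻¹ := by rw [pow_succ']; group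
        _ = (s * g * s⁻¹) ^ 2 ^ n := by rw [ih, conj_pow]
        _ = g ^ 2 ^ (n + 1) := by rw [hsg, ← pow_mul, ← pow_succ']
  refine ⟨s, g, ?_, ?_⟩
  · have h2 := hn (orderOf s)
    rw [pow_orderOf_eq_one, one_mul, inv_one, mul_one] at h2
    have h3 : g ^ 1 = g ^ 2 ^ orderOf s := by rw [pow_one]; exact h2
    rw [pow_inj_mod, hg] at h3
    -- `2 ^ n = 1 (7)`
    obtain ⟨q, r, hr, hqr⟩ : ∃ q r, r < 3 ∧ orderOf s = 3 * q + r :=
      ⟨orderOf s / 3, orderOf s % 3, Nat.mod_lt _ (by norm_num), by omega⟩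
    rw [hqr, pow_add, pow_mul, Nat.mul_mod, Nat.pow_mod] at h3
    norm_num at h3
    interval_cases r
    · exact ⟨q, by rw [hqr]; ring⟩
    · norm_num at h3
    · norm_num at h3
  · rw [hsg]
    rw [pow_two, mul_assoc, mul_inv_cancel, mul_one]

/-! ### The cases -/

theorem small_prime {g : ON} {p : ℕ} (hp : p.Prime) (h1 : g ≠ 1)
    (hc : ∀ y : ON, orderOf y = p → Nat.card (centralizer ({y} : Set ON)) = p)
    (hd : p ∣ Nat.card (centralizer ({g} : Set ON))) : Nat.card (centralizer ({g} : Set ON)) = p := by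
  have hfin := finite_ON
  obtain ⟨u, hu, hug⟩ := exists_comm hp hd
  apply hc
  have h2 := dvd_cent hug.symm
  rw [hc u hu] at h2
  rcases (Nat.dvd_prime hp).1 h2 with h3 | h3
  · exact absurd (orderOf_eq_one_iff.1 h3) h1
  · exact h3

/-- powers of two and seven -/
theorem card_shape {g : ON} (h3 : ¬ 3 ∣ Nat.card (centralizer ({g} : Set ON)))
    (h5 : ¬ 5 ∣ Nat.card (centralizer ({g} : Set ON))) (h11 : ¬ 11 ∣ Nat.card (centralizer ({g} : Set ON)))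
    (h19 : ¬ 19 ∣ Nat.card (centralizer ({g} : Set ON))) (h31 : ¬ 31 ∣ Nat.card (centralizer ({g} : Set ON))) :
    ∃ a d : ℕ, a ≤ 9 ∧ d ≤ 3 ∧ Nat.card (centralizer ({g} : Set ON)) = 2 ^ a * 7 ^ d := by
  obtain ⟨a, b, c, d, e, f, k, ha, hb, hc, hd, he, hf, hk, hs⟩ := shape (cent_dvd g)
  rw [hs] at h3 h5 h11 h19 h31
  have key : ∀ {q e m : ℕ}, ¬ q ∣ q ^ e * m → e = 0 := by
    intro q e m h
    by_contra h0
    exact h ((dvd_pow_self q h0).mul_right m)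
  have hb0 : b = 0 := by
    apply key (q := 3) (m := 2 ^ a * (5 ^ c * (7 ^ d * (11 ^ e * (19 ^ f * 31 ^ k)))))
    intro h; exact h3 (by rwa [mul_left_comm] at h)
  have hc0 : c = 0 := by
    apply key (q := 5) (m := 2 ^ a * (3 ^ b * (7 ^ d * (11 ^ e * (19 ^ f * 31 ^ k)))))
    intro h; apply h5; convert h using 1; ring
  have he0 : e = 0 := by
    apply key (q := 11) (m := 2 ^ a * (3 ^ b * (5 ^ c * (7 ^ d * (19 ^ f * 31 ^ k)))))
    intro h; apply h11; convert h using 1; ring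
  have hf0 : f = 0 := by
    apply key (q := 19) (m := 2 ^ a * (3 ^ b * (5 ^ c * (7 ^ d * (11 ^ e * 31 ^ k)))))
    intro h; apply h19; convert h using 1; ring
  have hk0 : k = 0 := by
    apply key (q := 31) (m := 2 ^ a * (3 ^ b * (5 ^ c * (7 ^ d * (11 ^ e * 19 ^ f)))))
    intro h; apply h31; convert h using 1; ring
  subst hb0 hc0 he0 hf0 hk0
  exact ⟨a, d, ha, hd, by rw [hs]; ring⟩

/-- conjugation of an involution to `f` -/
theorem exists_conj_f {t : ON} (ht : orderOf t = 2) : ∃ c : ON, c * t * c⁻¹ = on .f := by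
  have h1 : t * t = 1 := by rw [← pow_two, ← ht, pow_orderOf_eq_one]
  have h2 : t ≠ 1 := by
    rintro rfl
    rw [orderOf_one] at ht
    norm_num at ht
  exact isConj_iff.1 (KFacts.ON.OneClass.one_class h1 h2)

theorem conj_comm {c x y : ON} (h : x * y = y * x) : (c * x * c⁻¹) * (c * y * c⁻¹) = (c * y * c⁻¹) * (c * x * c⁻¹) := by
  calc (c * x * c⁻¹) * (c * y * c⁻¹) = c * (x * y) * c⁻¹ := by group
    _ = c * (y * x) * c⁻¹ := by rw [h]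
    _ = (c * y * c⁻¹) * (c * x * c⁻¹) := by group

theorem order_conj (c x : ON) : orderOf (c * x * c⁻¹) = orderOf x := (MulAut.conj c).orderOf_eq x

theorem card_conj (c x : ON) : Nat.card (centralizer ({c * x * c⁻¹} : Set ON)) = Nat.card (centralizer ({x} : Set ON)) :=
  Blocks.SylowIn.card_centralizer_of_isConj (isConj_iff.2 ⟨c, rfl⟩)

/-- **Every element `g ≠ 1` of order prime to three is a commutator whose first member has order divisible by three.** -/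
theorem good {g : ON} (h1 : g ≠ 1) (h3 : ¬ 3 ∣ orderOf g) : Good g := by
  have hfin := finite_ON
  by_cases c3 : 3 ∣ Nat.card (centralizer ({g} : Set ON))
  · obtain ⟨s, hs, hsg⟩ := exists_comm Nat.prime_three c3
    exact good_three hs hsg h1 h3
  by_cases c11 : 11 ∣ Nat.card (centralizer ({g} : Set ON))
  · apply good_small
    rw [small_prime (by norm_num) h1 (fun _ h => card_cent_eleven h) c11]; norm_num
  by_cases c19 : 19 ∣ Nat.card (centralizer ({g} : Set ON))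
  · apply good_small
    rw [small_prime (by norm_num) h1 (fun _ h => card_cent_nineteen h) c19]; norm_num
  by_cases c31 : 31 ∣ Nat.card (centralizer ({g} : Set ON))
  · apply good_small
    rw [small_prime (by norm_num) h1 (fun _ h => (thirtyone h).1) c31]; norm_num
  by_cases h2 : 2 ∣ orderOf g
  · -- even order
    obtain ⟨k, hk⟩ : ∃ k, orderOf (g ^ k) = 2 := ⟨orderOf g / 2, orderOf_pow_orderOf_div (orderOf_pos g).ne' h2⟩
    obtain ⟨c, hc⟩ := exists_conj_f hk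
    apply Good.of_conj c
    obtain ⟨g', hg'⟩ : ∃ g', g' = c * g * c⁻¹ := ⟨_, rfl⟩
    have hk' : g' ^ k = v ^ 2 := by rw [hg', conj_pow, hc, v_sq]
    have h1' : g' ≠ 1 := fun e => h1 (by
      have : g = c⁻¹ * g' * c := by rw [hg']; group
      rw [this, e]; group)
    have h3' : ¬ 3 ∣ orderOf g' := by rwa [hg', order_conj]
    have c3' : ¬ 3 ∣ Nat.card (centralizer ({g'} : Set ON)) := by rwa [hg', card_conj]
    have c11' : ¬ 11 ∣ Nat.card (centralizer ({g'} : Set ON)) := by rwa [hg', card_conj]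
    have c19' : ¬ 19 ∣ Nat.card (centralizer ({g'} : Set ON)) := by rwa [hg', card_conj]
    have c31' : ¬ 31 ∣ Nat.card (centralizer ({g'} : Set ON)) := by rwa [hg', card_conj]
    rw [← hg']
    have hcf : ∀ u : ON, u * g' = g' * u → u * v ^ 2 = v ^ 2 * u := by
      intro u hu
      rw [← hk']
      exact ((show Commute u g' from hu).pow_right k).eq
    by_cases c5 : 5 ∣ Nat.card (centralizer ({g'} : Set ON))
    · obtain ⟨u, hu, hug⟩ := exists_comm (by norm_num : Nat.Prime 5) c5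
      have huK : u ∈ K0 := mem_K0.2 (by rw [← v_sq]; exact hcf u hug)
      have huJ : u ∈ J := mem_J_of_odd huK (by decide : Odd 5) (by rw [← hu, pow_orderOf_eq_one])
      exact good_loc (loc_five hu huJ) (by norm_num) hug.symm (hcf g' rfl) hk' h1' h3'
    by_cases c7 : 7 ∣ Nat.card (centralizer ({g'} : Set ON))
    · obtain ⟨u, hu, hug⟩ := exists_comm (by norm_num : Nat.Prime 7) c7
      have huK : u ∈ K0 := mem_K0.2 (by rw [← v_sq]; exact hcf u hug)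
      have huJ : u ∈ J := mem_J_of_odd huK (by decide : Odd 7) (by rw [← hu, pow_orderOf_eq_one])
      exact good_loc (loc_seven hu huJ) (by norm_num) hug.symm (hcf g' rfl) hk' h1' h3'
    obtain ⟨a, d, ha, -, hcard⟩ := card_shape c3' c5 c11' c19' c31'
    have hd0 : d = 0 := by
      by_contra hd
      apply c7
      rw [hcard]
      exact (dvd_pow_self 7 hd).mul_left _
    apply good_small
    rw [hcard, hd0, pow_zero, mul_one]
    exact (Nat.pow_le_pow_right (by norm_num) ha).trans (by norm_num)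
  · -- odd order
    by_cases c5 : 5 ∣ Nat.card (centralizer ({g} : Set ON))
    · obtain ⟨u, hu, hug⟩ := exists_comm (by norm_num : Nat.Prime 5) c5
      have h5 := dvd_cent hug.symm
      rw [card_cent_five hu] at h5
      have h6 : orderOf g ∣ 5 := by
        have h7 : Nat.Coprime (orderOf g) (2 ^ 2 * 3 ^ 2) :=
          Nat.Coprime.mul_right (((Nat.Prime.coprime_iff_not_dvd Nat.prime_two).2 h2).symm.pow_right 2)
            (((Nat.Prime.coprime_iff_not_dvd Nat.prime_three).2 h3).symm.pow_right 2)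
        exact h7.dvd_of_dvd_mul_left (by rw [show 2 ^ 2 * 3 ^ 2 * 5 = 180 by norm_num]; exact h5)
      rcases (Nat.dvd_prime (by norm_num)).1 h6 with h7 | h7
      · exact absurd (orderOf_eq_one_iff.1 h7) h1
      · apply good_small
        rw [card_cent_five h7]; norm_num
    obtain ⟨a, d, ha, hd, hcard⟩ := card_shape c3 c5 c11 c19 c31
    by_cases ha0 : a = 0
    · apply good_small
      rw [hcard, ha0, pow_zero, one_mul]
      exact (Nat.pow_le_pow_right (by norm_num) hd).trans (by norm_num)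
    · have c2 : 2 ∣ Nat.card (centralizer ({g} : Set ON)) := by
        rw [hcard]
        exact (dvd_pow_self 2 ha0).mul_right _
      obtain ⟨t, ht, htg⟩ := exists_comm Nat.prime_two c2
      obtain ⟨c, hc⟩ := exists_conj_f ht
      apply Good.of_conj c
      have hgK : c * g * c⁻¹ ∈ K0 := by
        rw [mem_K0, ← hc]
        exact conj_comm htg.symm
      refine good_seven ?_ hgK
      rw [order_conj]
      have h5 : orderOf g ∣ 2 ^ a * 7 ^ d := by rw [← hcard]; exact dvd_cent rfl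
      have h6 : orderOf g ∣ 7 ^ d :=
        Nat.Coprime.dvd_of_dvd_mul_left (((Nat.Prime.coprime_iff_not_dvd Nat.prime_two).2 h2).symm.pow_right a) h5
      have h7 : orderOf g ∣ 161280 := by
        rw [← order_conj c g, ← card_K0]
        have := _root_.orderOf_dvd_natCard (⟨c * g * c⁻¹, hgK⟩ : K0)
        rwa [← orderOf_coe] at this
      have h8 : orderOf g ∣ Nat.gcd (7 ^ 3) 161280 := Nat.dvd_gcd (h6.trans (pow_dvd_pow 7 hd)) h7
      rw [show Nat.gcd (7 ^ 3) 161280 = 7 by norm_num] at h8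
      rcases (Nat.dvd_prime (by norm_num)).1 h8 with h9 | h9
      · exact absurd (orderOf_eq_one_iff.1 h9) h1
      · exact h9

end Cfsg.Agent.H890.QON
end

-- part: H890/QON/Row
section
/-!
# S2491, S2492: the row of the O'Nan group (helper890)

`rowA_on` : every element of every perfect central extension of `O'N` is a commutator. In a triple cover the elements of
order divisible by three are conjugate to their central multiples (`H253.QON.fixed`), and every `g ≠ 1` of `O'N` of order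
prime to three is a commutator whose first member has order divisible by three (`good`).
-/

set_option autoImplicit false

namespace Cfsg.Agent.H890.QON

open Subgroup Cfsg Cfsg.Agent.H51.Mult Cfsg.Agent.H777.Ore Cfsg.Agent.H6.QO
open Cfsg.Spor (ON)

universe u

/-- the elements of order divisible by three of a triple cover are conjugate to their central multiples -/
def Fixed : Prop := ∀ (L : Type) [Group L] [Finite L] (π : L →* ON), PCE π → Nat.card π.ker = 3 →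
  ∀ g : L, 3 ∣ orderOf (π g) → ∀ ζ : L, π ζ = 1 → IsConj g (g * ζ)

theorem rowA_of_fixed (hF : Fixed) : RowA ON := by
  intro L _ _ π hπ
  have hcard : Nat.card π.ker ∣ 3 := (H68.Bounds.ker_of_hasCyclic S2052.result hπ).2
  rcases (Nat.dvd_prime Nat.prime_three).1 hcard with h1 | h3
  · -- `π` is an isomorphism
    have hinj : Function.Injective π := by
      rw [← MonoidHom.ker_eq_bot_iff]
      exact Subgroup.eq_bot_of_card_eq _ h1
    exact H535.Ore.ON.allC_on.congr (MulEquiv.ofBijective π ⟨hinj, hπ.surj⟩).symm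
  · have hfix := hF L π hπ h3
    intro g
    by_cases hg : π g = 1
    · -- central elements
      obtain ⟨z, hz, -, -⟩ := H210.On7.exists_three
      obtain ⟨z', rfl⟩ := hπ.surj z
      obtain ⟨c, hc⟩ := isConj_iff.1 (hfix z' (by rw [hz]) g hg)
      have hcen := hπ.comm hg
      refine ⟨c, z', ?_⟩
      rw [hc, mul_assoc, hcen, mul_inv_cancel_left]
    by_cases h : 3 ∣ orderOf (π g)
    · exact isC_of_conj_all hπ.surj (H535.Ore.ON.allC_on (π g)) (hfix g h)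
    · obtain ⟨x, k, hx, hxk⟩ := good hg h
      obtain ⟨x', rfl⟩ := hπ.surj x
      exact isC_of_pair hπ.surj hπ.cen hxk (hfix x' hx)

theorem rowA_ON : RowA ON :=
  rowA_of_fixed fun _ _ _ _ hπ h3 _ hg => H253.QON.fixed hπ h3 hg

/-- **S2491, S2492: the row of O'N.** -/
theorem rowA_on {S : Type u} [Group S] (h : Spor.IsoON S) : RowA S := by
  obtain ⟨e⟩ := h
  exact rowA_ON.congr e.symm

end Cfsg.Agent.H890.QON
end

private theorem dce_7db7fbbc7d1f : _root_.True := by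
  try have : _root_.True := by simp only [_root_.Cfsg.Agent.H890.QON.chk15.eq_1]
  exact _root_.True.intro
end

-- part: H523/QO/A1_mg
section
prune_inst 0xd0005725040000000004000460001cc3a2000102004b80014004000005808c40000006003800001800082004003c0048130000f0420000000a840400011900800888000220400091000006000008010000200000000000000000000000000004010000000
set_option linter.all false
open scoped Cfsg.Agent.FastGrp

-- part: H523/QO/Fr
section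
/-!
# Rows of S2491 / S2492: tools (helper523)
-/

set_option autoImplicit false

namespace Cfsg.Agent.H523.QO

open Cfsg.Agent.H51.Mult (PCE)
open Cfsg.Agent.H777.Ore (AllC IsC)
open Cfsg.Agent.H80.Fpf (IsCover MultDvd multDvd_of multDvd_of_cyclic exists_of_universal)

universe u v w

/-- local form of the row predicate -/
def RA (K : Type v) [Group K] : Prop := ∀ (L : Type) [Group L] [Finite L] (π : L →* K), PCE π → AllC L

theorem perf_of_allC {U : Type u} [Group U] (h : AllC U) : commutator U = ⊤ := by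
  rw [eq_top_iff]
  intro g _
  obtain ⟨a, b, rfl⟩ := h g
  exact Subgroup.commutator_mem_commutator (Subgroup.mem_top a) (Subgroup.mem_top b)

/-- **rows from a universal cover** -/
theorem RA.of_univ {K : Type v} [Group K] [Finite K] {m : ℕ} (hm0 : m ≠ 0) (hm : MultDvd K m)
    {U : Type} [Group U] [Finite U] {υ : U →* K} (hs : Function.Surjective υ) (hc : υ.ker ≤ Subgroup.center U)
    (hcard : Nat.card υ.ker = m) (hU : AllC U) : RA K := by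
  intro L _ _ π hπ
  obtain ⟨θ, hθ, -⟩ := exists_of_universal hm0 hm (υ := υ) ⟨hs, hc, perf_of_allC hU⟩ hcard (π := π)
    ⟨hπ.surj, hπ.cen, hπ.perf⟩
  exact AllC.of_surjective θ hθ hU

/-- the quotient by the centre -/
theorem RA.of_center {U : Type} [Group U] [Finite U] (hU : AllC U)
    (hm : MultDvd (U ⧸ Subgroup.center U) (Nat.card (Subgroup.center U))) : RA (U ⧸ Subgroup.center U) := by
  refine RA.of_univ (Nat.card_pos (α := Subgroup.center U)).ne' hm (υ := QuotientGroup.mk' (Subgroup.center U))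
    (QuotientGroup.mk'_surjective _) ?_ ?_ hU
  · rw [QuotientGroup.ker_mk']
  · rw [QuotientGroup.ker_mk']

theorem RA.congr {K : Type u} {K' : Type v} [Group K] [Group K'] (h : RA K) (e : K ≃* K') : RA K' := by
  intro L _ _ π hπ
  exact h L _ (hπ.congr e.symm)

end Cfsg.Agent.H523.QO
end

-- part: H523/QO/A1
section
/-!
# S2491 / S2492: the rows `Alt_n`, `PSL_n(q)`, `PSp_2m(q)`, `PSU_n(q)` (helper523)
-/

set_option autoImplicit false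

namespace Cfsg.Agent.H523.QO

open Cfsg
open Cfsg.Agent.H51.Mult (PCE)
open Cfsg.Agent.H777.Ore (AllC IsC)
open Cfsg.Agent.H80.Fpf (IsCover MultDvd multDvd_of multDvd_of_cyclic)

universe u v w

/-- **alternating groups** -/
theorem ra_alt {n : ℕ} (hn : 5 ≤ n) (h6 : n ≠ 6) (h7 : n ≠ 7) : RA (alternatingGroup (Fin n)) := by
  intro L _ _ π hπ
  have hker : Nat.card π.ker ≤ 2 := by
    refine S0892.result n (by omega) h6 h7 π.ker hπ.cen ?_ (QuotientGroup.quotientKerEquivOfSurjective π hπ.surj)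
    rw [hπ.perf]
    exact le_top
  have hpos : 0 < Nat.card π.ker := Nat.card_pos
  -- the kernel is the centre
  have hcK : Subgroup.center (alternatingGroup (Fin n)) = ⊥ := by
    have hs : IsSimpleGroup (alternatingGroup (Fin n)) := alternatingGroup.isSimpleGroup (α := Fin n) (by simpa only [_root_.Nat.card_eq_fintype_card, _root_.Fintype.card_fin] using hn)
    rcases (inferInstance : (Subgroup.center (alternatingGroup (Fin n))).Normal).eq_bot_or_eq_top with h | h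
    · exact h
    · exfalso
      have h1 : commutator (alternatingGroup (Fin n)) = ⊥ := by
        rw [commutator_def, Subgroup.commutator_eq_bot_iff_le_centralizer]
        intro x _
        rw [Subgroup.mem_centralizer_iff]
        intro y _
        have h2 : x ∈ Subgroup.center (alternatingGroup (Fin n)) := by rw [h]; exact Subgroup.mem_top _
        exact Subgroup.mem_center_iff.1 h2 y
      rw [hπ.perf_base] at h1
      exact top_ne_bot h1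
  have hc : Subgroup.center L = π.ker := by
    apply le_antisymm _ hπ.cen
    intro z hz
    rw [MonoidHom.mem_ker, ← Subgroup.mem_bot, ← hcK, Subgroup.mem_center_iff]
    intro y
    obtain ⟨g, rfl⟩ := hπ.surj y
    rw [← map_mul, ← map_mul, Subgroup.mem_center_iff.1 hz g]
  have h12 : Nat.card π.ker = 1 ∨ Nat.card π.ker = 2 := by omega
  rcases h12 with h | h
  · have hb : π.ker = ⊥ := Subgroup.card_eq_one.1 h
    have he : L ≃* alternatingGroup (Fin n) :=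
      MulEquiv.ofBijective π ⟨(MonoidHom.ker_eq_bot_iff π).1 hb, hπ.surj⟩
    exact AllC.congr he.symm (H134.Ore.ore_alt hn)
  · intro g
    have e : L ⧸ Subgroup.center L ≃* alternatingGroup (Fin n) :=
      (QuotientGroup.quotientMulEquivOfEq hc).trans (QuotientGroup.quotientKerEquivOfSurjective π hπ.surj)
    obtain ⟨a, b, hab⟩ := S2493.result hπ.perf hn (by rw [hc]; exact h) e g
    exact ⟨a, b, hab.symm⟩

/-- **`PSL_n(q)`**, generic -/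
theorem ra_psl_gen {F : Type} [Field F] [Fintype F] {n : ℕ} (hn : 2 ≤ n) (h4 : n = 2 → 4 ≤ Fintype.card F)
    (hex : (n, Fintype.card F) ∉ ({(2, 4), (2, 9), (3, 2), (3, 4), (4, 2)} : Set (ℕ × ℕ))) :
    RA (Matrix.ProjectiveSpecialLinearGroup (Fin n) F) := by
  have hc := S0280.card_center_SL (K := F) (n := n) (by omega)
  refine RA.of_center (U := Matrix.SpecialLinearGroup (Fin n) F) (S2444.result n hn h4) ?_
  rw [hc]
  refine multDvd_of_cyclic ?_ (S2086.result rfl n hn h4 hex)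
  exact (Nat.gcd_pos_of_pos_left _ (by omega)).ne'

/-- **`PSL_n(q)`**, all but `PSL_2(9)`, `PSL_3(4)` -/
theorem ra_psl {F : Type} [Field F] [Fintype F] {n : ℕ} (hn : 2 ≤ n) (h4 : n = 2 → 4 ≤ Fintype.card F)
    (h9 : ¬ (n = 2 ∧ Fintype.card F = 9)) (h34 : ¬ (n = 3 ∧ Fintype.card F = 4)) :
    RA (Matrix.ProjectiveSpecialLinearGroup (Fin n) F) := by
  by_cases h24 : n = 2 ∧ Fintype.card F = 4
  · obtain ⟨rfl, h⟩ := h24
    obtain ⟨e⟩ := S0252.result h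
    exact (ra_alt le_rfl (by norm_num) (by norm_num)).congr e.symm
  by_cases h32 : n = 3 ∧ Fintype.card F = 2
  · obtain ⟨rfl, h⟩ := h32
    haveI : Fact (Nat.Prime 7) := ⟨by norm_num⟩
    obtain ⟨e⟩ := S0255.result (F := ZMod 7) (K := F) (ZMod.card 7) h
    refine (ra_psl_gen le_rfl (fun _ => by rw [ZMod.card]; norm_num) ?_).congr e
    rw [ZMod.card]
    simp
  by_cases h42 : n = 4 ∧ Fintype.card F = 2
  · obtain ⟨rfl, h⟩ := h42
    obtain ⟨e⟩ := S0256.result h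
    exact (ra_alt (by norm_num) (by norm_num) (by norm_num)).congr e.symm
  refine ra_psl_gen hn h4 ?_
  simp only [Set.mem_insert_iff, Set.mem_singleton_iff, Prod.mk.injEq, not_or]
  exact ⟨h24, h9, h32, h34, h42⟩

/-- **`PSp_2m(q)`**, all but `PSp_6(2)` -/
theorem ra_psp {F : Type} [Field F] [Fintype F] {m : ℕ} (hm : 2 ≤ m) (h3 : m = 2 → 3 ≤ Fintype.card F)
    (h62 : ¬ (m = 3 ∧ Fintype.card F = 2)) : RA (PSp m F) := by
  have hc := S0246.result (F := F) rfl m (by omega)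
  refine RA.of_center (U := Matrix.symplecticGroup (Fin m) F) (S2445.result m (by omega) (fun h => by omega) h3) ?_
  rw [hc]
  refine multDvd_of_cyclic ?_ (S2092.result rfl m hm h3 h62)
  exact (Nat.gcd_pos_of_pos_left _ (by omega)).ne'

/-- **`PSU_n(q)`**, all but `PSU_4(3)`, `PSU_6(2)` -/
theorem ra_psu {F : Type} [Field F] [Fintype F] {n q : ℕ} (hF : Fintype.card F = q ^ 2) (hn : 3 ≤ n)
    (hex : ¬ (n = 3 ∧ q = 2)) (h43 : ¬ (n = 4 ∧ q = 3)) (h62 : ¬ (n = 6 ∧ q = 2)) : RA (PSU n F q) := by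
  by_cases h42 : n = 4 ∧ q = 2
  · obtain ⟨rfl, rfl⟩ := h42
    obtain ⟨e⟩ := S0822.result (F := F) (K := ZMod 3) (by rw [hF]; norm_num) (ZMod.card 3)
    refine (ra_psp le_rfl (fun _ => by rw [ZMod.card]) ?_).congr e.symm
    rw [ZMod.card]
    norm_num
  have hc := S0280.card_center hF n (by omega)
  refine RA.of_center (U := SU n F q) (S2446.result n q hn hF hex) ?_
  rw [hc]
  refine multDvd_of_cyclic ?_ (S2089.result n q hF hn hex ?_)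
  · exact (Nat.gcd_pos_of_pos_left _ (by omega)).ne'
  · simp only [Set.mem_insert_iff, Set.mem_singleton_iff, Prod.mk.injEq, not_or]
    exact ⟨h42, h43, h62⟩

end Cfsg.Agent.H523.QO
end

-- part: H204/QS/SpSix
section
/-!
# The double cover of `Sp₆(2)`: every element is a commutator (S2491, S2492, row D1; helper204)

`M` (`TwoSp6.Model`, matrices over `ZMod 3`) is the double cover, `S = Sp₆(2)`.  The element `x` with the word `wX` is
conjugate to `x z`; every one of the thirty representatives of helper612's class cover, except the transvection, is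
conjugate to a commutator `[x, k]`.  The lifts of a transvection are conjugate.
-/

set_option autoImplicit false
set_option maxRecDepth 100000

namespace Cfsg.Agent.H204.QS.SpSix

open Subgroup Cfsg.Agent.H51.Mult Cfsg.Agent.H6.QO Cfsg.Agent.H777.Ore Cfsg.Agent.H612.Ore
open Cfsg.Agent.SporRec.TwoSp6.Sp (V S om tr act act_one act_mul act_ext act_add act_om act_tr enc enc_xor om_enc
  fN exists_enc v vc tr_sq closure_v card_S)
open Cfsg.Agent.SporRec.TwoSp6.Model (M gen z wv wN lt cd_wv cd_inj cd_mul wv_append wv_cons wv_nil)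
open scoped commutatorElement

/-- the conjugating words (letters of the model) -/
def hws : List (List ℕ) := [[], [], [], [3, 2, 4], [0, 5,
  6, 5, 5, 3, 4, 1, 2, 5], [3, 5, 2, 1, 5, 4, 5, 3], [3, 5, 1, 2], [3], [3, 2, 4, 1, 3], [3, 5, 4, 5], [4,
  5], [3, 4, 0, 1, 3], [5, 3, 1, 2, 6], [3, 5, 4, 5], [3, 6, 1], [4, 6, 3], [3, 2, 1], [6, 1, 0, 6, 3, 5, 1,
  4, 5, 2, 2, 6], [4, 3, 2, 6, 1, 3], [4, 3, 6, 2], [6, 4, 4, 3, 4, 0, 5, 3], [5, 3, 2, 3, 6, 4, 4, 4], [6],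
  [6], [3, 1, 4], [3, 2, 5], [0, 3, 2], [6], [3, 5, 1], [2]]

/-- the second members of the pairs (letters of the model) -/
def kws : List (List ℕ) := [[], [], [0], [0, 2,
  3], [4, 3, 2, 1, 3, 4, 5, 6, 4, 2, 3, 0, 2, 1, 3, 4, 5, 0, 2, 3, 4, 2, 3, 0, 2, 1, 3], [4, 2, 3, 0, 2, 1,
  3, 4, 5, 6, 5, 4, 3, 2, 1, 3, 4, 5, 0, 2, 3, 4, 1, 3, 0], [3, 4, 5, 6, 1, 3, 4, 2, 3, 0, 2, 1, 3, 4, 5, 1,
  3, 4, 2, 3, 0, 2, 1, 3], [3, 4, 5, 6, 2, 3, 4, 5, 3, 2, 1, 3, 4, 3, 2, 1, 3], [2, 3, 0, 2, 1, 3, 4, 5, 6,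
  2, 1, 3, 4, 5, 4, 3, 0, 2, 1, 3, 4, 0, 2, 3], [6, 2, 3, 4, 2, 3], [3, 4, 2, 3, 0, 2, 1, 3, 4, 5, 4, 3, 2,
  1, 3, 4, 0, 2, 3, 0], [6, 3, 0, 2, 1, 3, 4, 5, 1, 3, 4, 2, 3, 0, 2, 1, 3, 4, 1, 3, 0], [5, 1, 3, 4, 2, 3,
  0, 2, 1, 3, 4, 5, 6, 4, 5, 4, 3, 2, 1, 3, 4, 3, 0, 2, 1, 3, 0], [3, 4, 2, 3, 0, 2, 1, 3, 4, 5, 2, 3, 0, 2,
  1, 3, 0], [6, 5, 3, 4, 2, 3, 0, 2, 1, 3, 4, 5, 6, 1, 3, 4, 5, 3, 0, 2, 1, 3, 4, 3, 2, 1, 3, 0], [4, 5, 6,
  2, 3, 4, 5, 0, 2, 1, 3, 4, 2, 1, 3, 0], [5, 4, 3, 2, 1, 3, 4, 5, 6, 0, 2, 3, 4, 5, 3, 2, 1, 3, 0], [6, 5,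
  4, 3, 0, 2, 1, 3, 4, 5, 3, 0, 2, 1, 3], [2, 1, 3, 4, 5, 6, 3, 0, 2, 1, 3, 4, 5, 0, 2, 1, 3, 4, 2, 3, 0, 2,
  1, 3], [6, 5, 3, 4, 2, 3, 0, 2, 1, 3, 4, 5, 6, 3, 4, 5, 2, 3, 0, 2, 1, 3, 4, 3, 2, 1, 3, 0], [3, 4, 5, 6,
  4, 5, 1, 3, 4, 2, 3, 0, 2, 1, 3, 4, 3, 0], [4, 3, 0, 2, 1, 3, 4, 5, 6, 1, 3, 4, 5, 3, 0, 2, 1, 3, 4, 0, 2,
  3], [5, 4, 3, 2, 1, 3, 4, 5, 6, 3, 0, 2, 1, 3, 4, 5, 1, 3, 4, 2, 3], [5, 3, 4, 2, 3, 0, 2, 1, 3, 4, 2, 3,
  0, 2, 1, 3], [6, 5, 4, 2, 3, 0, 2, 1, 3, 4, 2, 1, 3], [3, 4, 5, 6, 4, 3, 2, 1, 3, 4, 5, 0, 2, 1, 3, 4, 2,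
  3, 0, 2, 1, 3, 0], [4, 5, 6, 2, 3, 4, 5, 3, 2, 1, 3, 4, 3, 2, 1, 3], [5, 4, 3, 0, 2, 1, 3, 4, 2, 3, 0, 2,
  1, 3], [5, 6, 5, 3, 2, 1, 3, 4, 2, 3, 0, 2, 1, 3, 0], [5, 6, 3, 2, 1, 3, 4, 5, 3, 0, 2, 1, 3]]

/-- the word of `x` -/
def wX : List ℕ := [4, 5, 0, 2, 6]

/-- the word of the element that conjugates `x` to `x z` -/
def wC : List ℕ := [1]

/-! ### Words of vectors -/

/-- product of the transvections in the vectors with the given codes -/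
def tw (w : List ℕ) : S := (w.map fun c => tr (enc c)).prod

theorem tw_nil : tw [] = 1 := rfl

theorem tw_cons (c : ℕ) (w : List ℕ) : tw (c :: w) = tr (enc c) * tw w := by
  unfold tw; rw [List.map_cons, List.prod_cons]

theorem tw_append (u w : List ℕ) : tw (u ++ w) = tw u * tw w := by
  unfold tw; rw [List.map_append, List.prod_append]

theorem tw_reverse (w : List ℕ) : tw w.reverse = (tw w)⁻¹ := by
  induction w with
  | nil => rw [List.reverse_nil, tw_nil, inv_one]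
  | cons c w ih =>
    rw [List.reverse_cons, tw_append, ih, tw_cons, tw_cons, tw_nil, mul_one, mul_inv_rev,
      inv_eq_of_mul_eq_one_right (tr_sq (enc c))]

/-- one transvection on codes -/
def sc (c v : ℕ) : ℕ := bif B6 v c then v ^^^ c else v

/-- a word on codes -/
def sw (w : List ℕ) (v : ℕ) : ℕ := w.foldr sc v

theorem ap_tr {c : ℕ} (hc : c < 64) {v : ℕ} (hv : v < 64) : spAct.ap (tr (enc c)) v = sc c v := by
  rw [spAct_ap, act_tr, sc]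
  have h := B6_om hv hc
  have hlt : v ^^^ c < 64 := Nat.xor_lt_two_pow (n := 6) hv hc
  by_cases h1 : om (enc v) (enc c) = 1
  · rw [h, decide_eq_true h1, cond_true, h1, one_smul, ← enc_xor, cd_enc _ hlt]
  · have h0 : om (enc v) (enc c) = 0 := by
      rcases Cfsg.Agent.SporRec.TwoSp6.Sp.om_cases (enc v) (enc c) with h2 | h2
      · exact h2
      · exact absurd h2 h1
    rw [h, decide_eq_false h1, cond_false, h0, zero_smul, add_zero, cd_enc _ hv]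

theorem ap_tw {w : List ℕ} (hw : ∀ c ∈ w, c < 64) {v : ℕ} (hv : v < 64) : spAct.ap (tw w) v = sw w v := by
  induction w with
  | nil => exact spAct.one v hv
  | cons c w ih =>
    have ih' := ih fun d hd => hw d (List.mem_cons_of_mem _ hd)
    rw [tw_cons, spAct.mul _ _ _ hv, ih', ap_tr (hw c List.mem_cons_self)]
    · rfl
    · rw [← ih']; exact spAct.lt _ _ hv

/-- equality of two words -/
def eqw (u w : List ℕ) : Bool :=
  (u.all fun c => Nat.blt c 64) && (w.all fun c => Nat.blt c 64) &&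
    (List.range 6).all fun i => sw u (2 ^ i) == sw w (2 ^ i)

theorem tw_eq {u w : List ℕ} (h : eqw u w = true) : tw u = tw w := by
  rw [eqw, Bool.and_eq_true, Bool.and_eq_true] at h
  have h1 : ∀ c ∈ u, c < 64 := fun c hc => Nat.le_of_ble_eq_true (List.all_eq_true.1 h.1.1 c hc)
  have h2 : ∀ c ∈ w, c < 64 := fun c hc => Nat.le_of_ble_eq_true (List.all_eq_true.1 h.1.2 c hc)
  apply spAct.ext
  intro i hi
  rw [ap_tw h1 (two_pow_lt (n := 6) hi), ap_tw h2 (two_pow_lt (n := 6) hi)]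
  exact eq_of_beq (List.all_eq_true.1 h.2 i (List.mem_range.2 hi))

/-- codes of the letters of the model -/
def vl (w : List ℕ) : List ℕ := w.map fun k => [1, 48, 8, 3, 16, 6, 32].getD k 0

/-- codes of the letters of the class cover -/
def ul (w : List ℕ) : List ℕ := w.map uc

theorem tw_ul (w : List ℕ) : tw (ul w) = wd tv w := by
  induction w with
  | nil => rfl
  | cons j w ih =>
    rw [ul, List.map_cons, tw_cons, wd, ← ih]
    rfl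

/-! ### The cover -/

/-- the covering map -/
theorem exists_phi : ∃ φ : M →* S, (∀ i, φ (gen i) = tr (v i)) ∧ PCE φ ∧ Nat.card φ.ker = 2 ∧ φ.ker = zpowers z := by
  obtain ⟨φ, hφ, hz⟩ := Cfsg.Agent.SporRec.TwoSp6.Hom.exists_hom (D := S) (z' := 1) (a' := fun i => tr (v i))
    ⟨mul_one _, fun i => tr_sq _, fun i j hij => by
      rw [one_mul]
      exact Cfsg.Agent.SporRec.TwoSp6.Sp.tr_comm (by rw [Cfsg.Agent.SporRec.TwoSp6.Sp.om_v', if_neg (by omega)]),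
      fun i j hij => Cfsg.Agent.SporRec.TwoSp6.Sp.tr_braid
        (by rw [Cfsg.Agent.SporRec.TwoSp6.Sp.om_v', if_pos hij]), Cfsg.Agent.SporRec.TwoSp6.Sp.prod7_pow⟩
  have hfin : Finite M := inferInstance
  have hsurj : Function.Surjective φ := by
    rw [← MonoidHom.range_eq_top, eq_top_iff, ← closure_v, Subgroup.closure_le]
    rintro _ ⟨i, rfl⟩
    exact ⟨_, hφ i⟩
  have hcard : Nat.card φ.ker = 2 := by
    have h2 := Subgroup.card_eq_card_quotient_mul_card_subgroup φ.ker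
    rw [Nat.card_congr (QuotientGroup.quotientKerEquivOfSurjective φ hsurj).toEquiv, card_S,
      Cfsg.Agent.SporRec.TwoSp6.Order.card_M] at h2
    omega
  have hR := Cfsg.Agent.SporRec.TwoSp6.Model.rels
  have hker : φ.ker = zpowers z := by
    symm
    refine Subgroup.eq_of_le_of_card_ge ?_ ?_
    · rw [zpowers_le]; exact hz
    · rw [hcard, Cfsg.Agent.SporRec.TwoSp6.Lift.card_zpowers hR.z_ne hR.z_sq]
  have hstem : Cfsg.IsStemExtension φ := by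
    refine ⟨hsurj, ?_, ?_⟩
    · rw [hker, zpowers_le, mem_center_iff]
      intro g
      exact (hR.z_comm g).symm
    · rw [hker, zpowers_le]
      have h01 := hR.comm 0 1 (by decide)
      have : z = ⁅gen 0, gen 1⁆ := by
        rw [commutatorElement_def, h01]; group
      rw [this, _root_.commutator_def]
      exact commutator_mem_commutator (mem_top _) (mem_top _)
  exact ⟨φ, hφ, PCE.of_stem hstem Cfsg.Agent.H62.SpSix.commutator_S, hcard, hker⟩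

theorem map_wv {φ : M →* S} (hφ : ∀ i, φ (gen i) = tr (v i)) {w : List ℕ} (hw : ∀ k ∈ w, k < 7) :
    φ (wv gen z w) = tw (vl w) := by
  induction w with
  | nil => rw [wv_nil, map_one]; rfl
  | cons k w ih =>
    have hk : k < 7 := hw k List.mem_cons_self
    have e0 : vl (k :: w) = [1, 48, 8, 3, 16, 6, 32].getD k 0 :: vl w := rfl
    rw [wv_cons, map_mul, ih fun j hj => hw j (List.mem_cons_of_mem _ hj), e0, tw_cons]
    congr 1
    have h1 : lt gen z k = gen ⟨k, hk⟩ := by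
      unfold lt
      interval_cases k <;> rfl
    rw [h1, hφ]
    interval_cases k <;> rfl

/-! ### The checks -/

theorem chkX : Nat.beq (wN (wC ++ wX)) (wN (7 :: (wX ++ wC))) = true := by decide +kernel

theorem chkT : Nat.beq (wN [1, 0]) (wN [7, 0, 1]) = true := by decide +kernel

/-- the thirty relations -/
theorem chkA : ((List.range 30).all fun i => (i == 1) ||
    eqw (vl wX ++ (vl (kws.getD i []) ++ ((vl wX).reverse ++ ((vl (kws.getD i [])).reverse ++ vl (hws.getD i [])))))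
      (vl (hws.getD i []) ++ ul (rws.getD i []))) = true := by decide +kernel

theorem rel {i : ℕ} (hi : i < 30) (h1 : i ≠ 1) :
    tw (vl (hws.getD i [])) * wd tv (rws.getD i []) * (tw (vl (hws.getD i [])))⁻¹ =
      tw (vl wX) * tw (vl (kws.getD i [])) * (tw (vl wX))⁻¹ * (tw (vl (kws.getD i [])))⁻¹ := by
  have h := List.all_eq_true.1 chkA i (List.mem_range.2 hi)
  rw [Bool.or_eq_true] at h
  rcases h with h | h
  · exact absurd (eq_of_beq h) h1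
  · have h2 := tw_eq h
    rw [tw_append, tw_append, tw_append, tw_append, tw_append, tw_reverse, tw_reverse, tw_ul] at h2
    rw [← h2]
    group

theorem conj_of_words {a b : List ℕ} (h : Nat.beq (wN (a ++ b)) (wN (7 :: (b ++ a))) = true) :
    IsConj (wv gen z b) (wv gen z b * z) := by
  have h1 := Nat.eq_of_beq_eq_true h
  rw [← cd_wv, ← cd_wv, cd_inj, wv_cons, wv_append, wv_append] at h1
  have hz : lt gen z 7 = z := by
    unfold lt; simp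
  rw [hz] at h1
  have hc := Cfsg.Agent.SporRec.TwoSp6.Model.z_comm
  rw [isConj_iff]
  refine ⟨wv gen z a, ?_⟩
  have h2 := hc (wv gen z b)
  rw [h1, ← mul_assoc, h2]
  calc wv gen z b * z * wv gen z a * (wv gen z a)⁻¹ = wv gen z b * z := by group

/-- **every element of the double cover of `Sp₆(2)` is a commutator** -/
theorem allC_M : AllC M := by
  obtain ⟨φ, hφ, hP, -, hker⟩ := exists_phi
  intro g
  have hz : ∀ ζ : M, φ ζ = 1 → ζ ∈ zpowers z := fun ζ h => by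
    rw [← hker]; exact h
  have hz1 : φ z = 1 := by
    have : z ∈ φ.ker := by rw [hker]; exact mem_zpowers z
    exact this
  obtain ⟨i, hi, h, hh⟩ := exists_rep30 (φ g)
  by_cases h1 : i = 1
  · subst h1
    -- `g` is conjugate to a lift of the transvection
    obtain ⟨t, rfl⟩ := hP.surj h
    have e1 : wd tv (rws.getD 1 []) = φ (gen 0) := by
      rw [hφ, rws_one]; rfl
    have h2 : φ (t * g * t⁻¹) = φ (gen 0) := by
      rw [map_mul, map_mul, map_inv, hh, e1]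
    have h3 : (t * g * t⁻¹) * (gen 0)⁻¹ ∈ φ.ker := by
      rw [MonoidHom.mem_ker, map_mul, h2, ← map_mul, mul_inv_cancel, map_one]
    have hT : IsConj (gen 0) (gen 0 * z) := by
      have h4 := conj_of_words (a := [1]) (b := [0]) chkT
      have h5 : wv gen z [0] = gen 0 := by
        rw [wv_cons, wv_nil, mul_one]; rfl
      rwa [h5] at h4
    have hR := Cfsg.Agent.SporRec.TwoSp6.Model.rels
    have h4 : t * g * t⁻¹ = gen 0 ∨ t * g * t⁻¹ = gen 0 * z := by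
      rw [hker, Cfsg.Agent.SporRec.TwoSp6.Lift.mem_zpowers hR.z_sq] at h3
      rcases h3 with h3 | h3
      · left
        exact mul_inv_eq_one.1 h3
      · right
        rw [mul_inv_eq_iff_eq_mul] at h3
        rw [h3, hR.z_comm]
    have h5 : IsC (φ (gen 0)) := by
      rw [← e1]
      exact ⟨_, _, comm30 (by norm_num)⟩
    have h6 : IsC (gen 0) := by
      refine isC_of_conj_all hP.surj h5 fun ζ hζ => ?_
      rcases (Cfsg.Agent.SporRec.TwoSp6.Lift.mem_zpowers hR.z_sq).1 (hz ζ hζ) with rfl | rfl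
      · rw [mul_one]
      · exact hT
    have h7 : IsC (t * g * t⁻¹) := by
      rcases h4 with h4 | h4
      · rw [h4]; exact h6
      · rw [h4]; exact h6.of_isConj hT
    exact h7.of_isConj (isConj_iff.2 ⟨t, rfl⟩).symm
  · obtain ⟨t, ht⟩ := hP.surj (tw (vl (hws.getD i [])) * h)
    have hX : φ (wv gen z wX) = tw (vl wX) := map_wv hφ (by decide)
    have h2 : φ (t * g * t⁻¹) = φ (wv gen z wX) * tw (vl (kws.getD i [])) * (φ (wv gen z wX))⁻¹ *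
        (tw (vl (kws.getD i [])))⁻¹ := by
      rw [map_mul, map_mul, map_inv, ht, hX, ← rel hi h1, ← hh]
      group
    have h3 : IsC (t * g * t⁻¹) := isC_of_pair_zpowers hP.surj hP.cen hz hz1 h2 (conj_of_words chkX)
    exact h3.of_isConj (isConj_iff.2 ⟨t, rfl⟩).symm

theorem rowA_S : RowA S := by
  obtain ⟨φ, -, hP, hc, -⟩ := exists_phi
  refine RowA.of_univ (A := Multiplicative (ZMod 2)) Cfsg.Agent.H62.SpSix.hasCyclic_S hP ?_ allC_M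
  rw [hc]
  simp

/-- **row D1**: `PSp₆(2)` -/
theorem rowA_PSp {F : Type*} [Field F] [Fintype F] (hF : Fintype.card F = 2) : RowA (Cfsg.PSp 3 F) := by
  obtain ⟨e⟩ := Cfsg.Agent.StandardComponent.SpTwoAut.exists_equiv hF
  exact rowA_S.congr e.symm

end Cfsg.Agent.H204.QS.SpSix
end

-- part: H249/QO/GTwoFour
section
/-!
# `G₂(4)`: every element `≠ 1` is a product of a conjugate of `ω t` and a conjugate of `(ω t)⁻¹` (helper249)

`P = 2^{2+8}:(3 × A₅)`, `ω` the central element of order three of the Levi subgroup, `t` a short root involution of the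
Levi subgroup. The lifts of `ω t` in `2.G₂(4)` are conjugate to their products with the central involution (helper509), so
every element of `2.G₂(4)` is a commutator (S2491, S2492).
-/

set_option autoImplicit false
set_option linter.unusedSectionVars false

namespace Cfsg.Agent.H249.QO.GTwoFour

open CoxeterSystem Cfsg.Agent.ChevalleyStructure.CoxeterGeom Cfsg.Agent.Tits.Roots Cfsg.Agent.Tits.Core
  Cfsg.Agent.Nodes.Reps Cfsg.Agent.Nodes.BNOf Cfsg.Agent.Nodes.RGDLib Cfsg.Agent.Nodes.Bruhat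
  Cfsg.Agent.Nodes.OppDec Cfsg.Agent.Nodes.LeviDec Cfsg.Agent.Nodes.KindChev Cfsg.Agent.Nodes.ChevCls
  Cfsg.Agent.OddHalf.NI.ModelChev Cfsg.Agent.Nodes.StabComb
  Cfsg.Agent.H162.GaussDec Cfsg.Agent.H162.GaussLevi Cfsg.Agent.H162.GaussSL Cfsg.Agent.H162.GaussReg
  Cfsg.Agent.H162.GaussMain Cfsg.Agent.H162.GaussExc Cfsg.Agent.H162.GaussExcMain
  Cfsg.Agent.H928.Ore.Frame Cfsg.Agent.H928.Ore.Fix
open Cfsg.Lie Cfsg.Agent.ChevalleyStructure Cfsg.Agent.ChevalleyStructure.Elts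
  Cfsg.Agent.ChevalleyStructure.RootVec Cfsg.Agent.ChevalleyStructure.NPerm
  Cfsg.Agent.ChevalleyStructure.CoxeterGeomTypes Cfsg.Agent.Nodes.RGDChev Cfsg.Agent.KFacts.RgdChevCoord
open Cfsg.Agent.FixBN.FieldRGD (uu vv dd ww)
open Cfsg.Agent.H70.G2Even (inG2)
open scoped MatrixGroups

universe u

theorem hT : IsType chevG2 2 CoxeterMatrix.G₂ := by simp [IsType, typeList]

/-! ### `SL₂` in characteristic two -/

section

variable {K : Type u} [Field K]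

theorem dd_uu {c : K} (hc : c ≠ 0) (a : K) : dd c hc * uu a * (dd c hc)⁻¹ = uu (c * c * a) := by
  rw [mul_inv_eq_iff_eq_mul]
  apply Subtype.ext
  show !![c, 0; 0, c⁻¹] * !![1, a; 0, 1] = !![1, c * c * a; 0, 1] * !![c, 0; 0, c⁻¹]
  rw [Matrix.mul_fin_two, Matrix.mul_fin_two]
  ext i j
  fin_cases i <;> fin_cases j
  · simp
  · simp only [_root_.mul_one, _root_.MulZeroClass.mul_zero, _root_.add_zero, _root_.MulZeroClass.zero_mul, _root_.zero_add, _root_.Fin.zero_eta, _root_.Fin.isValue, _root_.Fin.mk_one, _root_.Matrix.of_apply, _root_.Matrix.cons_val', _root_.Matrix.cons_val_one, _root_.Matrix.cons_val_fin_one, _root_.Matrix.cons_val_zero, _root_.one_mul]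
    field_simp
  · simp
  · simp

theorem ww_uu (a : K) : ww 1 one_ne_zero * uu a * (ww 1 one_ne_zero)⁻¹ = vv (-a) := by
  rw [mul_inv_eq_iff_eq_mul]
  apply Subtype.ext
  show !![0, 1; -1⁻¹, 0] * !![1, a; 0, 1] = !![1, 0; -a, 1] * !![0, (1 : K); -1⁻¹, 0]
  rw [Matrix.mul_fin_two, Matrix.mul_fin_two]
  ext i j
  (revert i j; simp [_root_.Fin.forall_fin_succ])

theorem exists_uu [Finite K] [CharP K 2] {a : K} (ha : a ≠ 0) : ∃ P : SL(2, K), uu a = P * uu 1 * P⁻¹ := by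
  have := Fintype.ofFinite K
  obtain ⟨c, hc⟩ := FiniteField.isSquare_of_char_two (ringChar.eq K 2) a
  have hc0 : c ≠ 0 := by
    rintro rfl
    exact ha (by rw [hc, mul_zero])
  exact ⟨dd c hc0, by rw [dd_uu, mul_one, hc]⟩

theorem exists_vv [Finite K] [CharP K 2] {a : K} (ha : a ≠ 0) : ∃ P : SL(2, K), vv a = P * uu 1 * P⁻¹ := by
  obtain ⟨P, hP⟩ := exists_uu (K := K) (a := -a) (neg_ne_zero.2 ha)
  refine ⟨ww 1 one_ne_zero * P, ?_⟩
  have h1 := ww_uu (-a)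
  rw [_root_.neg_neg] at h1
  rw [← h1, hP]
  group

theorem uu_add' (a b : K) : uu (a + b) = uu a * uu b := Cfsg.Agent.FixBN.FieldRGD.uu_add a b

theorem vv_add' (a b : K) : vv (a + b) = vv a * vv b := by
  apply Subtype.ext
  show !![1, 0; a + b, 1] = !![1, 0; a, 1] * !![1, 0; b, 1]
  rw [Matrix.mul_fin_two]
  ext i j
  (revert i j; simp [_root_.Fin.forall_fin_succ])

/-- every `v u` is a product of two involutions -/
theorem exists_two [Finite K] [CharP K 2] (h3 : 3 ≤ Nat.card K) (a b : K) :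
    ∃ P Q : SL(2, K), vv a * uu b = (P * uu 1 * P⁻¹) * (Q * uu 1 * Q⁻¹) := by
  have hne : ∀ c : K, ∃ e : K, e ≠ 0 ∧ e ≠ c := by
    intro c
    by_contra hcon
    push Not at hcon
    have := Fintype.ofFinite K
    classical
    have h1 : (Finset.univ : Finset K) ⊆ {0, c} := by
      intro e _
      by_cases he : e = 0
      · simp [he]
      · simp [hcon e he]
    have h2 := Finset.card_le_card h1
    have h4 : ({0, c} : Finset K).card ≤ 2 := Finset.card_le_two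
    rw [Finset.card_univ, ← Nat.card_eq_fintype_card] at h2
    omega
  have key : ∀ X Y : SL(2, K), (∃ P, X = P * uu 1 * P⁻¹) → (∃ Q, Y = Q * uu 1 * Q⁻¹) →
      ∃ P Q : SL(2, K), X * Y = (P * uu 1 * P⁻¹) * (Q * uu 1 * Q⁻¹) := by
    rintro X Y ⟨P, hP⟩ ⟨Q, hQ⟩
    exact ⟨P, Q, by rw [hP, hQ]⟩
  by_cases ha : a = 0
  · subst ha
    have hv : vv (0 : K) = 1 := by
      apply Subtype.ext
      show !![1, 0; 0, 1] = (1 : Matrix (Fin 2) (Fin 2) K)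
      exact Matrix.one_fin_two.symm
    rw [hv, one_mul]
    obtain ⟨e, he, heb⟩ := hne b
    have h1 : uu b = uu e * uu (b - e) := by rw [← uu_add']; congr 1; ring
    rw [h1]
    exact key _ _ (exists_uu he) (exists_uu (sub_ne_zero.2 (Ne.symm heb)))
  · by_cases hb : b = 0
    · subst hb
      have hv : uu (0 : K) = 1 := by
        apply Subtype.ext
        show !![1, 0; 0, 1] = (1 : Matrix (Fin 2) (Fin 2) K)
        exact Matrix.one_fin_two.symm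
      rw [hv, mul_one]
      obtain ⟨e, he, hea⟩ := hne a
      have h1 : vv a = vv e * vv (a - e) := by rw [← vv_add']; congr 1; ring
      rw [h1]
      exact key _ _ (exists_vv he) (exists_vv (sub_ne_zero.2 (Ne.symm hea)))
    · exact key _ _ (exists_vv ha) (exists_uu hb)

end

/-! ### the element `ω` -/

section

variable {K : Type u} [Field K]

/-- `ω = h_a(λ) h_b(λ²)` -/
def sg (lam : Kˣ) : Fin 2 → Kˣ := ![lam, lam ^ 2]

theorem exp_eq (lam : Kˣ) (r : ℕ) : ∏ k : Fin 2, ((sg lam k : Kˣ) : K) ^ chevG2.cartan k r =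
    (lam : K) ^ (chevG2.cartan 0 r + 2 * chevG2.cartan 1 r) := by
  have hl : (lam : K) ≠ 0 := lam.ne_zero
  rw [Fin.prod_univ_two, zpow_add₀ hl, zpow_mul]
  simp [sg]

theorem exp_ne : ∀ r < chevG2.nroots, (∃ k, k ∉ ({0} : Set (Fin 2)) ∧ vec chevG2 2 r k ≠ 0) →
    ¬ (3 : ℤ) ∣ chevG2.cartan 0 r + 2 * chevG2.cartan 1 r := by
  have h : ∀ r < chevG2.nroots, vec chevG2 2 r 1 ≠ 0 → ¬ (3 : ℤ) ∣ chevG2.cartan 0 r + 2 * chevG2.cartan 1 r := by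
    decide +kernel
  intro r hr hk
  refine h r hr ?_
  obtain ⟨k, hk1, hk2⟩ := hk
  have : k = 1 := by
    fin_cases k
    · simp at hk1
    · rfl
  rwa [this] at hk2

theorem pow_ne {lam : Kˣ} (hl : orderOf lam = 3) {e : ℤ} (he : ¬ (3 : ℤ) ∣ e) : (lam : K) ^ e ≠ 1 := by
  intro h
  apply he
  have h1 : lam ^ e = 1 := by
    apply Units.ext
    rw [Units.val_zpow_eq_zpow_val, h, Units.val_one]
  have h2 := (orderOf_dvd_iff_zpow_eq_one).2 h1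
  rwa [hl] at h2

/-- the element -/
noncomputable def om (lam : Kˣ) : ↥(chevG2.group K) := th hT (sg lam)

theorem om_mem (lam : Kˣ) : om lam ∈ TT chevG2 K := (thT hT (sg lam)).2

theorem noFix_om {lam : Kˣ} (hl : orderOf lam = 3) :
    NoFix CoxeterMatrix.G₂.toCoxeterSystem hT.isCartan (XX chevG2 2 K) {0} (om lam) :=
  noFix_ch hT (om_mem lam) fun r hr hk => by
    rw [om, ch_th hT hr, exp_eq]
    exact pow_ne hl (exp_ne r hr hk)

theorem om_cube {lam : Kˣ} (hl : orderOf lam = 3) : om lam ^ 3 = 1 := by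
  unfold om
  rw [← map_pow]
  have h1 : sg lam ^ 3 = 1 := by
    have h2 : lam ^ 3 = 1 := by rw [← hl, pow_orderOf_eq_one]
    funext k
    fin_cases k
    · simp [sg, h2]
    · show (lam ^ 2) ^ 3 = 1
      rw [← pow_mul, mul_comm, pow_mul, h2, one_pow]
  rw [h1, map_one]

/-- `ω` commutes with the Levi factor -/
theorem om_comm (lam : Kˣ) (A : SL(2, K)) : om lam * sl hT (0 : Fin 2) A = sl hT (0 : Fin 2) A * om lam := by
  have h7 : ∀ r, r = 7 ∨ r = 4 → ∀ a : K, om lam * xc hT (vec chevG2 2 r) a = xc hT (vec chevG2 2 r) a * om lam := by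
    intro r hr a
    have hr' : r < chevG2.nroots := by rcases hr with rfl | rfl <;> decide
    have h1 := (act hT hr' (om_mem (K := K) lam)).2 a
    have h2 : ch hT (vec chevG2 2 r) (om lam) = (1 : K) := by
      rw [om, ch_th hT hr', exp_eq]
      have h3 : chevG2.cartan 0 r + 2 * chevG2.cartan 1 r = 0 := by rcases hr with rfl | rfl <;> decide
      rw [h3, zpow_zero]
    rw [h2, one_mul, mul_inv_eq_iff_eq_mul] at h1
    exact h1
  refine Cfsg.Agent.H928.Ore.TwS.comm_gen2 (fun a => ?_) (fun a => ?_) A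
  · rw [sl_uu, ← vec_simple hT]
    exact h7 7 (.inl rfl) a
  · rw [sl_vv, ← vec_simple hT, ← vec_neg hT (by decide)]
    exact h7 4 (.inr rfl) a

/-! ### the unipotent elements of the Levi subgroup -/

theorem root_pos : ∀ q < chevG2.nroots, vec chevG2 2 q 1 = 0 → 0 ≤ vec chevG2 2 q 0 → q = 7 := by decide +kernel

theorem of_UJ {u : ↥(chevG2.group K)} (hu : u ∈ UJ CoxeterMatrix.G₂.toCoxeterSystem hT.isCartan (XX chevG2 2 K) {0}) :
    ∃ a : K, u = sl hT (0 : Fin 2) (uu a) := by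
  let H : Subgroup ↥(chevG2.group K) :=
    { carrier := {u | ∃ a : K, u = sl hT (0 : Fin 2) (uu a)}
      one_mem' := ⟨0, by
        have hv : uu (0 : K) = 1 := by
          apply Subtype.ext
          show !![1, 0; 0, 1] = (1 : Matrix (Fin 2) (Fin 2) K)
          exact Matrix.one_fin_two.symm
        rw [hv, map_one]⟩
      mul_mem' := by
        rintro _ _ ⟨a, rfl⟩ ⟨b, rfl⟩
        exact ⟨a + b, by rw [uu_add', map_mul]⟩
      inv_mem' := by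
        rintro _ ⟨a, rfl⟩
        refine ⟨-a, ?_⟩
        rw [inv_eq_iff_mul_eq_one, ← map_mul, ← uu_add', add_neg_cancel]
        have hv : uu (0 : K) = 1 := by
          apply Subtype.ext
          show !![1, 0; 0, 1] = (1 : Matrix (Fin 2) (Fin 2) K)
          exact Matrix.one_fin_two.symm
        rw [hv, map_one] }
  have h1 : UJ CoxeterMatrix.G₂.toCoxeterSystem hT.isCartan (XX chevG2 2 K) {0} ≤ H := by
    refine RGD.Sup_le fun x hx => ?_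
    obtain ⟨q, hq, rfl⟩ := (isRoot_iff hT _ x).1 hx.1
    have hq7 : q = 7 := root_pos q hq (hx.2.2 1 (by simp)) (hx.2.1 0)
    subst hq7
    intro y hy
    obtain ⟨c, rfl⟩ := (mem_XX hT hq y).1 hy
    refine ⟨c, ?_⟩
    rw [sl_uu, ← vec_simple hT]
    rfl
  exact h1 hu

theorem of_UNJ {v : ↥(chevG2.group K)}
    (hv : v ∈ UNJ CoxeterMatrix.G₂.toCoxeterSystem hT.isCartan (XX chevG2 2 K) {0}) :
    ∃ a : K, v = sl hT (0 : Fin 2) (vv a) := by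
  let H : Subgroup ↥(chevG2.group K) :=
    { carrier := {u | ∃ a : K, u = sl hT (0 : Fin 2) (vv a)}
      one_mem' := ⟨0, by
        have hv : vv (0 : K) = 1 := by
          apply Subtype.ext
          show !![1, 0; 0, 1] = (1 : Matrix (Fin 2) (Fin 2) K)
          exact Matrix.one_fin_two.symm
        rw [hv, map_one]⟩
      mul_mem' := by
        rintro _ _ ⟨a, rfl⟩ ⟨b, rfl⟩
        exact ⟨a + b, by rw [vv_add', map_mul]⟩
      inv_mem' := by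
        rintro _ ⟨a, rfl⟩
        refine ⟨-a, ?_⟩
        rw [inv_eq_iff_mul_eq_one, ← map_mul, ← vv_add', add_neg_cancel]
        have hv : vv (0 : K) = 1 := by
          apply Subtype.ext
          show !![1, 0; 0, 1] = (1 : Matrix (Fin 2) (Fin 2) K)
          exact Matrix.one_fin_two.symm
        rw [hv, map_one] }
  have h1 : UNJ CoxeterMatrix.G₂.toCoxeterSystem hT.isCartan (XX chevG2 2 K) {0} ≤ H := by
    refine RGD.Sup_le fun x hx => ?_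
    have hx1 := hx.1.neg
    rw [_root_.neg_neg] at hx1
    obtain ⟨q, hq, rfl⟩ := (isRoot_iff hT _ x).1 hx1
    have root_neg : ∀ q < chevG2.nroots, vec chevG2 2 q 1 = 0 → vec chevG2 2 q 0 ≤ 0 → q = 4 := by decide +kernel
    have hq4 : q = 4 := root_neg q hq (by
      have := hx.2.2 1 (by simp)
      rwa [Pi.neg_apply, neg_eq_zero] at this) (by
      have := hx.2.1 0
      rwa [Pi.neg_apply, Pi.zero_apply, Left.nonneg_neg_iff] at this)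
    subst hq4
    intro y hy
    obtain ⟨c, rfl⟩ := (mem_XX hT hq y).1 hy
    refine ⟨c, ?_⟩
    rw [sl_vv, ← vec_simple hT, ← vec_neg hT (by decide)]
    rfl
  exact h1 hv

theorem sl_mem (A : SL(2, K)) :
    sl hT (0 : Fin 2) A ∈ LJ CoxeterMatrix.G₂.toCoxeterSystem hT.isCartan (TT chevG2 K) (XX chevG2 2 K) {0} := by
  have h1 : (⊤ : Subgroup SL(2, K)) ≤
      (LJ CoxeterMatrix.G₂.toCoxeterSystem hT.isCartan (TT chevG2 K) (XX chevG2 2 K) {0}).comap (sl hT (0 : Fin 2)) := by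
    rw [← Cfsg.Agent.LieClassical.SLGen.closure_transvections, Subgroup.closure_le]
    rintro _ ⟨i, j, hij, c, rfl⟩
    change sl hT (0 : Fin 2) _ ∈ LJ _ _ _ _ _
    have h7 : ∀ r, r = 7 ∨ r = 4 → ∀ a : K, xc hT (vec chevG2 2 r) a ∈
        LJ CoxeterMatrix.G₂.toCoxeterSystem hT.isCartan (TT chevG2 K) (XX chevG2 2 K) {0} := by
      intro r hr a
      have hr' : r < chevG2.nroots := by rcases hr with rfl | rfl <;> decide
      refine X_le_LJ (J := {0}) (x := vec chevG2 2 r) ⟨isRoot_vec hT _ hr', fun k hk => ?_⟩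
        ((mem_XX hT hr' _).2 ⟨_, rfl⟩)
      have hk1 : k = 1 := by
        fin_cases k
        · simp at hk
        · rfl
      subst hk1
      rcases hr with rfl | rfl <;> decide +kernel
    have hu : ∀ a : K, sl hT (0 : Fin 2) (uu a) ∈
        LJ CoxeterMatrix.G₂.toCoxeterSystem hT.isCartan (TT chevG2 K) (XX chevG2 2 K) {0} := fun a => by
      rw [sl_uu, ← vec_simple hT]
      exact h7 7 (.inl rfl) a
    have hv : ∀ a : K, sl hT (0 : Fin 2) (vv a) ∈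
        LJ CoxeterMatrix.G₂.toCoxeterSystem hT.isCartan (TT chevG2 K) (XX chevG2 2 K) {0} := fun a => by
      rw [sl_vv, ← vec_simple hT, ← vec_neg hT (by decide)]
      exact h7 4 (.inr rfl) a
    fin_cases i <;> fin_cases j
    · exact absurd rfl hij
    · have e := Cfsg.Agent.H928.Ore.TwS.tv01 c
      have h2 := hu c
      rw [← e] at h2
      exact h2
    · have e := Cfsg.Agent.H928.Ore.TwS.tv10 c
      have h2 := hv c
      rw [← e] at h2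
      exact h2
    · exact absurd rfl hij
  exact h1 (Subgroup.mem_top A)

/-! ### the pairs -/

theorem uu_one_sq [CharP K 2] : (uu (1 : K)) * uu 1 = 1 := by
  rw [← uu_add', CharTwo.add_self_eq_zero]
  apply Subtype.ext
  show !![1, 0; 0, 1] = (1 : Matrix (Fin 2) (Fin 2) K)
  exact Matrix.one_fin_two.symm

theorem nf_pow {Y : Type*} [Group Y] {V : Subgroup Y} {c : Y} (h : NF V (c ^ 4)) : NF V c := by
  intro x hx h1
  apply h x hx
  have h2 : c * x = x * c := by rw [mul_inv_eq_iff_eq_mul] at h1; exact h1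
  have h3 : c ^ 4 * x = x * c ^ 4 := ((Commute.pow_left (show Commute c x from h2) 4)).eq
  rw [h3, mul_inv_cancel_right]

/-- the pairs in the Levi subgroup -/
theorem pairs [Finite K] [CharP K 2] (h3 : 3 ≤ Nat.card K) {lam : Kˣ} (hl : orderOf lam = 3)
    {v u : ↥(chevG2.group K)} (hv : v ∈ UNJ CoxeterMatrix.G₂.toCoxeterSystem hT.isCartan (XX chevG2 2 K) {0})
    (hu : u ∈ UJ CoxeterMatrix.G₂.toCoxeterSystem hT.isCartan (XX chevG2 2 K) {0}) :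
    ∃ c₁ c₂, v * u = c₁ * c₂ ∧
      LP CoxeterMatrix.G₂.toCoxeterSystem hT.isCartan (TT chevG2 K) (XX chevG2 2 K) {0} c₁ c₂ ∧
      ((∃ a, c₁ = a * (om lam * sl hT (0 : Fin 2) (uu 1)) * a⁻¹) ∧
        ∃ b, c₂ = b * (om lam * sl hT (0 : Fin 2) (uu 1))⁻¹ * b⁻¹) := by
  have H2 := exists_two h3
  have := finite_W hT CoxeterMatrix.G₂.toCoxeterSystem
  have R := rgd (K := K) hT CoxeterMatrix.G₂.toCoxeterSystem 2
  obtain ⟨a, rfl⟩ := of_UNJ hv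
  obtain ⟨b, rfl⟩ := of_UJ hu
  obtain ⟨P, Q, hPQ⟩ := H2 a b
  obtain ⟨w, hw⟩ : ∃ w, w = om lam := ⟨_, rfl⟩
  have hc : ∀ A : SL(2, K), w * sl hT (0 : Fin 2) A = sl hT (0 : Fin 2) A * w := fun A => by rw [hw]; exact om_comm lam A
  have hwJ : w ∈ LJ CoxeterMatrix.G₂.toCoxeterSystem hT.isCartan (TT chevG2 K) (XX chevG2 2 K) {0} :=
    T_le_LJ (by rw [hw]; exact om_mem lam)
  have hw3 : w ^ 3 = 1 := by rw [hw]; exact om_cube hl
  have hNF := nf_conj R (by rw [hw]; exact om_mem lam) (by rw [hw]; exact noFix_om hl) (one_mem (LJ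
    CoxeterMatrix.G₂.toCoxeterSystem hT.isCartan (TT chevG2 K) (XX chevG2 2 K) {0})) (t := w)
  have hNFi := nf_conj R (by rw [hw]; exact inv_mem (om_mem lam)) (by rw [hw]; exact NoFix.inv (noFix_om hl)) (one_mem (LJ
    CoxeterMatrix.G₂.toCoxeterSystem hT.isCartan (TT chevG2 K) (XX chevG2 2 K) {0})) (t := w⁻¹)
  simp only [one_mul, inv_one, mul_one] at hNF hNFi
  rw [← hw]
  obtain ⟨f, hf⟩ : ∃ f, f = sl hT (K := K) (0 : Fin 2) := ⟨_, rfl⟩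
  have hc' : ∀ A : SL(2, K), w * f A = f A * w := fun A => by rw [hf]; exact hc A
  have hfJ : ∀ A : SL(2, K), f A ∈ LJ CoxeterMatrix.G₂.toCoxeterSystem hT.isCartan (TT chevG2 K) (XX chevG2 2 K) {0} :=
    fun A => by rw [hf]; exact sl_mem A
  rw [← hf, ← map_mul, hPQ]
  have hu2 : f (uu 1) * f (uu 1) = 1 := by rw [← map_mul, uu_one_sq, map_one]
  have hui : (f (uu 1))⁻¹ = f (uu 1) := inv_eq_of_mul_eq_one_left hu2
  have hci : ∀ A : SL(2, K), w⁻¹ * f A = f A * w⁻¹ := fun A => by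
    rw [inv_mul_eq_iff_eq_mul, ← mul_assoc, hc' A, mul_inv_cancel_right]
  have hconj : ∀ P : SL(2, K), f (P * uu 1 * P⁻¹) * f (P * uu 1 * P⁻¹) = 1 := fun P => by
    rw [← map_mul]
    have : P * uu 1 * P⁻¹ * (P * uu 1 * P⁻¹) = P * (uu 1 * uu 1) * P⁻¹ := by group
    rw [this, uu_one_sq, mul_one, mul_inv_cancel, map_one]
  refine ⟨w * f (P * uu 1 * P⁻¹), w⁻¹ * f (Q * uu 1 * Q⁻¹), ?_, ⟨mul_mem hwJ (hfJ _), mul_mem (inv_mem hwJ) (hfJ _), ?_, ?_⟩,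
    ⟨f P, ?_⟩, f Q, ?_⟩
  · rw [hc', map_mul]
    group
  · apply nf_pow
    have h4 : (w * f (P * uu 1 * P⁻¹)) ^ 4 = w := by
      have h5 : Commute w (f (P * uu 1 * P⁻¹)) := hc' _
      rw [h5.mul_pow, show (4 : ℕ) = 3 + 1 from rfl, pow_succ w, hw3, one_mul]
      have h6 : f (P * uu 1 * P⁻¹) ^ (3 + 1) = 1 := by
        rw [show (3 + 1 : ℕ) = 2 * 2 from rfl, pow_mul, pow_two (f _), hconj, one_pow]
      rw [h6, mul_one]
    rw [h4]
    exact hNF.2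
  · apply nf_pow
    have h4 : (w⁻¹ * f (Q * uu 1 * Q⁻¹)) ^ 4 = w⁻¹ := by
      have h5 : Commute w⁻¹ (f (Q * uu 1 * Q⁻¹)) := hci _
      rw [h5.mul_pow]
      have h6 : f (Q * uu 1 * Q⁻¹) ^ 4 = 1 := by
        rw [show (4 : ℕ) = 2 * 2 from rfl, pow_mul, pow_two (f _), hconj, one_pow]
      rw [h6, mul_one, inv_pow, show (4 : ℕ) = 3 + 1 from rfl, pow_succ, hw3, one_mul]
    rw [h4]
    exact hNFi.1
  · rw [map_mul, map_mul, map_inv]
    calc w * (f P * f (uu 1) * (f P)⁻¹) = (w * f P) * f (uu 1) * (f P)⁻¹ := by group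
      _ = f P * w * f (uu 1) * (f P)⁻¹ := by rw [hc']
      _ = _ := by group
  · rw [map_mul, map_mul, map_inv, mul_inv_rev, hui]
    calc w⁻¹ * (f Q * f (uu 1) * (f Q)⁻¹) = (w⁻¹ * f Q) * f (uu 1) * (f Q)⁻¹ := by group
      _ = f Q * (w⁻¹ * f (uu 1)) * (f Q)⁻¹ := by rw [hci]; group
      _ = f Q * (f (uu 1) * w⁻¹) * (f Q)⁻¹ := by rw [hci]
      _ = _ := by group

end

/-- **Every element `≠ 1` of `G₂(4)` is a product of a conjugate of `ω t` and a conjugate of `(ω t)⁻¹`.** -/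
theorem exists_pair {F : Type*} [Field F] [Fintype F] [CharP F 2] (h4 : Fintype.card F = 4) :
    ∃ w : ↥(chevG2.group F), w ^ 3 = 1 ∧
      (∀ u : F, w * ⟨xG inG2 7 u, xG_mem_group inG2 7 u⟩ = ⟨xG inG2 7 u, xG_mem_group inG2 7 u⟩ * w) ∧
      ∀ g : ↥(chevG2.group F), g ≠ 1 → ∃ a b : ↥(chevG2.group F),
        g = a * (w * ⟨xG inG2 7 1, xG_mem_group inG2 7 1⟩) * a⁻¹ *
          (b * (w * ⟨xG inG2 7 1, xG_mem_group inG2 7 1⟩)⁻¹ * b⁻¹) := by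
  have hcard : Nat.card F = 4 := by rw [Nat.card_eq_fintype_card, h4]
  have HP := @pairs F _ _ _ (by rw [hcard]; norm_num)
  obtain ⟨lam, hlam⟩ := IsCyclic.exists_ofOrder_eq_natCard (α := Fˣ)
  have hl : orderOf lam = 3 := by
    classical
    rw [hlam, Nat.card_eq_fintype_card, Fintype.card_units, h4]
  have hx : ∀ u : F, (⟨xG inG2 7 u, xG_mem_group inG2 7 u⟩ : ↥(chevG2.group F)) = sl hT (0 : Fin 2) (uu u) := by
    intro u
    rw [sl_uu, ← vec_simple hT]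
    apply Subtype.ext
    have h7 : chevG2.simple ((0 : Fin 2) : ℕ) = 7 := by decide
    rw [h7]
    exact (coe_xc hT (by decide) u).symm
  have R := rgd (K := F) hT CoxeterMatrix.G₂.toCoxeterSystem 2
  have := finite_W hT CoxeterMatrix.G₂.toCoxeterSystem
  have hs : IsSimpleGroup ↥(chevG2.group F) := (Cfsg.Agent.S1055.result ⟨(lam : F), lam.ne_zero, fun h => by
    have h1 : lam = 1 := Units.ext h
    rw [h1, orderOf_one] at hl
    omega⟩).1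
  have hcore : ∀ g : ↥(chevG2.group F), g ≠ 1 → g ∉ (RGD.B CoxeterMatrix.G₂.toCoxeterSystem hT.isCartan (TT chevG2 F)
      (XX chevG2 2 F)).normalCore := by
    intro g hg h
    have h1 := core_le_ker R (MonoidHom.id _) Function.surjective_id (fun x hx => by
      rw [MonoidHom.mem_ker] at hx
      change x = 1 at hx
      rw [hx]
      exact one_mem _) h
    exact hg h1
  have hG := G1_eq_top hT (K := F) CoxeterMatrix.G₂.toCoxeterSystem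
  have hconn := Cfsg.Agent.Nodes.ChevChart.irr_of Cfsg.Agent.Nodes.ChevChart.irrG
  refine ⟨om lam, om_cube hl, fun u => ?_, fun g hg => ?_⟩
  · rw [hx]
    exact om_comm lam _
  · obtain ⟨c₁, c₂, x, y, ⟨⟨a, ha⟩, b, hb⟩, e⟩ := pair R hG (coord hT) hconn (J := {0})
      (Pr := fun c₁ c₂ => (∃ a, c₁ = a * (om lam * sl hT (0 : Fin 2) (uu 1)) * a⁻¹) ∧
        ∃ b, c₂ = b * (om lam * sl hT (0 : Fin 2) (uu 1))⁻¹ * b⁻¹)
      (fun v hv u hu => HP hl hv hu) (hcore g hg)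
    refine ⟨x * a, y * b, ?_⟩
    rw [e, ha, hb, hx]
    group

end Cfsg.Agent.H249.QO.GTwoFour
end

-- part: H509/QS/Row
section
/-!
# `RowA` of `G₂(4)` (S2491/S2492, D6; helper509, pairs in `G₂(4)` by helper249)
-/

set_option autoImplicit false

namespace Cfsg.Agent.H509.QS

open Cfsg.Lie

universe u v

/-- **Every element of every perfect central extension of `G₂(4)` is a commutator.** -/
theorem rowA_g2_four {F : Type u} [Field F] [Fintype F] (hF : Fintype.card F = 4) :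
    Cfsg.Agent.H6.QO.RowA ↥(chevG2.group F) := by
  have : CharP F 2 := by
    obtain ⟨p, hpc⟩ := CharP.exists F
    obtain ⟨n, hp, hn⟩ := FiniteField.card F p
    rw [hF] at hn
    have h2 : p = 2 := by
      have h4 : p ∣ 2 ^ 2 := by
        rw [show (2 : ℕ) ^ 2 = 4 by norm_num, hn]
        exact dvd_pow_self p n.ne_zero
      exact (Nat.prime_dvd_prime_iff_eq hp Nat.prime_two).1 (hp.dvd_of_dvd_pow h4)
    rwa [h2] at hpc
  exact GTwo.rowA_of hF (Cfsg.Agent.H249.QO.GTwoFour.exists_pair hF)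

end Cfsg.Agent.H509.QS
end

-- part: H767/QO/HSRow
section
/-!
# Every element of a finite perfect central extension of `HS` is a commutator (helper767; S2491, S2492)
-/

set_option autoImplicit false

namespace Cfsg.Agent.H767.QO.HS

open Cfsg Subgroup
open Cfsg.Agent.H777.Ore (IsC AllC)
open Cfsg.Agent.HN.DoubleCover (φK φK_surj)
open Cfsg.Agent.H51.Mult (PCE)

universe v

theorem allC_of_surj {G H : Type*} [Group G] [Group H] (h : AllC G) (f : G →* H) (hf : Function.Surjective f) :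
    AllC H := by
  intro x
  obtain ⟨g, rfl⟩ := hf x
  obtain ⟨a, b, e⟩ := h g
  exact ⟨f a, f b, by rw [e]; simp only [map_mul, map_inv]⟩

/-- **The row `HS`**: every finite perfect central extension. -/
theorem row_hs {S : Type v} [Group S] (h : Spor.IsoHS S) (L : Type) [Group L] [Finite L] (π : L →* S) (hπ : PCE π) :
    AllC L := by
  obtain ⟨e⟩ := h
  obtain ⟨⟨f⟩, -⟩ := Cfsg.Agent.HN.AutHS.nonempty_Q
  -- the cover as an extension of `Spor.HS`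
  let σ : Cfsg.Agent.HN.HS100.K →* Spor.HS := f.toMonoidHom.comp φK
  have hs : Function.Surjective σ := f.surjective.comp φK_surj
  have hk : σ.ker = φK.ker := by
    ext x
    change f (φK x) = 1 ↔ φK x = 1
    rw [map_eq_one_iff f f.injective]
  have hc : σ.ker ≤ center _ := by rw [hk]; exact pce_K.cen
  have hfin : Finite Spor.HS := Finite.of_equiv _ f.toEquiv
  have hst : IsStemExtension σ := ⟨hs, hc, by rw [perfect_K]; exact le_top⟩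
  have hcomm : commutator Spor.HS = ⊤ := by
    have h1 : (commutator Cfsg.Agent.HN.HS100.K).map σ = ⁅σ.range, σ.range⁆ := map_commutator_eq _ σ
    rw [perfect_K, ← MonoidHom.range_eq_map, MonoidHom.range_eq_top.2 hs] at h1
    rw [commutator_def]
    exact h1.symm
  have hcard : Nat.card σ.ker = Nat.card (Multiplicative (ZMod 2)) := by
    rw [hk, Cfsg.Agent.HN.DoubleCover.card_ker Cfsg.Agent.HN.H0Basic.card_H0 Cfsg.Agent.HN.H0Basic.τ_ne_one, Nat.card_congr Multiplicative.toAdd, Nat.card_zmod]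
  -- the given extension
  let π' : L →* Spor.HS := e.toMonoidHom.comp π
  have hk' : π'.ker = π.ker := by
    ext x
    change e (π x) = 1 ↔ π x = 1
    rw [map_eq_one_iff e e.injective]
  obtain ⟨ψ, hψ, -⟩ := H95.StemCover.exists_cover' hcomm S2046.result σ hst hcard hπ.perf π'
    (e.surjective.comp hπ.surj) (by rw [hk']; exact hπ.cen)
  exact allC_of_surj allC_K ψ hψ

end Cfsg.Agent.H767.QO.HS
end

private theorem dce_48bdfeee21f1 : _root_.True := by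
  try have : _root_.True := by simp only [_root_.Cfsg.Agent.H204.QS.SpSix.sc.eq_1]
  try have : _root_.True := by simp only [_root_.Cfsg.Agent.Nodes.LeviDec.VJ.congr_simp]
  try have : _root_.True := by simp only [_root_.Cfsg.Agent.Nodes.LeviDec.VNJ.congr_simp]
  try have : _root_.True := by simp only [_root_.Cfsg.Agent.H249.QO.GTwoFour.sg.eq_1]
  try have : _root_.True := by simp only [_root_.Cfsg.Agent.FixBN.FieldRGD.ww.congr_simp]
  try have : _root_.True := by simp only [_root_.Cfsg.Agent.H249.QO.GTwoFour.om.eq_1]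
  try have : _root_.True := by simp only [_root_.Cfsg.Agent.H204.QS.SpSix.ul.eq_1]
  try have : _root_.True := by simp only [_root_.Cfsg.Agent.H204.QS.SpSix.eqw.eq_1]
  exact _root_.True.intro
end

-- part: H75/QO/Data
section
prune_inst 0xf03057257c221200001c001462003ce3fa000102006b880171c40d020dcfdc41a0458621faf00e1a91debcf4787ec048131001f9423000002a84be00411f00a09caf7ae2a67cbf953f000fc0f80f190c00200000000000000000000000041004010000000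
set_option linter.all false
private noncomputable def lq260cc3e456 {T : Sort _} (f :
    type_of% (@_root_.List.cons.{0}) →
    type_of% (@_root_.Prod.mk.{0, 0}) →
    type_of% (@_root_.List.nil.{0}) →
    type_of% (@_root_.Cfsg.Agent.H935.OreO8.Dat.mk) → T) : T :=
  f (@_root_.List.cons.{0}) (@_root_.Prod.mk.{0, 0}) (@_root_.List.nil.{0}) (@_root_.Cfsg.Agent.H935.OreO8.Dat.mk)

/-!
# Pairs of isometries of the `E8` lattice over the 39 classes of `Ω₈⁺(2)` (helper75, row 2.Co1 of S2492)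

For each certificate `d` of `H935.OreO8.data` : integral isometries `A`, `B` over its generating pair, and integral isometries
`A'`, `B'` over another generating pair with `[A', B'] = -[A, B]`.
-/

set_option autoImplicit false

namespace Cfsg.Agent.H75.QO

open Cfsg.Agent.StdO8.Model Cfsg.Agent.StdO8.Code
open Cfsg.Agent.H935.OreO8 (Dat)
open Matrix

/-- integral vectors -/
structure R8 where
  a : ℤ
  b : ℤ
  c : ℤ
  d : ℤ
  e : ℤ
  f : ℤ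
  g : ℤ
  h : ℤ
  deriving DecidableEq

/-- the vector -/
def R8.fn (x : R8) : L8 := ![x.a, x.b, x.c, x.d, x.e, x.f, x.g, x.h]

/-- inner product of coordinates -/
def R8.dot (x y : R8) : ℤ :=
  x.a * y.a + x.b * y.b + x.c * y.c + x.d * y.d + x.e * y.e + x.f * y.f + x.g * y.g + x.h * y.h

/-- a matrix, given by its columns -/
structure C8 where
  c0 : R8
  c1 : R8
  c2 : R8
  c3 : R8
  c4 : R8
  c5 : R8
  c6 : R8
  c7 : R8

/-- one coordinate of the image -/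
def lin8 (v : R8) (x0 x1 x2 x3 x4 x5 x6 x7 : ℤ) : ℤ :=
  x0 * v.a + x1 * v.b + x2 * v.c + x3 * v.d + x4 * v.e + x5 * v.f + x6 * v.g + x7 * v.h

/-- matrix times vector -/
def C8.ap (A : C8) (v : R8) : R8 :=
  ⟨lin8 v A.c0.a A.c1.a A.c2.a A.c3.a A.c4.a A.c5.a A.c6.a A.c7.a, lin8 v A.c0.b A.c1.b A.c2.b A.c3.b A.c4.b A.c5.b A.c6.b A.c7.b,
    lin8 v A.c0.c A.c1.c A.c2.c A.c3.c A.c4.c A.c5.c A.c6.c A.c7.c, lin8 v A.c0.d A.c1.d A.c2.d A.c3.d A.c4.d A.c5.d A.c6.d A.c7.d,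
    lin8 v A.c0.e A.c1.e A.c2.e A.c3.e A.c4.e A.c5.e A.c6.e A.c7.e, lin8 v A.c0.f A.c1.f A.c2.f A.c3.f A.c4.f A.c5.f A.c6.f A.c7.f,
    lin8 v A.c0.g A.c1.g A.c2.g A.c3.g A.c4.g A.c5.g A.c6.g A.c7.g, lin8 v A.c0.h A.c1.h A.c2.h A.c3.h A.c4.h A.c5.h A.c6.h A.c7.h⟩

/-- columns -/
def C8.col (A : C8) : Fin 8 → R8 := ![A.c0, A.c1, A.c2, A.c3, A.c4, A.c5, A.c6, A.c7]

/-- the matrix -/
def C8.mat (A : C8) : M8 := Matrix.of fun i j => (A.col j).fn i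

/-- one entry of the table -/
structure Ent where
  A : C8
  B : C8
  A' : C8
  B' : C8
  x : R8
  d : Dat

/-- the table -/
def ents : List Ent := (beta% (fun (vq0 : List Cfsg.Agent.H75.QO.Ent) => (beta% delta% lq260cc3e456 fun a b c d =>
 (let e:type_of% vq0:=(let e:type_of% vq0:=(let e:type_of% vq0:=(a ⟨⟨⟨3, 0, -3, -2, 0, 2, 2, 1⟩, ⟨0, 1, -1, -1, 0, 0, 1, 1⟩, ⟨1, 0, 0, -1, 1, 0, 0, 1⟩, ⟨-1, -2, 2, 0, 0, 1, -2, -1⟩, ⟨-2, 1, 1, 2, -1, -2, 0, -1⟩, ⟨-2, 0, 3, 1, 1, -1, -2, 0⟩, ⟨-1, -1, 2, 1, 0, -1, -1, -1⟩, ⟨-1, -2, 3, 0, 1, 0, -3, 0⟩⟩, ⟨⟨-1, 0, 0, 1, -2, 0, 1, -2⟩, ⟨-2, -2, 0, 0, -3, 1, 1, -3⟩, ⟨0, -1, -2, -1, -3, 1, 2, -1⟩, ⟨1, 1, 0, 0, 2, 0, -1, 2⟩, ⟨0, 0, 1, -1, 2, -1, -2, 2⟩, ⟨0, -2, -1, -2, -1, 2, 0, 0⟩, ⟨2, 0, -1, -1, 1, 0, 0, 2⟩, ⟨2, 0, -1, -1, 1, 1, 0, 2⟩⟩, ⟨⟨-3, 1, 2, 0, 0, -2, -2, 1⟩, ⟨-1, 1, -1, -1, -1, 0, 0, 1⟩, ⟨-2, 0, -1, -1, -3, 0, 1, -1⟩, ⟨2, 0, 0, 2, 1,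 1, 2, -2⟩, ⟨2, 0, -1, 0, 1, 0, 0, 1⟩, ⟨2, 0, -2, 1, -1, 2, 3, -2⟩, ⟨1, -1, -2, -1, -2, 1, 2, -1⟩, ⟨2, -1, -1, 1, -1, 2, 3, -3⟩⟩, ⟨⟨0, -1, 0, -1, 0, 1, 0, -1⟩, ⟨-2, -1, 3, 0, 1, -1, -3, 0⟩, ⟨-1, 0, 2, 0, 2, -1, -2, 1⟩, ⟨0, 2, -2, -1, -1, -1, 1, 2⟩, ⟨1, 0, 0, 2, 0, 0, 1, -1⟩, ⟨-2, 2, 2, 1, 1, -3, -2, 2⟩, ⟨0, 1, 0, 1, 1, -1, 0, 1⟩, ⟨0, 3, -1, 0, 1, -2, 0, 3⟩⟩, ⟨-1, 0, 3, 1, 2, -2, -3, 1⟩,
 (d (a (b 240 26)<|a (b 74 89)<|a (b 180 75)<|a (b 243 145)<|c) (a (b 18 171)<|a (b 1 104)<|a (b 32 204)<|a (b 2 128)<|a (b 72 132)<|a (b 4 136)<|c) (b 6 7) 4 249 30 (a (b 7 56)<|a (b 10 494)<|a (b 9 410)<|a (b 10 837)<|a (b 8 212)<|c) 18056150458342153569)⟩<|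
 a ⟨⟨⟨0, 0, 2, 2, 1, 0, 0, -1⟩, ⟨0, 2, 2, 2, 3, -2, -1, 1⟩, ⟨1, 1, 2, 3, 2, -1, 0, -1⟩, ⟨0, -1, -2, -2, -2, 2, 1, -1⟩, ⟨-1, 0, -1, -2, -1, -1, -1, 2⟩, ⟨1, 1, -1, -1, 1, 0, 0, 1⟩, ⟨0, -1, 0, 0, -1, 0, 0, -1⟩, ⟨1, -1, -2, -1, -2, 2, 2, -2⟩⟩, ⟨⟨1, 3, 1, 3, 3, -2, 0, 1⟩, ⟨0, 1, 1, 0, 2, -1, -1, 2⟩, ⟨3, 1, -2, 0, 1, 1, 2, 1⟩, ⟨-1, -2, 0, 0, -2, 1, 1, -3⟩, ⟨-1, -2, 0, -2, -2, 1, -1, 0⟩, ⟨0, -3, 0, -2, -1, 2, 0, -1⟩, ⟨2, -1, -3, -2, -2, 2, 2, 0⟩, ⟨1, -2, -2, -1, -2, 2, 2, -2⟩⟩, ⟨⟨-1, -1, -1, -1, -2, 0, 0, 0⟩, ⟨-3, -2, 1, -2, -2, 0, -2, 0⟩, ⟨-1, -1, -2, -3, -2, 1, 0, 1⟩, ⟨1, 3, 1, 2, 3, -2, -1, 2⟩, ⟨1, 0, 0, 1, 0, 1, 2, -2⟩, ⟨-1, 1, 1, -1, 1, -1, -2, 2⟩, ⟨2, 0, -2, -1, 0, 2, 2, 0⟩, ⟨2, 2, -1, 0, 2, 0, 0, 2⟩⟩, ⟨⟨0, -2, 2, 0, 1, 0, -2, 0⟩, ⟨0, 0, 0, 0, 0, -1, -1, 1⟩, ⟨0, -3, 0, -1, -2, 2, 0, -2⟩, ⟨0, 2, 1, 1, 2, -1, -1, 1⟩, ⟨-1, 1, -2, -1, -2, 0, 2, 0⟩, ⟨0, 2, -1, 0, 0, -1, 0, 1⟩,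 ⟨0, -2, -2, -2, -3, 3, 2, -2⟩, ⟨0, 0, 0, 0, 0, 1, 0, -1⟩⟩, ⟨0, -1, 0, -1, 0, 1, 0, -1⟩,
 (d (a (b 205 190)<|a (b 161 234)<|a (b 249 208)<|a (b 5 160)<|c) (a (b 51 17)<|a (b 1 40)<|a (b 32 192)<|a (b 2 68)<|a (b 12 192)<|a (b 4 128)<|c) (b 2 1) 4 11 213 (a (b 9 272)<|a (b 12 3941)<|a (b 11 470)<|a (b 11 1793)<|a (b 11 1806)<|c) 76281953585750465)⟩<|
 a ⟨⟨⟨0, 0, 2, 1, 2, 0, -2, 0⟩, ⟨2, 0, 0, 0, 2, 1, 0, 0⟩, ⟨-2, 0, 2, 0, 1, -1, -2, 0⟩, ⟨0, 0, 1, 1, 0, -1, 0, 0⟩, ⟨0, 0, -3, -1, -3, 1, 3, -1⟩, ⟨1, 1, 0, 1, 1, -1, 1, 0⟩, ⟨-3, 0, 0, -1, -2, -1, 0, 0⟩, ⟨-2, 0, 2, 1, 0, -2, -1, 0⟩⟩, ⟨⟨-1, -3, 1, -1, -1, 1, -1, -1⟩, ⟨0, -1, 2, 2, 1, 0, 0, -2⟩, ⟨-1, -1, 2, 0, 1, -1, -2, 0⟩, ⟨1, 2, 0, 1, 2, -1, -1, 2⟩, ⟨1, 1, -2, -1, -1, 1, 2, 0⟩, ⟨2, 2, 1, 3, 3, -1, 0, 0⟩, ⟨-1, 1, 0, -1, 0, -1, -1, 1⟩, ⟨0, 2, 1, 1, 2, -2, -2, 2⟩⟩, ⟨⟨0, 2, 2, 2, 3, -3, -2, 2⟩, ⟨-1, 1, 2, 1, 1, -2, -1, 1⟩, ⟨-1, -1, 2,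 0, 1, -1, -2, 1⟩, ⟨2, 0, -4, -2, -2, 2, 3, 0⟩, ⟨-1, -2, 0, -1, -2, 2, 0, -2⟩, ⟨1, -1, -2, -2, -2, 2, 2, 0⟩, ⟨-1, -3, 0, -1, -2, 2, 0, -2⟩, ⟨1, -1, -3, -2, -2, 2, 2, 0⟩⟩, ⟨⟨2, 0, -2, 1, -1, 1, 3, -2⟩, ⟨1, 2, -1, 1, 1, -1, 1, 0⟩, ⟨-1, 1, 1, 2, 0, -2, 0, -1⟩, ⟨-2, -2, 1, -1, -1, 1, -1, -1⟩, ⟨0, 0, 1, -1, 1, 0, -2, 2⟩, ⟨-2, 0, 2, 0, 1, -1, -2, 0⟩, ⟨-2, 0, 3, 1, 1, -2, -3, 1⟩, ⟨-3, -1, 3, 1, 0, -1, -2, -1⟩⟩, ⟨0, -1, 2, 2, 1, 0, -1, -1⟩,
 (d (a (b 235 104)<|a (b 48 31)<|a (b 217 183)<|a (b 22 134)<|c) (a (b 18 107)<|a (b 1 12)<|a (b 32 76)<|a (b 2 72)<|a (b 64 136)<|a (b 4 128)<|c) (b 4 1) 4 186 237 (a (b 11 1808)<|a (b 1 0)<|a (b 8 247)<|a (b 10 1001)<|a (b 7 87)<|c) 13373731138556896585)⟩<|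
 a ⟨⟨⟨1, 2, -3, 0, -1, 0, 3, 0⟩, ⟨3, 2, -1, 2, 2, 0, 2, 0⟩, ⟨3, 0, -3, 0, -1, 2, 3, -1⟩, ⟨-1, -1, 1, -2, 1, 0, -3, 2⟩, ⟨-2, -1, 3, 1, 0, -1, -2, -1⟩, ⟨2, 0, 1, 0, 3, 0, -2, 2⟩, ⟨0, -3, 0, -1, -2, 2, 0, -2⟩, ⟨0, -2, 0, -2, 0, 1, -2, 1⟩⟩, ⟨⟨2, -1, 1, 1, 1, 1, 0, -1⟩, ⟨1, 0, 1, 0, 2, 0, -2, 1⟩, ⟨1, 2, 1, 2, 2, -1, 0, 0⟩, ⟨-2, 1, 1, 1, 0, -2, -1, 1⟩, ⟨0, 0, -3, -2, -2, 1, 2, 0⟩, ⟨-1, 2, 1, 1, 2, -2, -2, 2⟩, ⟨-1, 2, -1, 1, -1, -1, 2, -1⟩, ⟨-2, 2, 1, 2, 0, -2, 0, 0⟩⟩, ⟨⟨0, -2, 0, -2, -1, 1, 0, 0⟩, ⟨2, -2, -2, -3, -1, 3, 1, 0⟩, ⟨2, 0, -1, 0, 0, 1, 2, -1⟩, ⟨-2, 0, 3, 2, 1, -1, -2, -1⟩, ⟨0, 3, -1, 1, 1, -2, 0, 2⟩, ⟨0, 0, 0, 0, 0, 1, 0, -1⟩, ⟨1, 3, 0, 3, 2, -2, 1, 0⟩, ⟨-1, 1, 2, 3, 1, -1, 0, -2⟩⟩, ⟨⟨-2, -1, 0, 0, -2, 0, 0, -2⟩, ⟨-1, 1, -1, 1, -2, 0, 2, -2⟩, ⟨1, -1, -3, -1, -3, 2, 3, -2⟩, ⟨0, 0, 0, -2, 1, 0, -2, 3⟩, ⟨1, 1, 1, 1, 2, -1, 0, 1⟩, ⟨1, 2, -2, -1, 0, 0, 1, 2⟩, ⟨3, -1, -2,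 -1, 0, 2, 2, 0⟩, ⟨2, -1, -2, -3, 0, 2, 0, 2⟩⟩, ⟨-1, -2, 2, 1, -1, 1, 0, -3⟩,
 (d (a (b 32 192)<|a (b 28 165)<|a (b 206 235)<|a (b 48 56)<|c) (a (b 3 48)<|a (b 1 142)<|a (b 12 32)<|a (b 2 68)<|a (b 204 68)<|c) (b 5 15) 6 115 11 (a (b 7 21)<|a (b 8 224)<|a (b 8 7)<|a (b 8 198)<|a (b 9 463)<|c) 7963779238459973079)⟩<|
 a ⟨⟨⟨-1, -2, 0, 0, -2, 1, 1, -2⟩, ⟨2, -1, -2, 0, -1, 2, 2, -1⟩, ⟨1, -2, 1, 0, 1, 1, -1, 0⟩, ⟨0, 2, -1, -1, 1, -1, 0, 2⟩, ⟨0, 1, 1, 1, 1, -1, -1, 0⟩, ⟨3, 2, -2, 0, 2, 0, 1, 2⟩, ⟨0, 0, 3, 1, 3, -1, -3, 1⟩, ⟨0, 2, 1, 0, 3, -2, -2, 3⟩⟩, ⟨⟨1, 0, 0, -1, 2, 0, -2, 2⟩, ⟨1, 0, 1, -1, 2, 0, -2, 2⟩, ⟨2, -1, 0, 0, 1, 2, 0, -1⟩, ⟨0, 0, -2, -1, -2, 1, 2, 0⟩, ⟨-1, 0, 1, 2, -1, -1, 1, -2⟩, ⟨1, 0, 0, 0, 0, 1, 1, 0⟩, ⟨0, -2, 0, 1, -2, 2, 2, -4⟩, ⟨0, -1, -1, 0, -2, 2, 2, -2⟩⟩, ⟨⟨2, 1, 0, 0, 2, 0, -1, 2⟩, ⟨2, 0, 0, -1, 2, 0, -1, 2⟩, ⟨1, 2, -1, -1, 2, -1, -1, 3⟩, ⟨0, -1, -1, 1, -2,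 1, 2, -3⟩, ⟨-2, -1, 1, 0, -1, 0, 0, -1⟩, ⟨0, -1, 0, 0, 0, 0, 0, -1⟩, ⟨-2, 1, -1, -1, -1, -1, 0, 1⟩, ⟨-1, 1, -1, 1, -1, -1, 1, -1⟩⟩, ⟨⟨-2, -1, 2, 0, 0, 0, -2, 0⟩, ⟨-1, -2, -1, -2, -3, 2, 1, -1⟩, ⟨0, -3, 1, -1, -1, 2, -1, -1⟩, ⟨1, 1, -1, -1, 1, 0, 0, 1⟩, ⟨2, 2, -1, 2, 1, -1, 2, 0⟩, ⟨1, -1, -2, -2, -2, 2, 2, -1⟩, ⟨2, 0, 0, 1, 1, 0, 0, 0⟩, ⟨1, 0, 0, -1, 1, 0, -1, 1⟩⟩, ⟨0, -3, 1, 0, -1, 2, 0, -2⟩,
 (d (a (b 18 165)<|a (b 26 53)<|a (b 249 44)<|a (b 80 111)<|c) (a (b 3 48)<|a (b 1 36)<|a (b 32 196)<|a (b 2 68)<|a (b 64 136)<|a (b 4 8)<|c) (b 4 7) 6 10 80 (a (b 12 2290)<|a (b 12 2193)<|a (b 10 586)<|a (b 8 180)<|a (b 12 2114)<|c) 7351944098296018140)⟩<|c);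
 (a ⟨⟨⟨0, -2, -2, -2, -3, 2, 2, -1⟩, ⟨-1, 1, -2, -1, -2, 0, 2, 0⟩, ⟨-1, 0, -2, -1, -3, 0, 2, -1⟩, ⟨0, 1, 2, 0, 3, -2, -3, 3⟩, ⟨0, 1, 2, 3, 2, -1, -1, -1⟩, ⟨-1, 3, 1, 1, 2, -3, -1, 2⟩, ⟨-1, 0, 1, 1, 0, -1, -1, -1⟩, ⟨0, 1, 1, 0, 2, -2, -2, 2⟩⟩, ⟨⟨1, 1, 0, -1, 2, 0, -1, 2⟩, ⟨2, 1, 1, 2, 3, 0, 0, 0⟩, ⟨1, -1, 1, 0, 1, 1, 0, -1⟩, ⟨0, -2, 0, -1, -1, 1, -1, 0⟩, ⟨-1, 1, -1, 1, -2, -1, 2, -1⟩, ⟨2, -2, 0, 1, 0, 2, 1, -2⟩, ⟨-1, -1, 0, 0, -2, 0, 1, -2⟩, ⟨0, -3, 0, -1, -2, 2, 0, -2⟩⟩, ⟨⟨3, 1, -1, 1, 1, 1, 2, 0⟩, ⟨2, -1, -1, 0, 0, 2, 2, -1⟩, ⟨1, 0, 0, 1, 0, 0, 1, 0⟩, ⟨-1, 2, 0, 1, 1, -2, -1, 1⟩, ⟨-2, -2, 1, -2, -1, 0, -2, 0⟩, ⟨-1, 0, 1, 1, 1, -1, -1, 0⟩, ⟨-2, -1, 1, -1, -1, -1, -2, 1⟩, ⟨-2, 2, 1, 1, 1, -3, -2, 2⟩⟩, ⟨⟨-1, 0, 0, 0, -2, 0, 1, -1⟩, ⟨1, 0, 0, 0, 0, 1, 1, -1⟩, ⟨1, -2, 0, -1, -1, 2, 0, -1⟩, ⟨-1, 2, 2, 1, 3, -3, -3, 3⟩, ⟨1, -1, -1, 0, 0, 1, 1, -1⟩, ⟨1, 1, 1, 0, 3, -1, -2, 2⟩, ⟨2,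 -2, -1, -1, 0, 2, 0, 0⟩, ⟨0, 0, 1, -1, 2, -1, -3, 3⟩⟩, ⟨2, 1, -2, -1, 1, 1, 1, 1⟩,
 (d (a (b 180 86)<|a (b 103 191)<|a (b 44 241)<|a (b 125 181)<|c) (a (b 16 192)<|a (b 1 38)<|a (b 102 34)<|a (b 2 196)<|a (b 8 64)<|a (b 4 8)<|c) (b 1 0) 4 73 52 (a (b 10 687)<|a (b 8 233)<|a (b 12 3983)<|a (b 11 1461)<|a (b 10 631)<|c) 15912856173871448535)⟩<|
 a ⟨⟨⟨-1, 1, 0, 2, -1, -1, 1, -1⟩, ⟨-1, 2, 0, 2, 0, -1, 1, -1⟩, ⟨1, 2, 0, 3, 1, -1, 2, -1⟩, ⟨1, -3, -1, -2, -2, 3, 1, -2⟩, ⟨1, 0, 0, -2, 2, 0, -2, 3⟩, ⟨1, -1, 0, 0, 0, 2, 1, -2⟩, ⟨2, 0, 0, 0, 2, 0, 0, 1⟩, ⟨2, -2, 0, 0, 0, 2, 1, -2⟩⟩, ⟨⟨-1, 0, 1, -1, 1, 0, -2, 1⟩, ⟨1, 2, 0, 0, 2, -1, -1, 2⟩, ⟨0, 1, 1, 0, 2, -1, -1, 1⟩, ⟨2, -2, 0, 1, 0, 2, 1, -2⟩, ⟨-1, 1, -1, 1, -2, -1, 2, -1⟩, ⟨3, 1, 0, 2, 2, 0, 1, 0⟩, ⟨0, 0, -1, 0, -1, 0, 2, -1⟩, ⟨2, -1, 0, 1, 1, 1, 1, -1⟩⟩, ⟨⟨2, 1, 1, 2, 2, 0, 0, 0⟩, ⟨1, -1, 1, 2, 0, 1, 1, -2⟩, ⟨1, 1, 2, 3, 3, -1, -1,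 0⟩, ⟨0, 1, -3, -1, -2, 0, 2, 0⟩, ⟨-3, -1, 1, -2, -1, -1, -2, 1⟩, ⟨-1, 0, -1, 1, -2, 0, 2, -2⟩, ⟨-1, 1, 1, 0, 2, -2, -2, 2⟩, ⟨0, 2, -2, 0, 0, -1, 1, 1⟩⟩, ⟨⟨1, -1, -1, 1, -1, 2, 2, -3⟩, ⟨-1, -1, 0, 1, -2, 1, 2, -3⟩, ⟨2, -1, -2, 0, -1, 2, 3, -2⟩, ⟨0, -1, -1, -3, -1, 1, -1, 2⟩, ⟨-1, 2, 2, 1, 2, -3, -2, 2⟩, ⟨-1, -2, 0, -2, -2, 1, 0, 0⟩, ⟨1, 1, -1, -1, 1, -1, 0, 2⟩, ⟨1, -1, -2, -3, -1, 1, 0, 2⟩⟩, ⟨-1, 2, 0, 1, 0, -2, 0, 0⟩,
 (d (a (b 195 142)<|a (b 164 170)<|a (b 126 222)<|a (b 224 91)<|c) (a (b 16 142)<|a (b 1 166)<|a (b 96 38)<|a (b 2 140)<|a (b 4 128)<|c) (b 3 3) 6 193 180 (a (b 6 13)<|a (b 9 462)<|a (b 8 142)<|a (b 11 1050)<|a (b 10 285)<|c) 11547370252164946529)⟩<|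
 a ⟨⟨⟨-1, -2, -2, -3, -3, 2, 1, -1⟩, ⟨-1, -1, -2, -2, -3, 1, 1, 0⟩, ⟨0, -2, -1, -3, -1, 2, -1, 1⟩, ⟨1, 3, 0, 1, 2, -2, 0, 2⟩, ⟨0, 0, 3, 3, 2, -1, -1, -1⟩, ⟨0, 2, 0, 0, 1, -2, -1, 3⟩, ⟨1, 0, 2, 1, 3, 0, -2, 1⟩, ⟨2, 2, 0, 0, 3, -1, -1, 3⟩⟩, ⟨⟨-1, 0, 1, -1, 0, -1, -1, 1⟩, ⟨0, -2, 0, -2, -1, 2, 0, -1⟩, ⟨0, -3, 0, -2, -2, 2, 0, -1⟩, ⟨1, 1, 1, 3, 2, -1, 0, -1⟩, ⟨0, 1, -1, 0, 0, 0, 0, 1⟩, ⟨1, -2, 0, 0, 0, 2, 0, -2⟩, ⟨0, -1, -1, 0, -2, 1, 1, -1⟩, ⟨0, -1, 1, 2, 0, 0, 0, -2⟩⟩, ⟨⟨-3, 0, 1, 1, -2, -1, 0, -2⟩, ⟨-3, -2, 1, -1, -2, 0, -1, -1⟩, ⟨-3, -1, 3, 0, 0, -1, -3, 0⟩, ⟨3, 0, -1, 1, 1, 1, 1, 0⟩, ⟨2, 1, -1, -1, 2, 0, 0, 2⟩, ⟨1, -2, 1, 0, 1, 1, -1, 0⟩, ⟨1, 0, 1, -1, 2, 0, -2, 2⟩, ⟨2, 0, 1, 1, 2, 0, -1, 1⟩⟩, ⟨⟨0, 0, 0, -2, 1, -1, -2, 3⟩, ⟨1, 1, -1, 0, 1, -1, 0, 2⟩, ⟨1, 1, -1, 0, 0, -1, 1, 1⟩, ⟨-1, 2, 0, 1, 0, -1, 0, 0⟩, ⟨0, -2, 1, 1, -1, 2, 1, -3⟩, ⟨0, 3, 0, 3, 1, -2, 1, 0⟩, ⟨0, -1, 0,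 1, -2, 1, 2, -3⟩, ⟨0, 2, 0, 2, 0, -1, 1, -1⟩⟩, ⟨1, 0, 0, 0, 0, 0, 0, 0⟩,
 (d (a (b 183 96)<|a (b 164 124)<|a (b 250 125)<|a (b 193 162)<|c) (a (b 18 163)<|a (b 1 204)<|a (b 96 38)<|a (b 2 8)<|a (b 64 128)<|a (b 4 8)<|c) (b 5 5) 3 153 102 (a (b 11 155)<|a (b 7 39)<|a (b 7 92)<|a (b 7 8)<|a (b 8 215)<|c) 8678572046609555062)⟩<|
 a ⟨⟨⟨-1, -1, 1, -2, 1, 0, -3, 2⟩, ⟨1, 2, -1, -1, 2, -1, -1, 3⟩, ⟨-2, 1, 0, -2, 0, -2, -2, 3⟩, ⟨1, -1, -2, 0, -2, 2, 3, -2⟩, ⟨0, 1, 1, 3, 0, -1, 1, -2⟩, ⟨1, 2, -3, 0, -1, 0, 3, 0⟩, ⟨-2, 1, 1, 1, -1, -2, 0, 0⟩, ⟨-1, 0, -1, 0, -2, 0, 2, -1⟩⟩, ⟨⟨-2, 0, 2, 0, 0, -1, -2, 0⟩, ⟨-3, 0, 0, -2, -2, -1, -1, 1⟩, ⟨-2, 0, 1, 0, -1, 0, 0, -1⟩, ⟨2, 0, 0, 0, 2, 0, 0, 1⟩, ⟨2, -1, -2, 0, -1, 2, 2, -1⟩, ⟨0, 0, -1, -2, 0, 0, 0, 2⟩, ⟨1, 0, 0, 2, 0, 1, 2, -2⟩, ⟨1, 0, 1, 1, 2, 0, 0, 0⟩⟩, ⟨⟨2, -1, -1, 0, 0, 2, 2, -1⟩, ⟨2, -2, 1, 0, 1, 2, 0, -1⟩, ⟨3, 0, -1, 1, 1, 1, 2, -1⟩, ⟨-2,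 0, -1, -1, -3, 0, 1, -1⟩, ⟨-2, 2, 2, 1, 2, -3, -3, 2⟩, ⟨0, -1, 0, -1, -1, 1, 0, -1⟩, ⟨0, 2, 0, 2, 1, -2, 0, 0⟩, ⟨0, 1, -2, 0, -2, 0, 2, -1⟩⟩, ⟨⟨1, -1, -1, 0, -2, 2, 2, -2⟩, ⟨0, -3, 0, -1, -2, 3, 1, -3⟩, ⟨-2, -1, 2, 1, -1, 0, -1, -2⟩, ⟨0, 1, 0, 1, 1, -1, 0, 1⟩, ⟨0, 2, 0, 0, 2, -2, -1, 2⟩, ⟨-1, -1, 2, 1, 1, 0, -1, -1⟩, ⟨-2, 2, 2, 1, 2, -3, -3, 2⟩, ⟨-1, 1, 2, 2, 2, -2, -2, 1⟩⟩, ⟨1, 0, 1, 1, 2, -1, -1, 1⟩,
 (d (a (b 135 158)<|a (b 11 167)<|a (b 171 225)<|a (b 8 38)<|c) (a (b 6 16)<|a (b 1 64)<|a (b 32 200)<|a (b 2 204)<|a (b 72 132)<|a (b 4 8)<|c) (b 3 1) 6 48 87 (a (b 7 8)<|a (b 11 1276)<|a (b 9 373)<|a (b 10 904)<|a (b 10 353)<|c) 393773000931835474)⟩<|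
 a ⟨⟨⟨-3, 0, 3, 2, 0, -2, -2, -1⟩, ⟨-2, 1, 2, 1, 1, -2, -2, 0⟩, ⟨-2, -1, 1, -1, -1, 0, -2, 0⟩, ⟨3, 2, -2, 1, 1, 0, 2, 1⟩, ⟨2, -2, -2, -2, -1, 3, 2, -1⟩, ⟨2, 2, -2, 0, 1, 0, 1, 1⟩, ⟨1, -2, -2, -3, -2, 3, 1, 0⟩, ⟨2, 1, -3, -1, -1, 1, 2, 1⟩⟩, ⟨⟨1, 1, -1, 1, 0, 0, 2, 0⟩, ⟨3, 1, -2, 1, 1, 1, 2, 0⟩, ⟨2, 2, -3, -1, 0, 0, 2, 2⟩, ⟨-2, 1, 2, 2, 0, -2, -1, -1⟩, ⟨-1, -2, 1, -2, 0, 1, -2, 0⟩, ⟨1, 1, -1, 1, 0, 0, 1, -1⟩, ⟨-1, 0, -1, -3, -1, 0, -1, 2⟩, ⟨-1, 1, 0, 0, -1, -1, 0, 0⟩⟩, ⟨⟨-2, 1, 3, 2, 2, -2, -2, 0⟩, ⟨-2, -1, 2, -1, 0, 0, -2, 0⟩, ⟨0, 1, 1, 1, 1, 0, 0, 0⟩, ⟨3, 0, -2, -1, 1, 1, 1, 1⟩, ⟨0, -1, -2, -1, -3, 1, 2, -1⟩, ⟨2, -2, -2, -3, -1, 3, 1, 0⟩, ⟨2, 1, -2, 1, -1, 1, 3, -1⟩, ⟨4, 0, -2, 0, 1, 2, 2, 0⟩⟩, ⟨⟨1, -1, -1, -1, 0, 1, 1, 0⟩, ⟨-2, -1, 1, 0, -1, 0, 0, -1⟩, ⟨0, -2, 1, 1, 0, 1, 0, -2⟩, ⟨1, 3, 1, 2, 3, -2, -1, 2⟩, ⟨-1, 0, -1, -1, -2, 0, 0, 0⟩, ⟨-1, 1, 2, 2, 1, -1, -1, 0⟩, ⟨0, -1,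 1, 1, 0, 0, -1, -1⟩, ⟨1, 1, 2, 2, 3, -1, -2, 1⟩⟩, ⟨0, 0, 1, 1, 1, -1, 0, 0⟩,
 (d (a (b 150 139)<|a (b 213 210)<|a (b 160 132)<|a (b 1 10)<|c) (a (b 16 110)<|a (b 1 98)<|a (b 32 132)<|a (b 2 12)<|a (b 8 64)<|a (b 4 8)<|c) (b 4 3) 6 59 60 (a (b 8 242)<|a (b 10 881)<|a (b 11 1817)<|a (b 8 193)<|a (b 10 836)<|c) 325699563250943551)⟩<|
 e));
 (let e:type_of% e:=(a ⟨⟨⟨0, -2, 0, 0, -2, 2, 2, -3⟩, ⟨-1, 0, 1, 0, 0, 0, 0, 0⟩, ⟨-1, -2, -1, -2, -3, 2, 1, -1⟩, ⟨2, 1, -2, 0, 1, 0, 1, 1⟩, ⟨0, 2, 1, 1, 2, -2, -2, 2⟩, ⟨0, 2, -1, 0, 1, -1, 0, 2⟩, ⟨0, -1, -1, -2, -1, 1, -1, 1⟩, ⟨1, 0, -3, -2, -1, 1, 1, 1⟩⟩, ⟨⟨0, 2, -1, 0, 0, -2, 0, 2⟩, ⟨1, 1, -2, -2, 0, 0, 0, 3⟩, ⟨2, 1, -2, 0, 0, 0, 2, 1⟩, ⟨-3, -1, 3, 1, 0, -1, -2, -1⟩, ⟨1, -1, 0, 0, 0, 2, 1, -2⟩, ⟨-1, -1, 0, -1, -1, 1, 0, 0⟩, ⟨2, 0, 0, 2, 1, 1, 2, -2⟩, ⟨-1, -1, 2, 2, 0, 0, 0, -2⟩⟩, ⟨⟨1, -1, 0, 0, 1, 1, 0, -1⟩, ⟨-1, -1, 0, 0, -1, 1, 0, -2⟩,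 ⟨0, 0, -2, -2, -1, 1, 1, 0⟩, ⟨1, 0, -1, 0, -1, 0, 1, 0⟩, ⟨-1, 2, 1, 1, 1, -2, -1, 2⟩, ⟨-1, 0, -1, -1, -2, 0, 0, 0⟩, ⟨0, 1, -2, -2, -1, 0, 1, 2⟩, ⟨0, 0, -2, -2, -2, 0, 1, 1⟩⟩, ⟨⟨1, 2, 0, 1, 2, -2, -1, 2⟩, ⟨0, 0, 0, 0, 1, -1, -1, 1⟩, ⟨0, 2, 0, 0, 2, -2, -1, 2⟩, ⟨1, -3, 0, -2, -1, 3, 0, -1⟩, ⟨-2, 0, 0, 0, -2, 0, 1, -1⟩, ⟨0, -3, 0, -2, -1, 2, 0, -1⟩, ⟨-1, 1, -1, -1, -1, 0, 1, 0⟩, ⟨0, -2, 0, -2, -1, 2, 0, -1⟩⟩, ⟨-3, 0, 1, 0, -2, -1, 0, -1⟩,
 (d (a (b 4 59)<|a (b 150 102)<|a (b 56 32)<|a (b 110 103)<|c) (a (b 16 72)<|a (b 1 192)<|a (b 36 198)<|a (b 2 64)<|a (b 64 128)<|a (b 4 128)<|c) (b 4 7) 4 73 30 (a (b 10 865)<|a (b 12 1693)<|a (b 9 420)<|a (b 9 187)<|a (b 11 1728)<|c) 1639628439323285709)⟩<|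
 a ⟨⟨⟨-1, -1, 1, -2, 0, 0, -2, 1⟩, ⟨0, -3, 1, -1, -1, 2, 0, -2⟩, ⟨-1, -2, 2, 0, 0, 0, -2, -1⟩, ⟨1, 2, -1, 2, 0, 0, 2, -1⟩, ⟨0, 1, 0, 1, 1, -1, 0, 1⟩, ⟨2, -1, 0, 2, 0, 2, 2, -3⟩, ⟨-1, 1, 1, 2, 1, -2, -1, 0⟩, ⟨1, 2, 0, 3, 1, -1, 1, -1⟩⟩, ⟨⟨3, 0, -3, -1, 0, 2, 2, 0⟩, ⟨3, 0, -1, 1, 1, 1, 2, -1⟩, ⟨1, -1, -2, -2, -1, 1, 1, 0⟩, ⟨-2, 1, 1, 1, -1, -1, 0, -1⟩, ⟨-2, -1, 3, 0, 1, -1, -3, 1⟩, ⟨-1, 0, 2, 2, 0, -1, 0, -2⟩, ⟨-3, -1, 1, -2, -1, -1, -2, 1⟩, ⟨-3, 1, 1, 0, -1, -2, -1, 0⟩⟩, ⟨⟨2, 0, -2, -1, 0, 1, 1, 0⟩, ⟨2, 0, -1, 1, 1, 1, 1, -1⟩, ⟨2, -2, -3, -2, -2, 3, 2, -1⟩, ⟨0, 0, 2, 0, 2, -1, -2, 2⟩, ⟨-3, 0, 2, 1, -1, -1, -1, -1⟩, ⟨1, 0, 1, 1, 2, 0, -1, 1⟩, ⟨-1, -2, -1, -2, -3, 2, 1, -1⟩, ⟨1, -1, 0, -1, 0, 1, 0, 1⟩⟩, ⟨⟨1, 1, 2, 2, 3, -1, -2, 1⟩, ⟨2, 1, 0, 2, 1, 0, 1, 0⟩, ⟨1, 1, 0, 0, 1, -1, -1, 2⟩, ⟨-3, -1, 2, 0, -1, -1, -1, -1⟩, ⟨0, 0, -3, -2, -2, 1, 2, 0⟩, ⟨-1, -1, 0, 0, -2, 0, 1, -1⟩,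 ⟨0, 0, -2, -3, -1, 0, 0, 2⟩, ⟨-2, -1, 1, -1, -1, -1, -1, 0⟩⟩, ⟨2, 0, -2, 0, -1, 1, 2, 0⟩,
 (d (a (b 171 140)<|a (b 55 158)<|a (b 220 215)<|a (b 186 130)<|c) (a (b 16 162)<|a (b 1 36)<|a (b 32 64)<|a (b 2 64)<|a (b 72 140)<|c) (b 3 1) 3 9 217 (a (b 11 676)<|a (b 1 0)<|a (b 11 2025)<|a (b 9 43)<|a (b 10 629)<|c) 7987111359971833808)⟩<|
 a ⟨⟨⟨-1, 3, 0, 0, 1, -3, -1, 3⟩, ⟨-1, 1, 1, 0, 1, -2, -1, 1⟩, ⟨-3, 0, 1, -1, -1, -2, -2, 1⟩, ⟨1, -2, 1, 0, 0, 2, 0, -1⟩, ⟨1, -1, -1, 1, -1, 2, 2, -3⟩, ⟨0, -3, 1, -1, -1, 2, 0, -2⟩, ⟨-1, -2, 0, 0, -2, 1, 0, -2⟩, ⟨0, -3, 1, -1, -1, 2, -1, -1⟩⟩, ⟨⟨1, -1, 0, 0, 0, 0, 0, 0⟩, ⟨0, 1, -1, 0, -1, -1, 1, 0⟩, ⟨0, 0, -2, -1, -2, 0, 2, 0⟩, ⟨-2, -2, 1, -2, -1, 1, -2, 0⟩, ⟨0, 2, 1, 2, 2, -1, 0, 0⟩, ⟨-2, 0, -1, -2, -2, 0, 0, 0⟩, ⟨0, 0, -1, 0, -1, 1, 2, -1⟩, ⟨-1, -2, -1, -3, -2, 2, 0, 0⟩⟩, ⟨⟨0, 0, -1, -1, 0, 0, 0, 0⟩, ⟨1, 1, -2, 0, 0, 0, 2, 0⟩, ⟨2, 0, -1, 1,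 1, 1, 1, -1⟩, ⟨-1, 1, 2, 0, 2, -2, -3, 3⟩, ⟨0, -1, 1, 1, -1, 1, 1, -2⟩, ⟨1, 2, 0, 1, 2, -1, 0, 2⟩, ⟨1, -2, 1, 1, 0, 2, 0, -2⟩, ⟨1, 0, 1, 0, 2, 0, -2, 2⟩⟩, ⟨⟨3, -1, -2, -2, 0, 2, 1, 1⟩, ⟨1, 0, 0, -2, 2, 0, -2, 3⟩, ⟨0, -1, 0, -2, 0, 0, -1, 1⟩, ⟨-1, 1, -2, 0, -2, 0, 2, -1⟩, ⟨-2, 1, 3, 3, 1, -2, -1, -1⟩, ⟨-2, 1, 0, -1, 0, -1, -1, 1⟩, ⟨-3, 0, 2, 1, -1, -2, -1, -1⟩, ⟨-2, 1, -1, 0, -2, -1, 1, -1⟩⟩, ⟨0, 1, 2, 0, 3, -2, -3, 3⟩,
 (d (a (b 44 71)<|a (b 112 136)<|a (b 26 188)<|a (b 30 153)<|c) (a (b 16 194)<|a (b 1 206)<|a (b 32 64)<|a (b 2 136)<|a (b 72 132)<|a (b 4 8)<|c) (b 5 7) 4 74 148 (a (b 9 248)<|a (b 10 439)<|a (b 10 904)<|a (b 7 115)<|a (b 9 467)<|c) 7627227057152119006)⟩<|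
 a ⟨⟨⟨-2, -1, 1, 0, -2, 0, 0, -2⟩, ⟨-1, 1, 2, 1, 1, -1, -1, 0⟩, ⟨-1, -2, 2, 0, 0, 1, -1, -2⟩, ⟨-1, 0, 0, -1, 0, -1, -1, 2⟩, ⟨3, 1, -2, 1, 1, 1, 2, 0⟩, ⟨0, 1, 1, 0, 2, -1, -1, 2⟩, ⟨2, -2, 0, 0, 1, 2, 0, -1⟩, ⟨0, -2, 0, -2, 0, 1, -1, 1⟩⟩, ⟨⟨2, -1, -3, -2, -2, 2, 2, 0⟩, ⟨1, 1, -3, 0, -2, 1, 3, -1⟩, ⟨3, 0, -3, -1, 0, 2, 2, 0⟩, ⟨-1, 2, 3, 2, 3, -3, -3, 2⟩, ⟨-2, -1, 2, 0, 0, 0, -1, -1⟩, ⟨0, 3, 1, 3, 2, -2, 0, 0⟩, ⟨1, -1, 1, 0, 2, 1, -1, 0⟩, ⟨1, 2, 2, 2, 4, -2, -2, 2⟩⟩, ⟨⟨-3, 0, 1, -1, -1, -2, -2, 1⟩, ⟨-1, -1, -1, -3, -1, 0, -1, 2⟩, ⟨0, 0, 0, -1, 0, -1, -1, 2⟩, ⟨2, -2, -1, 0, -1, 3, 2, -3⟩, ⟨1, 1, 1, 2, 2, 0, 0, 0⟩, ⟨3, -2, -2, -2, 0, 3, 1, 0⟩, ⟨2, 1, 0, 2, 1, 0, 1, 0⟩, ⟨3, -1, -1, 1, 0, 2, 2, -2⟩⟩, ⟨⟨1, -1, -2, -2, -1, 1, 1, 0⟩, ⟨0, 0, -1, 0, -1, 0, 2, -1⟩, ⟨1, -2, -3, -2, -3, 3, 3, -2⟩, ⟨1, 0, 2, 1, 3, 0, -2, 1⟩, ⟨-2, 2, 1, 1, 0, -2, -1, 1⟩, ⟨0, 0, 1, 1, 1, 0, 0, 0⟩, ⟨0, -1, -1,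 -1, -2, 2, 1, -1⟩, ⟨2, -1, 0, 0, 1, 2, 0, 0⟩⟩, ⟨0, 0, 3, 2, 2, -1, -2, 0⟩,
 (d (a (b 189 9)<|a (b 14 13)<|a (b 88 222)<|a (b 243 228)<|c) (a (b 16 98)<|a (b 1 204)<|a (b 40 134)<|a (b 2 4)<|a (b 72 132)<|a (b 4 136)<|c) (b 1 0) 4 32 28 (a (b 10 930)<|a (b 11 1785)<|a (b 10 741)<|a (b 12 2566)<|a (b 12 3037)<|c) 2637298061044299887)⟩<|
 a ⟨⟨⟨-1, 0, 1, -1, 1, -1, -2, 1⟩, ⟨-1, 0, 2, 0, 2, -1, -2, 1⟩, ⟨0, 0, 1, -1, 1, 0, -1, 1⟩, ⟨-2, 0, 0, 0, -2, -1, 0, 0⟩, ⟨2, 0, -2, 1, -1, 2, 3, -2⟩, ⟨-2, 0, 2, 1, 0, -1, -1, 0⟩, ⟨2, 0, -2, -1, -1, 2, 2, 0⟩, ⟨-1, 1, 0, 0, -1, -1, 0, 1⟩⟩, ⟨⟨-2, 2, 2, 2, 1, -3, -1, 0⟩, ⟨0, 1, 1, 1, 1, -1, -1, 0⟩, ⟨-1, 0, 1, 1, 0, 0, 0, -2⟩, ⟨2, -1, -1, -1, 1, 1, 0, 1⟩, ⟨1, -1, -1, -1, -1, 2, 1, 0⟩, ⟨2, -2, 0, -1, 1, 2, -1, 0⟩, ⟨0, -1, -1, -1, -1, 2, 1, -1⟩, ⟨1, -2, -1, -2, 0, 2, 0, 0⟩⟩, ⟨⟨-1, -2, 1, -1, -1, 0, -1, 0⟩, ⟨1, -1, -2, -3, -1, 1, 0, 2⟩, ⟨0, -1, 1, -2,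 1, 0, -2, 2⟩, ⟨-1, 2, -1, 1, -1, -1, 2, -1⟩, ⟨1, 0, 0, 1, 1, 1, 0, -1⟩, ⟨1, 1, -3, -2, -1, 1, 2, 1⟩, ⟨0, 1, 2, 1, 3, -1, -2, 1⟩, ⟨0, 2, 0, 1, 1, -1, 1, 0⟩⟩, ⟨⟨1, 1, -2, -1, -1, 0, 1, 1⟩, ⟨2, 0, 0, 0, 1, 0, 0, 1⟩, ⟨3, 2, -2, 1, 1, 0, 2, 1⟩, ⟨-1, -3, 0, -1, -2, 2, 0, -2⟩, ⟨-2, 1, 3, 2, 2, -2, -2, 0⟩, ⟨1, -2, 1, 0, 1, 1, -1, 0⟩, ⟨0, 2, 0, 2, 1, -1, 1, 0⟩, ⟨0, -1, -1, 0, -1, 1, 1, -1⟩⟩, ⟨-2, 2, 1, 1, 1, -3, -2, 2⟩,
 (d (a (b 104 65)<|a (b 165 198)<|a (b 186 68)<|a (b 183 89)<|c) (a (b 16 202)<|a (b 1 6)<|a (b 40 130)<|a (b 2 140)<|a (b 72 140)<|a (b 4 8)<|c) (b 4 7) 3 249 132 (a (b 12 3787)<|a (b 11 1665)<|a (b 13 6282)<|a (b 10 192)<|a (b 10 824)<|c) 9383397192032637586)⟩<|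
 e);
 (a ⟨⟨⟨1, -1, 0, -1, 1, 1, -1, 0⟩, ⟨-1, -1, 2, 0, 1, -1, -2, 0⟩, ⟨-1, -1, 0, -1, 0, 0, -1, 0⟩, ⟨1, 1, 0, 3, 0, 0, 2, -2⟩, ⟨-1, 0, 0, -1, -1, 0, 0, 1⟩, ⟨-1, 1, 2, 3, 1, -2, 0, -1⟩, ⟨-1, 0, -1, -1, -1, 0, 0, 1⟩, ⟨1, 1, -1, 2, 0, 0, 2, -1⟩⟩, ⟨⟨0, -1, 0, -1, -1, 1, 0, -1⟩, ⟨-2, -2, 0, -2, -2, 1, -1, -1⟩, ⟨-1, -2, 2, 0, 0, 0, -2, -1⟩, ⟨-1, 1, 0, 1, -1, -1, 1, 0⟩, ⟨2, 1, -1, 0, 2, 0, 0, 2⟩, ⟨-2, -1, 0, 0, -2, 0, 0, -1⟩, ⟨1, 0, 1, 1, 2, -1, -1, 1⟩, ⟨-1, 1, 1, 2, 0, -2, 0, 0⟩⟩, ⟨⟨-1, -1, 1, 1, -1, 1, 0, -2⟩, ⟨-1, 0, 0, -1, -1, 0, -1, 1⟩, ⟨-1, -2, 0, -2, -2, 2, 0, -1⟩, ⟨1, 2, -1, 0, 2, -1, 0, 2⟩, ⟨0, 0, 0, 0, 0, -1, 0, 0⟩, ⟨0, 2, -2, -2, 0, -1, 0, 3⟩, ⟨1, -2, -1, -2, -1, 2, 1, -1⟩, ⟨1, 0, -2, -2, 0, 1, 1, 1⟩⟩, ⟨⟨-1, 0, 1, 2, 0, 0, 0, -2⟩, ⟨-2, 1, 1, 1, 0, -1, 0, -1⟩, ⟨-2, -1, -1, -1, -3, 1, 1, -2⟩, ⟨0, 0, 0, 0, 0, -1, 0, 1⟩, ⟨2, 1, -1, -1, 1, 0, 0, 2⟩, ⟨-1, 1, -1, -1, -1, -1,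 1, 1⟩, ⟨0, -1, -2, -3, -2, 1, 0, 1⟩, ⟨-1, -1, -1, -2, -2, 0, 0, 1⟩⟩, ⟨0, 0, 0, 0, 0, 0, 1, 0⟩,
 (d (a (b 85 223)<|a (b 51 221)<|a (b 93 119)<|a (b 252 217)<|c) (a (b 4 16)<|a (b 1 14)<|a (b 32 140)<|a (b 2 68)<|a (b 72 140)<|a (b 4 128)<|c) (b 4 7) 3 112 110 (a (b 13 4168)<|a (b 12 2769)<|a (b 11 1378)<|a (b 11 48)<|a (b 10 354)<|c) 12309099740744352360)⟩<|
 a ⟨⟨⟨-1, 0, -1, 1, -2, 0, 2, -2⟩, ⟨-1, 3, 0, 2, 1, -3, 0, 1⟩, ⟨-1, 2, -1, 1, -1, -1, 1, 0⟩, ⟨3, -1, 0, 0, 2, 2, 0, 0⟩, ⟨-1, -1, 1, -2, 0, 0, -2, 1⟩, ⟨2, 2, 0, 1, 3, -1, -1, 2⟩, ⟨0, 0, -1, -2, -1, 1, 0, 1⟩, ⟨3, 0, -1, 0, 1, 2, 1, 0⟩⟩, ⟨⟨2, -1, 1, 1, 1, 1, 0, -1⟩, ⟨0, -2, 0, 0, -2, 1, 1, -2⟩, ⟨2, -1, -1, 0, 0, 1, 1, -1⟩, ⟨-2, 2, 2, 1, 2, -3, -2, 2⟩, ⟨-1, 0, -2, -2, -2, 1, 1, 0⟩, ⟨-3, 0, 1, 0, -1, -2, -1, 0⟩, ⟨1, 0, -2, -1, 0, 1, 1, 0⟩, ⟨-1, 1, 1, 0, 2, -2, -2, 2⟩⟩, ⟨⟨1, 1, 1, 1, 3, -1, -1, 1⟩, ⟨2, 0, 0, 2, 1, 1, 2, -2⟩,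 ⟨1, 1, 1, 1, 2, 0, 0, 0⟩, ⟨-2, -2, -1, -3, -3, 1, 0, 0⟩, ⟨-1, 1, 0, 1, -1, -1, 0, 0⟩, ⟨0, -1, -2, -1, -3, 2, 3, -2⟩, ⟨-1, 1, 1, 0, 0, -1, -1, 1⟩, ⟨-1, -1, -1, -3, -2, 1, 0, 1⟩⟩, ⟨⟨0, -2, -1, -3, -1, 1, -1, 1⟩, ⟨0, -3, -2, -3, -3, 3, 1, -1⟩, ⟨0, -2, -1, -2, -2, 2, 0, -1⟩, ⟨1, 3, 0, 2, 2, -2, 0, 2⟩, ⟨-1, 1, 2, 2, 1, -1, 0, -1⟩, ⟨1, 1, -2, 0, -1, 1, 2, 0⟩, ⟨-1, 1, 2, 2, 1, -1, -1, -1⟩, ⟨0, 3, 0, 2, 1, -2, 0, 1⟩⟩, ⟨0, -1, 2, 0, 2, 0, -3, 1⟩,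
 (d (a (b 80 13)<|a (b 204 165)<|a (b 2 12)<|a (b 115 120)<|c) (a (b 18 239)<|a (b 1 162)<|a (b 4 32)<|a (b 64 128)<|a (b 4 128)<|c) (b 3 1) 3 132 4 (a (b 10 669)<|a (b 11 2045)<|a (b 0 0)<|a (b 12 4057)<|a (b 10 60)<|c) 2719792085373938565)⟩<|
 a ⟨⟨⟨-1, 0, 2, 3, 0, -1, 0, -2⟩, ⟨-1, -2, 2, 1, 0, 1, -1, -2⟩, ⟨-2, -1, 2, 1, 0, -1, -1, -1⟩, ⟨-1, 2, 0, -1, 1, -2, -2, 3⟩, ⟨3, 0, -3, -2, 0, 2, 2, 1⟩, ⟨-1, -1, 1, -2, 1, 0, -3, 2⟩, ⟨0, 0, -2, -2, -1, 0, 1, 1⟩, ⟨-2, 1, 0, -2, 0, -2, -2, 3⟩⟩, ⟨⟨-1, 0, 0, -1, 0, 0, -1, 0⟩, ⟨-1, 1, 2, 2, 2, -2, -2, 0⟩, ⟨0, 0, 2, 1, 2, 0, -2, 0⟩, ⟨2, 1, -3, 0, -1, 1, 3, 0⟩, ⟨0, -1, 1, 0, 0, 0, 0, 0⟩, ⟨2, 2, 0, 3, 2, -1, 1, 0⟩, ⟨1, -2, 1, 0, 0, 2, 0, -1⟩, ⟨3, 0, -2, 0, 0, 2, 2, 0⟩⟩, ⟨⟨1, 2, -1, -1, 2, -1, -1, 3⟩, ⟨0, 0, -1, -2, 0, 0, 0, 1⟩, ⟨0, 0, 1, 0, 2, -1, -2, 1⟩, ⟨-1, -2, 1, -1, -1, 1, -1, 0⟩, ⟨-1, 0, 0, 2, -2, 0, 2, -3⟩, ⟨-2, -3, 1, -2, -2, 1, -1,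 -1⟩, ⟨0, -1, 1, 2, 0, 0, 0, -2⟩, ⟨-1, -2, 2, 0, 0, 0, -2, 0⟩⟩, ⟨⟨-1, 1, 0, 0, 0, -2, 0, 1⟩, ⟨-1, 2, 1, 1, 2, -3, -2, 2⟩, ⟨1, 2, -2, 1, 0, -1, 2, 0⟩, ⟨2, 0, 1, 1, 2, 1, 0, 0⟩, ⟨-1, -2, 0, -1, -2, 2, 0, -2⟩, ⟨1, 2, 1, 2, 3, -1, -1, 1⟩, ⟨2, -1, -3, -1, -2, 3, 3, -2⟩, ⟨3, 0, -1, 1, 1, 2, 2, -1⟩⟩, ⟨0, 0, -1, 1, -2, 1, 2, -2⟩,
 (d (a (b 236 146)<|a (b 1 239)<|a (b 234 76)<|a (b 134 172)<|c) (a (b 16 130)<|a (b 1 138)<|a (b 32 140)<|a (b 2 200)<|a (b 4 128)<|c) (b 4 1) 4 234 120 (a (b 7 89)<|a (b 9 242)<|a (b 10 460)<|a (b 12 1732)<|a (b 8 69)<|c) 7531009797546387957)⟩<|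
 a ⟨⟨⟨0, 0, 0, 1, -1, 1, 1, -2⟩, ⟨1, -1, 1, 2, 0, 1, 1, -3⟩, ⟨1, 1, -1, 1, 0, 0, 1, -1⟩, ⟨-2, 0, 0, 0, -1, -1, 0, 0⟩, ⟨1, 1, 0, -1, 2, -1, -1, 3⟩, ⟨0, 0, 1, 2, 1, -1, 0, -1⟩, ⟨0, 2, -1, -1, 1, -2, -1, 3⟩, ⟨-2, 1, 0, 0, 0, -2, -1, 1⟩⟩, ⟨⟨1, 2, -2, 0, 0, 0, 2, 0⟩, ⟨0, 2, 0, 2, 0, -1, 1, -1⟩, ⟨1, 2, -1, 1, 0, 0, 2, 0⟩, ⟨-2, 0, 3, 1, 2, -2, -3, 1⟩, ⟨1, -3, 0, -1, -1, 2, 0, -1⟩, ⟨-1, 1, 3, 3, 2, -2, -2, 0⟩, ⟨1, -1, 0, -1, 0, 1, 0, 1⟩, ⟨-1, 1, 2, 1, 2, -2, -2, 2⟩⟩, ⟨⟨-1, -1, 0, 0, -2, 0, 0, -1⟩, ⟨0, -1, 0, -1, -1, 0, 0, 0⟩, ⟨-2, -1, 3, 1, 0, -1, -2, -1⟩, ⟨2, 1, 0, 2, 2, 0, 1, 0⟩, ⟨0, 0, -1, -2, 0, 1, 0, 1⟩, ⟨1, 1, 1, 1, 2, -1, 0, 1⟩, ⟨-1, 0, 2, 1, 1, 0, -1, -1⟩, ⟨0, 1, 2, 3, 2, -1, 0, -1⟩⟩, ⟨⟨1, -3, 0, 0, -1, 3, 1, -3⟩, ⟨-1, -2, 0, 0, -2, 1, 1, -2⟩, ⟨-1, -3, 2, 0, -1, 1, -1, -2⟩, ⟨0, 2, 0, 0, 2, -2, -1, 2⟩, ⟨0, 3, 0, 1, 1, -2, 0, 2⟩, ⟨-1, 1, 0, 0, 0, -2, 0, 1⟩, ⟨-1, 1, 2, 1, 1,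 -2, -2, 1⟩, ⟨0, 1, 1, 0, 2, -2, -2, 2⟩⟩, ⟨0, 2, -1, 0, 0, -1, 0, 2⟩,
 (d (a (b 22 45)<|a (b 48 47)<|a (b 104 56)<|a (b 87 239)<|c) (a (b 16 226)<|a (b 1 10)<|a (b 32 128)<|a (b 2 64)<|a (b 72 132)<|a (b 4 8)<|c) (b 6 1) 4 129 65 (a (b 9 403)<|a (b 12 1472)<|a (b 9 67)<|a (b 10 826)<|a (b 11 1724)<|c) 9777231119245115652)⟩<|
 a ⟨⟨⟨2, 0, 0, 1, 2, 1, 0, 0⟩, ⟨3, 0, -1, -1, 2, 1, 0, 2⟩, ⟨1, 2, -1, 0, 2, -1, 0, 2⟩, ⟨-1, 0, 1, 2, -1, -1, 1, -2⟩, ⟨-2, -1, 0, -2, -2, 0, -1, 0⟩, ⟨1, 1, -1, 0, 0, -1, 1, 1⟩, ⟨-3, 1, 0, -1, -1, -2, -1, 1⟩, ⟨-2, 2, 1, 2, 0, -3, 0, 0⟩⟩, ⟨⟨-1, 1, 1, 1, 1, -1, -1, 1⟩, ⟨-1, 1, 0, 2, -1, -1, 1, -1⟩, ⟨0, 0, -1, 1, -1, 1, 2, -2⟩, ⟨1, 1, -2, -2, 0, 0, 0, 2⟩, ⟨0, -1, 1, 0, 0, 0, 0, -1⟩, ⟨0, 1, -2, 0, -2, 0, 2, -1⟩, ⟨2, -1, -1, 0, 0, 2, 2, -2⟩, ⟨2, 0, -3, -2, -1, 2, 2, 0⟩⟩, ⟨⟨1, -1, -2, -2, -2, 2, 2, -1⟩, ⟨0, -1, -1, -1, -2, 1, 2, -1⟩, ⟨2, -2, -2, -2, -1, 3, 2,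 -1⟩, ⟨0, 0, 0, 0, 0, 0, -1, 1⟩, ⟨-2, 2, 2, 2, 2, -3, -2, 1⟩, ⟨0, 0, 0, 0, 0, 0, 0, 1⟩, ⟨1, 0, 0, 0, 2, 0, -1, 1⟩, ⟨2, 0, -1, 0, 1, 1, 0, 1⟩⟩, ⟨⟨-1, 2, -1, 1, -1, -1, 1, 0⟩, ⟨1, 1, 0, 1, 1, 0, 0, 1⟩, ⟨0, 2, 0, 0, 1, -1, -1, 2⟩, ⟨2, -1, -1, 0, 0, 2, 2, -2⟩, ⟨-1, -2, 1, -2, 0, 0, -2, 1⟩, ⟨3, -1, 0, 0, 2, 2, 0, 0⟩, ⟨-1, -1, 1, -2, 0, 0, -2, 1⟩, ⟨2, -1, -1, -1, 0, 2, 1, -1⟩⟩, ⟨-1, 1, -1, 0, -1, 0, 1, -1⟩,
 (d (a (b 103 124)<|a (b 219 47)<|a (b 246 196)<|a (b 245 38)<|c) (a (b 16 108)<|a (b 1 232)<|a (b 32 196)<|a (b 2 136)<|a (b 204 68)<|a (b 4 128)<|c) (b 2 1) 6 74 132 (a (b 9 7)<|a (b 11 1465)<|a (b 11 1934)<|a (b 11 1372)<|a (b 10 209)<|c) 17296911895783626239)⟩<|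
 e)));
 (let e:type_of% e:=(let e:type_of% e:=(a ⟨⟨⟨0, -3, 0, -2, -1, 2, -1, 0⟩, ⟨2, -2, -1, -1, -1, 3, 1, -1⟩, ⟨0, -3, 2, 0, 0, 2, -1, -2⟩, ⟨0, 3, 0, 2, 2, -2, 0, 1⟩, ⟨-1, 2, 0, 0, 0, -2, 0, 1⟩, ⟨2, 2, 0, 2, 2, 0, 1, 0⟩, ⟨-1, 0, 2, 1, 1, -1, -1, -1⟩, ⟨0, 2, 2, 3, 3, -2, -1, 0⟩⟩, ⟨⟨1, -1, -2, -3, -1, 2, 1, 1⟩, ⟨0, 0, 1, -1, 1, 0, -1, 1⟩, ⟨1, 0, -1, -2, 0, 0, 0, 2⟩, ⟨-2, 1, 1, 2, 0, -2, 0, -1⟩, ⟨0, 1, 1, 2, 1, -1, -1, 0⟩, ⟨-2, 2, 2, 2, 1, -3, -1, 0⟩, ⟨0, 0, 0, 0, 0, -1, -1, 1⟩, ⟨-1, 1, 0, 1, 0, -2, 0, 0⟩⟩, ⟨⟨-2, 1, 1, 0, 0, -1, -1, 0⟩, ⟨-1, -1, 1, 0, 0, 1, -1, -1⟩, ⟨1, -1, -1, -2, 0, 2, 0, 0⟩, ⟨0, -1, 1, 0, 0, 0, 0, 0⟩, ⟨2, 1, -2, 1, 0, 0, 2, 0⟩, ⟨1, -2, 0, -1, 0, 2, 0, 0⟩, ⟨3, 0, -2, -1, 1, 1, 1, 1⟩, ⟨2, -1, 0, -1, 1, 1, 0, 1⟩⟩, ⟨⟨2, 0, 0, 0, 1, 1, 0, 0⟩, ⟨1, 3, -1, 1, 1, -1, 1, 1⟩, ⟨1, 1, 1, 3, 1, 0, 1, -2⟩, ⟨-3, -1, 2, -1, 0, -1, -3, 1⟩, ⟨0, -1, -2, -1, -2, 1, 2, -1⟩, ⟨-2,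 2, 1, 1, 1, -2, -1, 1⟩, ⟨-1, -1, 1, 2, -1, 0, 1, -3⟩, ⟨-3, -1, 3, 1, 0, -1, -2, -1⟩⟩, ⟨3, 1, 0, 2, 2, 0, 1, 0⟩,
 (d (a (b 16 208)<|a (b 217 86)<|a (b 243 249)<|a (b 144 164)<|c) (a (b 18 35)<|a (b 1 138)<|a (b 36 202)<|a (b 2 200)<|a (b 192 76)<|a (b 4 128)<|c) (b 3 3) 6 64 131 (a (b 11 720)<|a (b 8 252)<|a (b 10 832)<|a (b 10 582)<|a (b 9 265)<|c) 6914593524071409975)⟩<|
 a ⟨⟨⟨2, -1, 1, 2, 1, 1, 1, -2⟩, ⟨3, -1, 0, 0, 2, 2, 0, 0⟩, ⟨3, 0, -1, 1, 1, 1, 1, 0⟩, ⟨-2, -1, 0, -2, -2, 0, -1, 0⟩, ⟨-2, 1, -1, -1, -1, -1, 0, 1⟩, ⟨1, -1, -2, -3, -1, 2, 0, 1⟩, ⟨-1, 1, -1, 0, -1, -1, 0, 1⟩, ⟨-1, 0, -1, -1, -2, 0, 0, 0⟩⟩, ⟨⟨2, 1, -1, -1, 2, 0, 0, 2⟩, ⟨0, 2, -1, -1, 1, -2, -1, 3⟩, ⟨2, 2, -2, 0, 1, 0, 1, 1⟩, ⟨-2, -3, 0, -2, -3, 2, 0, -2⟩, ⟨-1, 0, 2, 3, 0, -1, 0, -2⟩, ⟨-3, 0, 0, -1, -2, -1, -1, 0⟩, ⟨1, 0, 0, 2, 0, 1, 1, -2⟩, ⟨-1, -2, 0, -1, -2, 2, 0, -2⟩⟩, ⟨⟨-1, -1, 2, -1, 1, 0, -3, 1⟩, ⟨1,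 -1, 1, 1, 1, 1, -1, -1⟩, ⟨-1, -3, 0, -2, -2, 2, -1, -1⟩, ⟨2, 1, -2, -1, 1, 0, 1, 2⟩, ⟨-1, 1, 0, 2, -1, -1, 2, -2⟩, ⟨3, -1, -2, 0, 0, 2, 2, -1⟩, ⟨-2, -1, -1, -1, -3, 0, 1, -1⟩, ⟨1, -1, -2, -2, -1, 1, 1, 1⟩⟩, ⟨⟨1, -2, -1, -2, -1, 3, 1, -1⟩, ⟨-1, 0, 1, -1, 1, 0, -2, 1⟩, ⟨1, -1, 0, -2, 1, 1, -1, 1⟩, ⟨1, 0, 0, 1, 0, 0, 0, 0⟩, ⟨-2, 2, 1, 2, 0, -3, 0, 0⟩, ⟨0, 2, 1, 1, 2, -2, -2, 2⟩, ⟨0, 0, 0, 0, 0, -1, 0, 0⟩, ⟨2, 0, 0, 1, 1, 0, 0, 0⟩⟩, ⟨1, -2, -1, 0, -2, 2, 2, -2⟩,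
 (d (a (b 126 135)<|a (b 234 98)<|a (b 185 106)<|a (b 179 159)<|c) (a (b 16 228)<|a (b 1 36)<|a (b 36 78)<|a (b 2 8)<|a (b 192 76)<|a (b 4 8)<|c) (b 2 1) 4 13 176 (a (b 6 39)<|a (b 11 1520)<|a (b 11 1556)<|a (b 9 387)<|a (b 8 163)<|c) 8664961940922890768)⟩<|
 a ⟨⟨⟨0, -2, 0, 0, -1, 1, 0, -1⟩, ⟨0, -2, 0, -2, 0, 1, -1, 1⟩, ⟨0, -2, 2, 0, 1, 1, -2, 0⟩, ⟨0, 4, 0, 2, 2, -3, 0, 2⟩, ⟨0, 0, -1, -1, -1, 1, 1, -1⟩, ⟨0, 2, 1, 0, 3, -2, -2, 3⟩, ⟨1, 0, 1, 1, 1, 1, 0, -1⟩, ⟨1, 3, 1, 2, 3, -2, -1, 2⟩⟩, ⟨⟨1, -2, 1, 1, 0, 2, 1, -3⟩, ⟨0, 0, 2, 2, 2, 0, -1, -1⟩, ⟨2, 0, -1, 1, 0, 2, 2, -2⟩, ⟨-2, 0, 0, 0, -2, -1, 0, 0⟩, ⟨0, 2, -1, -1, 1, -2, -1, 3⟩, ⟨-1, 2, 1, 2, 1, -2, -1, 1⟩, ⟨1, 2, -3, -1, -1, 0, 2, 1⟩, ⟨0, 1, -2, 0, -2, 0, 2, 0⟩⟩, ⟨⟨-1, 2, -1, 1, -1, -1, 2, -1⟩, ⟨1, 2, -1, 2, 0, 0, 2, -1⟩, ⟨0, 3, -1, 1, 0, -2, 1, 1⟩, ⟨1, -2, 0, 0, 0, 1, 0, -1⟩, ⟨0, -1, 2, -1, 2, 0, -3, 2⟩, ⟨3, 0, -1, 1, 1,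 1, 1, 0⟩, ⟨0, 0, 1, -1, 1, -1, -2, 2⟩, ⟨1, -1, 0, 0, 0, 0, 0, 0⟩⟩, ⟨⟨0, 1, 1, 2, 1, -1, -1, 0⟩, ⟨0, 1, 0, 0, 1, 0, -1, 1⟩, ⟨-3, 1, 2, 1, 0, -2, -2, 0⟩, ⟨0, 0, -1, -1, -1, 0, 1, 1⟩, ⟨1, -2, -1, -2, -1, 2, 1, -1⟩, ⟨-1, 0, 0, -2, 0, 0, -1, 2⟩, ⟨-2, 0, 1, 0, -1, -1, 0, -1⟩, ⟨-2, 0, 1, 0, -1, -1, 0, 0⟩⟩, ⟨1, 1, 0, 0, 2, 0, -1, 2⟩,
 (d (a (b 190 3)<|a (b 131 235)<|a (b 33 114)<|a (b 135 49)<|c) (a (b 18 101)<|a (b 1 160)<|a (b 36 194)<|a (b 2 4)<|a (b 192 76)<|a (b 4 128)<|c) (b 6 23) 2 72 180 (a (b 8 41)<|a (b 7 77)<|a (b 11 523)<|a (b 5 21)<|a (b 11 1914)<|c) 13970202247726389824)⟩<|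
 a ⟨⟨⟨-2, 3, 1, 2, 1, -3, -1, 1⟩, ⟨1, 3, -1, 2, 1, -2, 1, 1⟩, ⟨1, 3, -2, 0, 1, -1, 1, 2⟩, ⟨0, -2, 1, -1, 0, 1, -1, -1⟩, ⟨1, -3, -1, -2, -2, 3, 1, -1⟩, ⟨3, 0, -1, 0, 1, 1, 1, 0⟩, ⟨1, -1, -2, -3, -1, 2, 1, 1⟩, ⟨1, -1, 0, -2, 1, 1, -1, 1⟩⟩, ⟨⟨-1, 2, 1, 0, 1, -2, -1, 2⟩, ⟨-1, 0, -1, -3, -1, 0, -1, 2⟩, ⟨-1, -1, 0, -2, -1, 1, 0, 0⟩, ⟨-2, 0, 1, 2, -1, -1, 0, -2⟩, ⟨3, -1, -2, 0, 0, 2, 2, -1⟩, ⟨-2, -2, -1, -2, -3, 1, 0, -1⟩, ⟨1, -2, 0, 0, 0, 2, 1, -2⟩, ⟨-2, -1, 1, 1, -1, 0, 0, -2⟩⟩, ⟨⟨0, 0, 0, 0, 0, 1, 0, -1⟩, ⟨1, 0, -1, 0, -1, 1, 1, -1⟩, ⟨-2, -1, 1, -1, -1, 0, -2, 0⟩, ⟨0, 1, -1, 1, 0, -1, 1, 0⟩, ⟨0, -1, 1, 0, 0, 0, 0, 0⟩, ⟨0, 1, -1, 1, -1, -1, 1, 0⟩, ⟨-2, -2, 1, -2, -1, 0, -2, 1⟩, ⟨-1, 0, 0, 0, 0, -1, -1, 1⟩⟩, ⟨⟨1, -1, -2, -1, -1, 1, 1, 0⟩, ⟨1, -1, 0, 1, 0, 1, 1, -1⟩, ⟨-1, 0, -1, -1, -1, 0, 0, 1⟩, ⟨0, 1, -1, 0, -1, 0, 2, -1⟩, ⟨0, 1, 2, 1, 2, -1, -2, 1⟩, ⟨0, 0, 0, 1, -1, 1, 2, -2⟩,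 ⟨-2, 2, 1, 0, 1, -2, -2, 2⟩, ⟨-1, 1, -1, -1, -1, 0, 1, 0⟩⟩, ⟨0, 2, -2, 0, 0, -1, 1, 1⟩,
 (d (a (b 95 180)<|a (b 161 61)<|a (b 45 192)<|a (b 134 96)<|c) (a (b 16 106)<|a (b 1 170)<|a (b 40 130)<|a (b 2 8)<|a (b 64 136)<|a (b 4 136)<|c) (b 6 1) 6 105 102 (a (b 10 447)<|a (b 11 1805)<|a (b 11 1331)<|a (b 10 681)<|a (b 10 144)<|c) 9386325238037070529)⟩<|
 a ⟨⟨⟨0, 0, 0, 0, 0, -1, 0, 0⟩, ⟨0, 0, 2, 2, 2, -1, -1, -1⟩, ⟨-2, 0, 3, 1, 1, -2, -2, 0⟩, ⟨1, 0, -2, 0, -2, 2, 3, -2⟩, ⟨0, -1, 0, -1, 0, 1, -1, 1⟩, ⟨1, 0, 1, 2, 1, 1, 1, -2⟩, ⟨-2, 0, 2, 0, 0, -1, -2, 1⟩, ⟨0, 0, 0, 0, -1, 1, 1, -1⟩⟩, ⟨⟨1, -2, 0, 0, 0, 2, 0, -2⟩, ⟨1, -1, 1, -1, 2, 1, -2, 1⟩, ⟨1, -2, -1, -2, 0, 2, 0, 0⟩, ⟨1, 1, 0, 2, 0, 0, 2, -1⟩, ⟨-2, 1, 0, -1, -1, -2, -1, 2⟩, ⟨2, 1, 0, 0, 2, 0, 0, 2⟩, ⟨-1, 0, -2, -2, -2, 0, 1, 1⟩, ⟨1, 1, -1, 1, 0, 0, 2, 0⟩⟩, ⟨⟨1, 0, -1, -1, 1, 0, 0, 1⟩, ⟨0, 0, 0, 1, 0, 0, 1, -2⟩, ⟨0, -1, 1, 1,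 1, 0, -1, -1⟩, ⟨-1, 1, -1, -1, -1, 0, 0, 1⟩, ⟨-1, 0, 2, 1, 0, -1, -1, 0⟩, ⟨-2, 0, 1, 1, -1, 0, 0, -2⟩, ⟨0, -1, 2, 1, 1, 0, -2, 0⟩, ⟨-1, -1, 0, -1, -1, 1, -1, 0⟩⟩, ⟨⟨-1, 1, 0, 1, -1, 0, 1, -1⟩, ⟨0, 0, 1, 2, 0, 0, 0, -1⟩, ⟨1, 2, 1, 2, 2, -1, 0, 1⟩, ⟨1, -1, 0, 0, 1, 1, 0, -1⟩, ⟨0, -1, -1, -2, -1, 0, 0, 1⟩, ⟨1, -1, 2, 2, 2, 0, -1, -1⟩, ⟨1, 1, 0, -1, 2, -1, -1, 3⟩, ⟨1, 1, 1, 1, 3, -1, -1, 1⟩⟩, ⟨0, 2, 1, 2, 1, -2, 0, 1⟩,
 (d (a (b 186 234)<|a (b 48 95)<|a (b 185 42)<|a (b 4 136)<|c) (a (b 16 202)<|a (b 1 134)<|a (b 40 134)<|a (b 72 140)<|c) (b 5 5) 4 115 117 (a (b 11 1342)<|a (b 8 207)<|a (b 10 449)<|a (b 10 509)<|a (b 11 1688)<|c) 13007762571504984152)⟩<|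
 e);
 (a ⟨⟨⟨-2, 1, 2, 1, 1, -2, -2, 0⟩, ⟨-1, 0, 0, -2, 0, -1, -2, 2⟩, ⟨0, 1, 1, 0, 1, -1, -1, 1⟩, ⟨-1, -1, 1, 1, -1, 0, 0, -1⟩, ⟨3, -1, -3, -1, -1, 3, 3, -1⟩, ⟨0, -2, 0, -2, -1, 1, -1, 1⟩, ⟨3, 1, -1, 1, 1, 1, 2, 0⟩, ⟨0, 0, 1, 1, 0, 0, 0, 0⟩⟩, ⟨⟨-1, -1, 1, 2, -1, 0, 1, -3⟩, ⟨-1, -2, 0, -1, -2, 1, 1, -2⟩, ⟨0, -1, -2, -1, -2, 1, 2, -1⟩, ⟨2, 1, -1, 0, 1, 0, 0, 1⟩, ⟨0, 1, 0, -1, 1, 0, -1, 2⟩, ⟨2, 0, -2, -2, 0, 1, 1, 1⟩, ⟨1, 0, -2, -2, 0, 1, 0, 2⟩, ⟨2, 1, -2, -1, 1, 0, 0, 2⟩⟩, ⟨⟨-2, -1, 0, -2, -2, 0, -1, 0⟩, ⟨-1, 0, 1, -1, 0, -1, -1, 1⟩, ⟨-2, 2, 0, -1, 0, -2, -1, 2⟩, ⟨1, 1, 0, 3, 0, 0, 2, -2⟩, ⟨1, -1, 0, 0, 1, 1, 0, 0⟩, ⟨0, 2, 2, 3, 2, -2, 0, 0⟩, ⟨0, 2, -1, 0, 1, -1, 0, 2⟩, ⟨0, 3, 0, 3, 1, -2, 1, 0⟩⟩, ⟨⟨1, 0, 1, 3, 1, 0, 1, -2⟩, ⟨-1, 1, 2, 3, 1, -2, -1, -1⟩, ⟨0, 0, -1, 1, -1, 0, 1, -1⟩, ⟨2, 2, -2, -1, 1, 0, 1, 2⟩, ⟨-2, -2, 0, -3, -2, 1, -1, 0⟩, ⟨0, 2, -1, 0, 0, -1, 0, 1⟩, ⟨-1,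 -1, -2, -3, -2, 1, 0, 1⟩, ⟨2, 1, -3, -2, 0, 1, 1, 2⟩⟩, ⟨-1, -1, 3, 1, 2, -1, -3, 0⟩,
 (d (a (b 56 226)<|a (b 51 17)<|a (b 160 244)<|a (b 179 196)<|c) (a (b 16 76)<|a (b 1 104)<|a (b 32 132)<|a (b 2 132)<|a (b 64 136)<|c) (b 1 0) 6 234 37 (a (b 12 3845)<|a (b 9 400)<|a (b 11 1550)<|a (b 10 902)<|a (b 11 1835)<|c) 7393056770562448293)⟩<|
 a ⟨⟨⟨1, 1, -2, -2, 0, 0, 0, 2⟩, ⟨0, -1, -1, -1, -1, 1, 0, -1⟩, ⟨2, -1, -1, -1, 0, 2, 0, 0⟩, ⟨1, 0, -1, 1, -1, 1, 3, -2⟩, ⟨-2, 0, 3, 2, 1, -2, -2, 0⟩, ⟨0, -2, 0, 1, -2, 2, 2, -4⟩, ⟨1, 0, 2, 2, 2, 0, -1, 0⟩, ⟨2, -1, 0, 1, 0, 2, 2, -2⟩⟩, ⟨⟨-2, -1, 1, -1, 0, 0, -2, 0⟩, ⟨1, 1, 0, 0, 2, 0, -1, 1⟩, ⟨-1, 1, 0, 0, 0, 0, 0, 0⟩, ⟨0, 1, -1, 1, -1, -1, 1, 0⟩, ⟨1, 0, 0, 0, 0, 0, 1, 0⟩, ⟨2, 2, -2, 1, 0, 0, 2, 0⟩, ⟨0, 1, -1, 0, -1, 0, 2, 0⟩, ⟨0, 1, -2, 0, -2, 0, 2, 0⟩⟩, ⟨⟨1, 1, -2, 0, -1, 1, 3, -1⟩, ⟨-1, 3, -1, 1, 0, -2, 1, 1⟩, ⟨0, 1, -2, 1, -2, 0, 3, -2⟩,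 ⟨1, -1, 0, -1, 0, 1, -1, 1⟩, ⟨-1, -1, 3, 1, 2, -1, -3, 0⟩, ⟨0, 2, 0, 1, 1, -2, -1, 2⟩, ⟨0, -2, 0, 0, -1, 1, 0, -2⟩, ⟨1, -1, -1, -1, -1, 1, 0, 0⟩⟩, ⟨⟨0, -1, 2, 0, 1, 0, -2, 1⟩, ⟨0, -1, 2, 0, 2, 0, -3, 1⟩, ⟨-1, -1, 3, 0, 2, -1, -3, 1⟩, ⟨3, 1, -3, 0, 0, 1, 3, 0⟩, ⟨-2, 1, -1, 0, -2, -1, 1, -1⟩, ⟨2, 1, -1, 0, 2, 0, 0, 1⟩, ⟨-2, 0, 0, -1, -1, -1, 0, 0⟩, ⟨2, 0, -2, -1, 0, 1, 2, 0⟩⟩, ⟨1, 1, -1, 0, 0, 0, 0, 1⟩,
 (d (a (b 66 188)<|a (b 93 171)<|a (b 118 81)<|a (b 135 174)<|c) (a (b 24 139)<|a (b 1 100)<|a (b 36 74)<|a (b 2 8)<|a (b 72 140)<|a (b 4 128)<|c) (b 5 7) 6 104 213 (a (b 14 13123)<|a (b 12 3684)<|a (b 13 7828)<|a (b 11 1745)<|a (b 14 15833)<|c) 9458579216561078530)⟩<|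
 a ⟨⟨⟨0, 0, 0, 1, -1, 1, 2, -2⟩, ⟨1, 1, 1, 2, 2, 0, 0, 0⟩, ⟨-1, -1, 3, 2, 1, 0, -1, -2⟩, ⟨-2, 0, 0, -2, -1, -1, -2, 2⟩, ⟨1, 1, -1, 0, 1, -1, 0, 1⟩, ⟨-1, 1, 2, 1, 2, -2, -3, 2⟩, ⟨-1, -1, 2, 0, 1, -1, -2, 0⟩, ⟨-2, -1, 2, -1, 0, -1, -3, 1⟩⟩, ⟨⟨1, 0, -2, -2, 0, 0, 0, 2⟩, ⟨2, 1, -3, -2, 0, 1, 1, 2⟩, ⟨0, -1, -1, -3, 0, 1, -1, 2⟩, ⟨0, 0, 3, 2, 2, -1, -2, 0⟩, ⟨-2, 1, 1, 2, -1, -1, 1, -2⟩, ⟨1, 1, 1, 1, 2, 0, -1, 1⟩, ⟨-2, -1, 2, 0, 0, 0, -1, -1⟩, ⟨0, -1, 3, 1, 2, 0, -2, 0⟩⟩, ⟨⟨2, 0, 0, 0, 2, 1, -1, 1⟩, ⟨2, -3, 0, -1, 0, 3, 0, -1⟩, ⟨2, 0, -1, -1, 1, 1, 0, 2⟩, ⟨0, 1, -1, 0, 0, -1, 1, 0⟩, ⟨-3, 0, 1, 0, -2, -1, 0, -1⟩, ⟨1, -2, -2, -2, -2, 2, 2, -1⟩, ⟨-1, 2, 0, 0, 0, -2, 0, 2⟩, ⟨1, 2, -2, 0, 0, -1, 2, 1⟩⟩, ⟨⟨0, 0, 1, 2, 1, 0, 0, -1⟩, ⟨0, -1, 2, 1, 1, 0, -1, 0⟩, ⟨0, -1, -1, -1, -1, 1, 1, 0⟩, ⟨-2, 0, 0, 0, -2, -1, 0, -1⟩, ⟨1, 0, -1, -2, 0, 1, 0, 1⟩, ⟨-1, -1, 0, -1, -2, 0, 0, 0⟩, ⟨1, -1, -3,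 -3, -2, 2, 2, 0⟩, ⟨-1, 0, -2, -1, -3, 0, 2, -1⟩⟩, ⟨-1, 2, 0, 2, 0, -2, 0, 0⟩,
 (d (a (b 245 97)<|a (b 175 121)<|a (b 32 196)<|a (b 153 43)<|c) (a (b 24 141)<|a (b 1 172)<|a (b 32 64)<|a (b 2 196)<|a (b 4 128)<|c) (b 3 3) 3 174 110 (a (b 11 1054)<|a (b 9 410)<|a (b 12 4031)<|a (b 8 245)<|a (b 12 482)<|c) 9250710930311120385)⟩<|
 a ⟨⟨⟨0, 0, 0, 0, 0, 1, 0, 0⟩, ⟨0, -2, 0, 0, -1, 2, 0, -2⟩, ⟨2, 0, -2, 0, 0, 2, 2, -1⟩, ⟨-2, 2, 0, 0, 0, -3, -1, 2⟩, ⟨0, -1, 1, 0, 0, 0, 0, -1⟩, ⟨-1, 0, 0, 0, 0, -1, -1, 0⟩, ⟨2, 0, -2, -1, 0, 1, 2, 0⟩, ⟨0, 2, -1, 0, 1, -2, 0, 2⟩⟩, ⟨⟨0, 1, 2, 2, 2, -2, -1, 1⟩, ⟨1, 1, 0, 1, 1, -1, 1, 0⟩, ⟨2, 0, 0, 2, 1, 0, 1, -1⟩, ⟨1, 1, -2, -1, 0, 1, 1, 1⟩, ⟨-2, -2, 0, -2, -2, 1, -1, -1⟩, ⟨2, 0, -3, -1, -1, 2, 3, -1⟩, ⟨1, -2, -1, -1, -1, 2, 0, -1⟩, ⟨2, 0, -3, -1, -1, 2, 2, 0⟩⟩, ⟨⟨-2, 2, 0, 1, 0, -2, 0, 0⟩, ⟨1, 0, -1, 1, 0, 1, 2, -2⟩, ⟨1, 2, -1, 1, 1, -1, 1, 0⟩, ⟨1, 0,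 1, 0, 2, 0, -2, 2⟩, ⟨0, -3, 0, -2, -2, 2, 0, -1⟩, ⟨3, -1, 0, 0, 2, 2, 0, 0⟩, ⟨1, 0, 0, 0, 0, 0, 0, 0⟩, ⟨2, 1, 0, 0, 2, 0, -1, 2⟩⟩, ⟨⟨-1, 3, 2, 3, 2, -3, -1, 1⟩, ⟨-1, 2, 1, 1, 1, -2, 0, 1⟩, ⟨-1, 2, 1, 1, 1, -3, -1, 2⟩, ⟨2, -2, 0, 0, 1, 2, 0, -1⟩, ⟨1, -2, -3, -3, -3, 3, 2, -1⟩, ⟨1, -1, -1, -1, 0, 1, 1, 0⟩, ⟨0, -2, -1, -2, -2, 1, 0, 0⟩, ⟨1, -2, 0, 0, 0, 1, 0, -1⟩⟩, ⟨2, 0, 0, 1, 1, 1, 0, 0⟩,
 (d (a (b 82 71)<|a (b 88 166)<|a (b 164 58)<|a (b 207 95)<|c) (a (b 16 234)<|a (b 1 70)<|a (b 32 68)<|a (b 2 132)<|a (b 72 140)<|a (b 4 128)<|c) (b 3 1) 6 10 80 (a (b 8 202)<|a (b 10 834)<|a (b 14 4124)<|a (b 13 6154)<|a (b 11 1756)<|c) 1123939957377974676)⟩<|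
 a ⟨⟨⟨-3, 2, 2, 1, 1, -3, -2, 1⟩, ⟨-1, 2, 0, 1, 1, -2, -1, 1⟩, ⟨-1, 3, 1, 1, 2, -3, -2, 3⟩, ⟨2, 0, -2, 0, -1, 1, 3, -1⟩, ⟨2, -3, 0, -1, 0, 3, 0, -1⟩, ⟨2, 1, -2, 1, 0, 0, 2, 0⟩, ⟨2, 0, 0, 0, 1, 1, 0, 1⟩, ⟨2, 1, -1, 1, 0, 0, 2, 0⟩⟩, ⟨⟨-3, 0, 3, 0, 1, -2, -3, 1⟩, ⟨-2, 2, 0, -1, 0, -2, -1, 2⟩, ⟨-2, 2, 2, 1, 2, -3, -3, 2⟩, ⟨1, -2, -1, -1, -2, 2, 1, -1⟩, ⟨3, 0, -2, 1, 0, 2, 3, -2⟩, ⟨1, 1, -2, -1, -1, 0, 1, 1⟩, ⟨2, 1, 0, 2, 2, 0, 0, 0⟩, ⟨1, 0, 0, 1, 0, 0, 0, 0⟩⟩, ⟨⟨0, -1, -2, -1, -3, 2, 3, -2⟩, ⟨-3, 0, 0, -1, -2, -1, 0, 0⟩, ⟨-1, 0, -2, -2, -2, 1, 1, 0⟩, ⟨0, -1, 3, 2, 2, 0, -2, -1⟩, ⟨1, 2, 0, 1, 2, -2, -1, 2⟩, ⟨-3, 0, 3, 1, 1, -2, -3, 0⟩, ⟨1, 1, -1, -1, 1, 0, -1, 2⟩, ⟨0, 0, 2, 1, 2, 0, -2, 0⟩⟩, ⟨⟨0, 0, 2, 1, 2, 0, -1, 0⟩, ⟨2, 1, 0, 0, 2, 0, 0, 2⟩, ⟨-1, 1, 2, 0, 2, -2, -2, 2⟩, ⟨1, -1, -3, -2, -2, 2, 2, -1⟩, ⟨-1, -1, 0, 0, -2, 0, 0, -1⟩, ⟨2, 0, -3, -2, -1, 1, 2, 1⟩, ⟨-3, 0, 1, -1,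 -1, -2, -2, 1⟩, ⟨-1, 0, -2, -2, -2, 0, 1, 0⟩⟩, ⟨-1, 1, 1, 2, 0, -1, 1, -2⟩,
 (d (a (b 240 138)<|a (b 117 145)<|a (b 230 41)<|a (b 215 196)<|c) (a (b 20 73)<|a (b 1 206)<|a (b 2 128)<|a (b 192 76)<|a (b 4 128)<|c) (b 3 3) 4 170 60 (a (b 9 468)<|a (b 8 79)<|a (b 11 1636)<|a (b 9 282)<|a (b 8 145)<|c) 439924361429221765)⟩<|
 e));
 (let e:type_of% e:=(a ⟨⟨⟨0, 0, -1, -1, -1, 1, 0, 0⟩, ⟨1, 2, 0, 1, 1, -1, 0, 1⟩, ⟨-1, 2, 0, -1, 1, -2, -2, 3⟩, ⟨0, -2, -1, -1, -2, 1, 1, -1⟩, ⟨1, 0, 1, 1, 2, 0, 0, 0⟩, ⟨1, 1, -1, 0, 0, -1, 1, 1⟩, ⟨-1, 1, 1, 0, 2, -2, -2, 2⟩, ⟨-1, 0, -1, -1, -1, -1, 0, 1⟩⟩, ⟨⟨-2, 0, 3, 2, 1, -2, -2, -1⟩, ⟨1, 0, 2, 1, 3, -1, -2, 1⟩, ⟨0, -1, 0, 0, 0, 0, 0, -1⟩, ⟨2, 1, -2, 1, -1, 1, 3, -1⟩, ⟨0, 0, -2, -3, -1, 1, 0, 2⟩, ⟨4, 0, -2, 0, 1, 2, 2, 0⟩, ⟨0, 0, -3, -2, -2, 1, 2, 0⟩, ⟨2, 0, -3, 0, -2, 2, 4, -2⟩⟩, ⟨⟨0, 2, 0, 2, 0, -1, 1, 0⟩, ⟨-1, 0, 2, 1, 1, -1, -2, 1⟩, ⟨0, 2, 0,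 1, 1, -2, 0, 2⟩, ⟨2, -2, -2, -1, -1, 3, 2, -2⟩, ⟨-1, 0, 1, -1, 1, -1, -2, 1⟩, ⟨0, -2, 0, -1, 0, 1, -1, 0⟩, ⟨1, 1, -1, -1, 1, -1, 0, 2⟩, ⟨2, -1, -3, -2, -1, 2, 2, 0⟩⟩, ⟨⟨-1, -2, 1, -1, -1, 0, -1, 0⟩, ⟨-2, 1, 3, 1, 2, -3, -3, 2⟩, ⟨-2, 0, 1, 0, -1, -1, 0, 0⟩, ⟨1, 0, 0, 2, 0, 1, 1, -2⟩, ⟨2, 1, -2, -1, 1, 1, 1, 1⟩, ⟨-1, 2, 2, 3, 2, -2, -1, 0⟩, ⟨1, 1, -2, 0, -1, 1, 3, -1⟩, ⟨0, 0, 0, 2, -1, 1, 2, -3⟩⟩, ⟨3, 1, 0, 2, 2, 0, 1, 0⟩,
 (d (a (b 133 241)<|a (b 80 21)<|a (b 103 44)<|a (b 225 7)<|c) (a (b 16 76)<|a (b 1 234)<|a (b 32 76)<|a (b 2 4)<|a (b 4 128)<|c) (b 7 55) 4 210 52 (a (b 9 57)<|a (b 8 173)<|a (b 11 763)<|a (b 8 172)<|a (b 8 91)<|c) 3723052490355125759)⟩<|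
 a ⟨⟨⟨1, 0, 2, 2, 2, 0, 0, -1⟩, ⟨1, 0, 0, 1, 1, 1, 1, -1⟩, ⟨0, 0, 2, 2, 2, -1, -1, 0⟩, ⟨0, 0, 0, 0, 0, 0, -1, 0⟩, ⟨-1, 0, -2, -3, -2, 0, 0, 2⟩, ⟨-1, 0, 0, 0, 0, 0, -1, 0⟩, ⟨-1, 1, 0, 0, 0, -2, -1, 2⟩, ⟨-1, 1, 1, 1, 1, -2, -2, 1⟩⟩, ⟨⟨-1, -2, 0, -1, -1, 1, -1, -1⟩, ⟨0, -2, -1, -2, -1, 2, 0, 0⟩, ⟨-1, -1, 1, -2, 1, 0, -3, 2⟩, ⟨0, 0, 1, 1, 0, -1, 0, 0⟩, ⟨2, 2, -1, 1, 1, 0, 2, 0⟩, ⟨1, -1, 0, -1, 0, 1, 0, 1⟩, ⟨0, 2, 2, 1, 3, -2, -2, 2⟩, ⟨0, 1, 2, 1, 2, -2, -2, 2⟩⟩, ⟨⟨0, -1, 0, -1, 0, 0, -1, 0⟩, ⟨0, -2, 0, -2, 0, 1, -2, 1⟩, ⟨1, -2, 0, 0, 0, 2, 0, -2⟩, ⟨0, 0, 0, 0, 0, 0, 1, 0⟩, ⟨0, 2, 0, 2, 0, -1, 1, 0⟩, ⟨1, -2, 0, -1, 0, 2, 0, 0⟩, ⟨0, 0, 0, 2, -1, 1, 2, -3⟩, ⟨0, -1, 1, 1, 0, 1, 1, -2⟩⟩, ⟨⟨0, 1, -1, 0, 0, -1, 1, 1⟩, ⟨-2, -1, 0, -2, -1, 0, -1, 1⟩, ⟨-1, 1, -1, -1, -1, -1, 0, 2⟩, ⟨1, 0, 0, 0, 0, 1, 1, -1⟩, ⟨1, -1, 1, 1, 1, 1, -1, -1⟩, ⟨-1, -2, 0, -2, -2, 2, 0, -1⟩, ⟨1, 1, -1, 0, 0, 0,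 0, 1⟩, ⟨1, 0, -1, -1, -1, 1, 1, 0⟩⟩, ⟨-2, 1, 2, 2, 1, -2, -1, -1⟩,
 (d (a (b 171 130)<|a (b 80 205)<|a (b 161 253)<|a (b 148 113)<|c) (a (b 18 231)<|a (b 1 238)<|a (b 36 194)<|a (b 2 68)<|a (b 12 192)<|a (b 4 8)<|c) (b 5 1) 6 225 56 (a (b 11 224)<|a (b 6 10)<|a (b 10 265)<|a (b 10 919)<|a (b 8 152)<|c) 13332730836972322104)⟩<|
 a ⟨⟨⟨1, 1, 1, 3, 1, -1, 1, -1⟩, ⟨1, 2, 0, 2, 2, -2, 0, 1⟩, ⟨2, -1, 0, 1, 1, 1, 1, -1⟩, ⟨-3, 0, 1, -1, -1, -1, -1, 0⟩, ⟨1, -1, -2, -3, -1, 2, 0, 1⟩, ⟨-1, 1, -1, -1, 0, -1, 0, 1⟩, ⟨1, -3, -1, -3, -1, 3, 0, 0⟩, ⟨-2, -2, 0, -2, -2, 1, 0, -1⟩⟩, ⟨⟨-1, 0, -2, -3, -2, 0, 0, 2⟩, ⟨1, -1, -3, -2, -2, 2, 2, 0⟩, ⟨-1, 1, -1, -1, 0, -1, -1, 2⟩, ⟨2, 2, 1, 2, 3, -1, 0, 1⟩, ⟨-1, -1, 2, 2, 0, 0, 0, -3⟩, ⟨2, 1, 0, 2, 2, 0, 1, 0⟩, ⟨-1, 1, 2, 2, 2, -2, -2, 0⟩, ⟨1, 2, 2, 2, 4, -2, -2, 2⟩⟩, ⟨⟨-1, 0, -1, -1, -1, 0, 1, 0⟩, ⟨-2, 2, -1, -1, -1, -2, 0, 2⟩, ⟨-3, 1, 2, 1, 0, -2,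 -1, 0⟩, ⟨1, -1, 1, 1, 1, 0, -1, 0⟩, ⟨2, 0, 0, 0, 1, 1, 0, 0⟩, ⟨-1, 1, 1, 1, 0, -2, -1, 1⟩, ⟨-1, -1, 3, 1, 1, 0, -2, -1⟩, ⟨-1, -1, 3, 2, 1, -1, -2, -1⟩⟩, ⟨⟨-2, 0, 2, 0, 1, -1, -2, 1⟩, ⟨1, 1, -1, 0, 1, 0, 1, 1⟩, ⟨-1, 2, 1, 1, 2, -2, -1, 1⟩, ⟨1, 1, 1, 2, 1, -1, 0, 0⟩, ⟨1, -2, -2, -2, -2, 2, 1, -1⟩, ⟨2, 2, -1, 2, 1, -1, 2, 0⟩, ⟨0, 0, 0, 0, 0, 0, 0, -1⟩, ⟨0, 2, 1, 2, 1, -2, 0, 0⟩⟩, ⟨1, 1, 1, 2, 1, 0, 1, -1⟩,
 (d (a (b 67 108)<|a (b 72 18)<|a (b 110 105)<|a (b 6 155)<|c) (a (b 18 163)<|a (b 1 96)<|a (b 32 68)<|a (b 2 132)<|a (b 12 192)<|c) (b 3 1) 3 20 148 (a (b 12 3798)<|a (b 10 648)<|a (b 6 44)<|a (b 9 170)<|a (b 10 818)<|c) 4337868515354672176)⟩<|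
 a ⟨⟨⟨2, 0, 1, 2, 2, 1, 0, -1⟩, ⟨3, 2, -1, 1, 2, 0, 1, 1⟩, ⟨3, 0, -2, 1, 0, 2, 3, -2⟩, ⟨-2, -2, 0, -2, -3, 1, 0, -1⟩, ⟨-2, 1, 0, -1, 0, -2, -1, 2⟩, ⟨0, 1, -2, -1, -2, 0, 2, 0⟩, ⟨0, -1, -2, -1, -2, 1, 2, -1⟩, ⟨-1, -2, -2, -2, -4, 2, 2, -2⟩⟩, ⟨⟨-3, -1, 2, -1, -1, -1, -2, 0⟩, ⟨-1, 0, 1, -1, 0, -1, -2, 2⟩, ⟨-1, 0, 0, 0, -2, 0, 1, -1⟩, ⟨0, 3, 0, 2, 2, -2, 0, 1⟩, ⟨3, -1, -2, 0, 0, 2, 2, -1⟩, ⟨1, 3, 0, 2, 2, -2, 0, 2⟩, ⟨2, 0, -3, 0, -2, 2, 4, -2⟩, ⟨1, 3, -1, 2, 1, -1, 2, 0⟩⟩, ⟨⟨-2, -2, -1, -2, -3, 1, 0, -1⟩, ⟨0, -3, -1, -3, -2, 3, 0, -1⟩, ⟨-2, -1, 0, -1, -2, 1, 0, -1⟩, ⟨0, 3, 1, 1, 3, -3, -2, 3⟩, ⟨2, 1, 0, 2, 1, 0, 2, -1⟩, ⟨1, 1, 0, -1, 2, 0, -1, 2⟩, ⟨0, 2, 1, 3, 1, -1, 1, -1⟩, ⟨-1, 3, 2, 2, 3, -3, -2, 2⟩⟩, ⟨⟨1, 2, -1, 0, 1, -1, 1, 1⟩, ⟨2, 0, 0, -1, 2, 0, -1, 2⟩, ⟨1, -1, -1, -1, -1, 1, 1, -1⟩, ⟨0, 1, 1, 3, 1, -1, 0, -1⟩, ⟨-2, -2, 0, -2, -2, 1, -1, 0⟩, ⟨1, -1, 1, 1, 1, 0, -1, 0⟩,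 ⟨-2, -2, 0, -1, -3, 1, 0, -2⟩, ⟨0, 0, 0, 2, -1, 0, 1, -2⟩⟩, ⟨-1, -2, -1, -1, -3, 2, 2, -3⟩,
 (d (a (b 15 251)<|a (b 97 114)<|a (b 210 189)<|a (b 48 147)<|c) (a (b 16 228)<|a (b 1 96)<|a (b 36 74)<|a (b 2 192)<|a (b 204 68)<|a (b 4 128)<|c) (b 3 1) 6 80 128 (a (b 11 1340)<|a (b 6 57)<|a (b 10 1009)<|a (b 10 728)<|a (b 11 1252)<|c) 3248788740302259074)⟩<|
 a ⟨⟨⟨-2, 1, 0, 1, -1, -1, 1, -1⟩, ⟨1, 1, -1, 0, 1, 0, 1, 1⟩, ⟨0, -2, 0, 0, -1, 2, 1, -2⟩, ⟨2, 0, -2, 0, -1, 1, 2, -1⟩, ⟨0, 0, 2, 0, 2, -1, -3, 2⟩, ⟨4, 0, -2, 0, 1, 2, 2, 0⟩, ⟨0, -3, 1, -1, -1, 2, -1, -1⟩, ⟨2, -2, -2, -1, -2, 3, 2, -2⟩⟩, ⟨⟨0, 1, 0, -1, 1, -1, -2, 3⟩, ⟨0, 1, 0, 1, 0, -1, 0, 1⟩, ⟨0, 1, 1, 0, 1, -1, -1, 2⟩, ⟨0, -1, -1, 0, -2, 2, 2, -3⟩, ⟨1, 0, 0, 1, 1, 0, 1, -1⟩, ⟨1, -1, -1, 1, -2, 2, 3, -3⟩, ⟨0, 0, 1, 0, 1, 0, 0, 0⟩, ⟨0, -1, -1, -1, -2, 2, 2, -2⟩⟩, ⟨⟨0, 0, -1, 1, -1, 0, 1, -1⟩, ⟨0, 0, 1, 3, 0, 0, 1, -3⟩, ⟨0,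 -1, 1, 1, 1, 0, -1, -1⟩, ⟨-2, 0, 0, -2, -1, 0, -1, 1⟩, ⟨1, 1, 1, 0, 2, -1, -1, 2⟩, ⟨-1, 0, 2, 1, 1, 0, -1, -1⟩, ⟨0, 0, 1, -1, 2, -1, -2, 2⟩, ⟨-2, -1, 1, -2, 0, 0, -2, 1⟩⟩, ⟨⟨1, 1, 0, -1, 2, -1, -2, 3⟩, ⟨0, 2, -1, 0, 0, -1, 0, 1⟩, ⟨2, 0, 0, 0, 1, 1, 0, 0⟩, ⟨-2, 0, 1, 0, -1, -1, 0, 0⟩, ⟨0, -2, -1, 0, -2, 2, 2, -3⟩, ⟨-1, 1, -1, 0, -2, 0, 2, -1⟩, ⟨1, -2, 1, 1, 0, 2, 1, -3⟩, ⟨0, 0, 1, 1, 0, 0, 1, -1⟩⟩, ⟨2, -1, -3, -2, -2, 2, 2, 0⟩,
 (d (a (b 90 88)<|a (b 234 7)<|a (b 215 12)<|a (b 249 218)<|c) (a (b 16 170)<|a (b 1 132)<|a (b 40 142)<|a (b 2 12)<|a (b 12 192)<|a (b 4 128)<|c) (b 4 1) 6 8 6 (a (b 10 467)<|a (b 10 392)<|a (b 5 17)<|a (b 8 232)<|a (b 10 845)<|c) 16216125171541469054)⟩<|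
 e);
 (a ⟨⟨⟨0, 0, 0, 0, 0, 1, 0, -1⟩, ⟨0, -2, 0, -2, 0, 2, -1, 0⟩, ⟨-1, 1, 2, 1, 2, -1, -2, 1⟩, ⟨2, 1, 0, 1, 2, -1, 0, 1⟩, ⟨-1, -1, 0, 0, -2, 0, 1, -1⟩, ⟨1, -1, 1, -1, 2, 0, -2, 2⟩, ⟨-2, 2, 2, 2, 1, -3, -1, 1⟩, ⟨0, 2, 2, 2, 3, -3, -2, 2⟩⟩, ⟨⟨-1, -2, 2, 0, 0, 1, -1, -1⟩, ⟨-1, -2, 2, 1, -1, 1, 0, -3⟩, ⟨1, -2, 2, 1, 1, 1, -1, -1⟩, ⟨0, 4, 0, 2, 2, -3, 0, 2⟩, ⟨0, 0, -2, -2, -1, 0, 0, 1⟩, ⟨0, 2, 1, 2, 1, -2, 0, 0⟩, ⟨2, 0, -1, 0, 1, 0, 0, 1⟩, ⟨2, 3, 0, 2, 3, -2, 0, 2⟩⟩, ⟨⟨-1, 1, 0, -1, 0, -2, -1, 2⟩, ⟨2, 1, -2, -2, 1, 0, 0, 3⟩, ⟨0, 0, 0, -1, 1, -1, -1, 2⟩, ⟨-2, 1, 1, 1, 0, -1, -1, 0⟩, ⟨2, -1, 0, 2, 0, 2, 2, -3⟩, ⟨1, 1, 0, 0, 2, 0, -1, 2⟩, ⟨0, -2, 1, 1, 0, 1, 0, -2⟩, ⟨-2, 0, 2, 1, 1, -1, -2, 0⟩⟩, ⟨⟨-1, -1, 2, -1, 1, -1, -3, 2⟩, ⟨-1, -1, -1, -3, -1, 0, -1, 2⟩, ⟨-3, 0, 2, 0, 0, -2, -2, 1⟩, ⟨3, 0, -1, 1, 1, 2, 2, -1⟩, ⟨0, 1, -1, 1, -1, 0, 2, -2⟩, ⟨1, -1, -2, -1, -1, 2, 2, -1⟩, ⟨-2,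 1, 1, 2, -1, -1, 1, -2⟩, ⟨1, 0, 0, 2, 0, 1, 2, -2⟩⟩, ⟨-2, 1, 2, 0, 1, -2, -2, 1⟩,
 (d (a (b 125 20)<|a (b 73 204)<|a (b 157 23)<|a (b 14 110)<|c) (a (b 16 106)<|a (b 1 14)<|a (b 96 38)<|a (b 2 192)<|a (b 64 136)<|a (b 4 136)<|c) (b 7 19) 6 125 205 (a (b 10 442)<|a (b 9 152)<|a (b 8 130)<|a (b 9 213)<|a (b 10 999)<|c) 12979446098949527772)⟩<|
 a ⟨⟨⟨0, 0, 0, 1, -1, 0, 2, -2⟩, ⟨-2, -2, 1, -1, -2, 1, 0, -2⟩, ⟨0, -3, 0, -1, -2, 2, 1, -2⟩, ⟨1, 2, 0, 0, 2, -1, -1, 3⟩, ⟨0, 0, -1, -1, 0, 0, -1, 1⟩, ⟨-1, -1, 0, -2, -1, 1, -1, 1⟩, ⟨2, -2, -1, -1, 0, 2, 0, 0⟩, ⟨2, 0, -1, -1, 1, 1, 0, 2⟩⟩, ⟨⟨3, 1, -1, 1, 2, 1, 1, 0⟩, ⟨3, 0, -3, -2, 0, 2, 2, 1⟩, ⟨2, 2, -1, 1, 1, 0, 2, 0⟩, ⟨-2, -2, 0, -1, -3, 1, 0, -2⟩, ⟨-3, 0, 2, 0, 0, -2, -2, 1⟩, ⟨-1, -1, -2, -3, -3, 1, 1, 0⟩, ⟨-2, 1, 2, 2, 0, -2, 0, -1⟩, ⟨-2, -1, 1, 0, -2, 0, 0, -2⟩⟩, ⟨⟨1, 1, -3, -1, -1, 1, 2, 0⟩, ⟨0, 0, -1, -2, 0, 1, 0, 1⟩, ⟨-2, 0,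 0, -1, -1, 0, -1, 0⟩, ⟨-1, 2, 1, 1, 1, -3, -1, 2⟩, ⟨1, -2, 2, 1, 1, 1, -1, -1⟩, ⟨-2, 1, 2, 0, 1, -2, -2, 2⟩, ⟨-2, -2, 2, 0, -1, 0, -2, -1⟩, ⟨-3, 1, 2, 1, 0, -3, -2, 1⟩⟩, ⟨⟨2, 0, 0, 2, 1, 1, 2, -2⟩, ⟨0, 0, 2, 2, 1, -1, 0, -1⟩, ⟨2, 0, 2, 2, 3, 0, -1, 0⟩, ⟨0, 2, -2, 0, -1, -1, 1, 1⟩, ⟨-2, -1, 0, -3, -1, 0, -2, 2⟩, ⟨-1, 1, 1, 1, 0, -2, -1, 1⟩, ⟨1, -1, 0, -2, 1, 1, -2, 2⟩, ⟨1, 1, -1, 0, 0, 0, 0, 1⟩⟩, ⟨0, -1, 2, 2, 1, 0, 0, -2⟩,
 (d (a (b 85 188)<|a (b 44 70)<|a (b 22 130)<|a (b 12 238)<|c) (a (b 18 35)<|a (b 1 10)<|a (b 40 130)<|a (b 2 76)<|a (b 72 140)<|c) (b 5 1) 4 129 230 (a (b 10 732)<|a (b 7 89)<|a (b 6 58)<|a (b 12 3276)<|a (b 8 103)<|c) 874024687547986692)⟩<|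
 a ⟨⟨⟨-1, 0, 1, -1, 0, -1, -2, 2⟩, ⟨-1, -1, -1, -2, -2, 0, 0, 1⟩, ⟨-1, -1, -1, -3, -2, 1, 0, 1⟩, ⟨2, -1, 1, 1, 2, 1, 0, -1⟩, ⟨0, 1, -1, 1, 0, 0, 1, -1⟩, ⟨1, -1, -1, -1, 0, 1, 1, 0⟩, ⟨1, 0, -2, -1, -1, 2, 2, -1⟩, ⟨2, -1, 0, 0, 1, 2, 1, -1⟩⟩, ⟨⟨1, 0, 2, 1, 2, 0, -1, 0⟩, ⟨2, -1, 1, 2, 1, 1, 1, -2⟩, ⟨0, 0, 1, 1, 0, 0, 1, -1⟩, ⟨-1, -2, -1, -3, -2, 1, -1, 1⟩, ⟨0, 2, -2, 0, 0, -1, 1, 1⟩, ⟨0, -2, -1, -1, -2, 1, 1, -1⟩, ⟨-1, 1, -2, -1, -2, 0, 2, 0⟩, ⟨-2, -2, -1, -3, -3, 1, 0, 0⟩⟩, ⟨⟨0, 1, -1, -2, 0, 0, 0, 2⟩, ⟨-1, 1, 0, -1, 1, -1, -1, 2⟩, ⟨-1, 2, -1, -1, 0, -2, 0, 2⟩, ⟨0, -1, -1, 0, -2, 1, 1, -1⟩, ⟨0, -1, 2, 2, 1, 0, -1, -2⟩, ⟨-1, 0, 0, 0, 0, -1, -1, 1⟩, ⟨-1, 1, 1, 2, 0, -2, 0, -1⟩, ⟨0, 1, -1, 1, -1, -1, 1, 0⟩⟩, ⟨⟨0, 1, 0, 2, 0, 0, 2, -2⟩, ⟨0, 0, 0, 2, -1, 0, 2, -3⟩, ⟨0, 0, 2, 2, 1, 0, 0, -2⟩, ⟨-2, -2, 1, -2, -1, 0, -2, 1⟩, ⟨2, 0, -2, -2, 0, 1, 0, 2⟩, ⟨-2, -2, 1, -1, -2, 0, -1, -1⟩,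 ⟨1, 0, 1, -1, 2, 0, -2, 2⟩, ⟨-2, -2, 2, -2, 0, 0, -3, 1⟩⟩, ⟨1, 0, -3, -1, -2, 1, 2, 0⟩,
 (d (a (b 82 159)<|a (b 234 158)<|a (b 9 213)<|a (b 186 174)<|c) (a (b 3 48)<|a (b 40 138)<|a (b 2 76)<|a (b 12 192)<|a (b 4 8)<|c) (b 5 3) 3 193 194 (a (b 11 1420)<|a (b 9 385)<|a (b 10 644)<|a (b 10 547)<|a (b 9 116)<|c) 8909669952309512282)⟩<|
 a ⟨⟨⟨1, 1, -2, -2, 0, 0, 0, 2⟩, ⟨3, 2, -2, 0, 2, 0, 1, 2⟩, ⟨1, 0, -2, -2, 0, 0, 0, 2⟩, ⟨-3, 1, 2, 2, 0, -2, -1, -1⟩, ⟨0, -2, 2, 1, 0, 1, 0, -2⟩, ⟨0, 2, 1, 3, 2, -2, 0, 0⟩, ⟨-1, -3, 1, -1, -1, 1, -1, -1⟩, ⟨-3, 0, 2, 1, 0, -2, -2, 0⟩⟩, ⟨⟨1, 1, -1, 1, 0, 0, 2, 0⟩, ⟨0, 1, -1, -1, 0, 0, 0, 2⟩, ⟨-1, -1, 1, -1, 0, 0, -1, 1⟩, ⟨0, 1, 1, 1, 2, -1, -1, 0⟩, ⟨-1, -1, 1, 0, -1, 0, -1, -1⟩, ⟨-1, 0, 1, -1, 1, 0, -2, 1⟩, ⟨-1, -2, 2, -1, 0, 0, -2, 0⟩, ⟨0, -1, 2, 0, 2, 0, -2, 0⟩⟩, ⟨⟨-1, -1, 1, -1, 0, -1, -2, 1⟩, ⟨-1, 1, 1, 0, 1, -2, -1, 1⟩, ⟨0, -2, 1, -1, 0, 1,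 -1, -1⟩, ⟨-1, 0, -2, -1, -3, 1, 2, -1⟩, ⟨1, 1, 1, 2, 2, 0, 0, 0⟩, ⟨-1, 1, -1, -1, -1, 0, 1, 0⟩, ⟨2, -2, 0, 0, 0, 3, 1, -2⟩, ⟨0, -2, -2, -2, -3, 3, 2, -2⟩⟩, ⟨⟨2, 0, 0, 2, 1, 1, 2, -2⟩, ⟨1, 1, 1, 1, 3, -1, -1, 1⟩, ⟨2, 0, -2, -1, 0, 1, 2, 0⟩, ⟨1, 1, -1, 0, 0, 0, 0, 1⟩, ⟨-3, -2, 1, -2, -2, 0, -2, 0⟩, ⟨1, 1, 0, -1, 2, -1, -2, 3⟩, ⟨-1, -1, -2, -3, -3, 1, 1, 0⟩, ⟨1, 1, -2, -1, -1, 0, 1, 1⟩⟩, ⟨0, 1, 1, 2, 1, -2, 0, 0⟩,
 (d (a (b 125 31)<|a (b 103 42)<|a (b 75 144)<|a (b 179 189)<|c) (a (b 18 35)<|a (b 1 36)<|a (b 36 202)<|a (b 2 64)<|a (b 72 140)<|a (b 4 136)<|c) (b 4 7) 4 174 14 (a (b 11 1540)<|a (b 10 221)<|a (b 8 181)<|a (b 8 167)<|a (b 11 464)<|c) 9304684600192533888)⟩<|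
 e)))) :
 List Cfsg.Agent.H75.QO.Ent)) _)

end Cfsg.Agent.H75.QO
end

-- part: H75/QO/Pair
section
prune_inst 0xf01057257c221200001c001462003ce3fa000000004b880071c409000dcfdc41a0458621fae00a1a81d638f43834c04813100169421000000a84be00411f00a09c824002a248119526000f80f00e010000200000000000000000000000041000010000000
set_option linter.all false
open scoped Cfsg.Agent.FastGrp

/-!
# Every isometry of the octad lattice over `Ω₈⁺(2)` is `±1` or a commutator of isometries generating `Ω₈⁺(2)`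

helper75, row 2.Co1 of S2492.  `pairs : x ∈ C0 c0`, `rho x ≠ 1` ⇒ `mu x = mu [a, b]` with `⟨rho a, rho b⟩ = Om`.
-/

set_option autoImplicit false

namespace Cfsg.Agent.H75.QO

open Cfsg Cfsg.Agent.StdO8.Model Cfsg.Agent.StdO8.Code
open Cfsg.Agent.H935.OreO8 (Dat data chk cw cm word_cw closure_eq_top)
open Cfsg.Agent.CoOneType.GenCrit (c0)
open Cfsg.Agent.CoOneType.CentOctad (C0)
open Matrix

theorem dot_fn (x y : R8) : x.dot y = x.fn ⬝ᵥ y.fn := by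
  simp [R8.dot, R8.fn, dotProduct, Fin.sum_univ_eight]

theorem ap_fn (A : C8) (v : R8) : (A.ap v).fn = A.mat *ᵥ v.fn := by
  funext i
  (revert i; simp only [C8.ap, C8.mat, C8.col, R8.fn, lin8, mulVec, dotProduct, Fin.sum_univ_eight, _root_.Fin.forall_fin_succ, _root_.Matrix.of_apply, Fin.isValue, _root_.Matrix.cons_val_zero, _root_.Matrix.cons_val_one, _root_.Matrix.cons_val, _root_.Matrix.cons_val_succ, _root_.Matrix.cons_val_fin_one, _root_.implies_true, _root_.and_self])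

theorem mat_single (A : C8) (i : Fin 8) : A.mat *ᵥ Pi.single i 1 = (A.col i).fn := by
  funext j
  simp [C8.mat]

/-- the Gram matrix -/
def Gc : C8 := ⟨⟨4, 2, 2, -2, -3, -2, -2, -2⟩, ⟨2, 4, 2, -2, -2, 1, -2, -2⟩, ⟨2, 2, 4, -2, -2, 0, 1, 0⟩,
  ⟨-2, -2, -2, 4, 0, 2, 0, 3⟩, ⟨-3, -2, -2, 0, 4, 0, 2, 0⟩, ⟨-2, 1, 0, 2, 0, 4, 0, 2⟩, ⟨-2, -2, 1, 0, 2, 0, 4, 2⟩,
  ⟨-2, -2, 0, 3, 0, 2, 2, 4⟩⟩

theorem Gc_mat : Gc.mat = Gm := by decide +kernel

/-- isometry check -/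
def isoB (A : C8) : Bool := decide (∀ j i : Fin 8, (A.col i).dot (Gc.ap (A.col j)) = Gm i j)

theorem iso_of {A : C8} (h : isoB A = true) : A.matᵀ * Gm * A.mat = Gm := by
  have h1 := of_decide_eq_true h
  ext i j
  have h2 : Bl (A.mat *ᵥ Pi.single i 1) (A.mat *ᵥ Pi.single j 1) = (A.matᵀ * Gm * A.mat) i j := by
    rw [Bl_mulVec]; simp
  rw [← h2, mat_single, mat_single, Bl, ← Gc_mat, ← ap_fn, ← dot_fn, h1, Gc_mat]

/-- the unit -/
def unit (A : C8) (h : isoB A = true) : M8ˣ where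
  val := A.mat
  inv := Gi * A.matᵀ * Gm
  inv_val := by rw [mul_assoc, mul_assoc, ← mul_assoc A.matᵀ, iso_of h, Gi_mul]
  val_inv := by
    rw [mul_eq_one_comm, mul_assoc, mul_assoc, ← mul_assoc A.matᵀ, iso_of h, Gi_mul]

theorem unit_mem (A : C8) (h : isoB A = true) : unit A h ∈ Gam := iso_of h

theorem unit_mulVec (A : C8) (h : isoB A = true) (v : R8) : (unit A h : M8) *ᵥ v.fn = (A.ap v).fn := (ap_fn A v).symm

/-! ### Parity -/

/-- parity of an integer -/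
def bt (z : ℤ) : Bool := z % 2 == 1

/-- the code of a vector -/
def pc (x : R8) : ℕ := (bt x.a).toNat + 2 * (bt x.b).toNat + 4 * (bt x.c).toNat + 8 * (bt x.d).toNat +
  16 * (bt x.e).toNat + 32 * (bt x.f).toNat + 64 * (bt x.g).toNat + 128 * (bt x.h).toNat

theorem bits_spec : ∀ a b c d e f g h : Bool,
    (a.toNat + 2 * b.toNat + 4 * c.toNat + 8 * d.toNat + 16 * e.toNat + 32 * f.toNat + 64 * g.toNat + 128 * h.toNat).testBit 0 = a ∧
    (a.toNat + 2 * b.toNat + 4 * c.toNat + 8 * d.toNat + 16 * e.toNat + 32 * f.toNat + 64 * g.toNat + 128 * h.toNat).testBit 1 = b ∧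
    (a.toNat + 2 * b.toNat + 4 * c.toNat + 8 * d.toNat + 16 * e.toNat + 32 * f.toNat + 64 * g.toNat + 128 * h.toNat).testBit 2 = c ∧
    (a.toNat + 2 * b.toNat + 4 * c.toNat + 8 * d.toNat + 16 * e.toNat + 32 * f.toNat + 64 * g.toNat + 128 * h.toNat).testBit 3 = d ∧
    (a.toNat + 2 * b.toNat + 4 * c.toNat + 8 * d.toNat + 16 * e.toNat + 32 * f.toNat + 64 * g.toNat + 128 * h.toNat).testBit 4 = e ∧
    (a.toNat + 2 * b.toNat + 4 * c.toNat + 8 * d.toNat + 16 * e.toNat + 32 * f.toNat + 64 * g.toNat + 128 * h.toNat).testBit 5 = f ∧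
    (a.toNat + 2 * b.toNat + 4 * c.toNat + 8 * d.toNat + 16 * e.toNat + 32 * f.toNat + 64 * g.toNat + 128 * h.toNat).testBit 6 = g ∧
    (a.toNat + 2 * b.toNat + 4 * c.toNat + 8 * d.toNat + 16 * e.toNat + 32 * f.toNat + 64 * g.toNat + 128 * h.toNat).testBit 7 = h := by
  decide +kernel

theorem cc_bt (z : ℤ) : cc (bt z) = (z : ZMod 2) := by
  have h := Int.emod_two_eq_zero_or_one z
  have h1 : (z : ZMod 2) = ((z % 2 : ℤ) : ZMod 2) := by
    rw [ZMod.intCast_eq_intCast_iff]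
    exact (Int.mod_modEq z 2).symm
  rw [h1, bt]
  rcases h with h | h <;> rw [h] <;> rfl

theorem dec_pc (x : R8) : dec (pc x) = psi x.fn := by
  obtain ⟨h0, h1, h2, h3, h4, h5, h6, h7⟩ := bits_spec (bt x.a) (bt x.b) (bt x.c) (bt x.d) (bt x.e) (bt x.f) (bt x.g) (bt x.h)
  funext i
  show cc ((pc x).testBit (ix i)) = (x.fn (ef i) : ZMod 2)
  rcases i with i | i
  · fin_cases i
    · show cc ((pc x).testBit 0) = (x.a : ZMod 2)
      rw [pc, h0, cc_bt]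
    · show cc ((pc x).testBit 1) = (x.b : ZMod 2)
      rw [pc, h1, cc_bt]
    · show cc ((pc x).testBit 2) = (x.c : ZMod 2)
      rw [pc, h2, cc_bt]
    · show cc ((pc x).testBit 3) = (x.d : ZMod 2)
      rw [pc, h3, cc_bt]
  · fin_cases i
    · show cc ((pc x).testBit 4) = (x.e : ZMod 2)
      rw [pc, h4, cc_bt]
    · show cc ((pc x).testBit 5) = (x.f : ZMod 2)
      rw [pc, h5, cc_bt]
    · show cc ((pc x).testBit 6) = (x.g : ZMod 2)
      rw [pc, h6, cc_bt]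
    · show cc ((pc x).testBit 7) = (x.h : ZMod 2)
      rw [pc, h7, cc_bt]

theorem psi_single : ∀ i : Fin 8, psi (Pi.single i 1) = dec (2 ^ i.1) := by
  intro i
  funext a
  revert a
  revert i
  decide +kernel

/-- the reduction of the matrix is the word -/
def par (w : List (ℕ × ℕ)) (A : C8) : Bool := w.all ok && decide (∀ i : Fin 8, ev w (2 ^ i.1) = pc (A.col i))

theorem red_unit {w : List (ℕ × ℕ)} {A : C8} (hA : isoB A = true) (h : par w A = true) :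
    red (unit A hA) = ((word w : Om) : V ≃ₗ[ZMod 2] V) := by
  rw [par, Bool.and_eq_true] at h
  have h2 := of_decide_eq_true h.2
  apply lin_ext
  intro b hb
  have hb' : ∃ i : Fin 8, b = 2 ^ i.1 := by
    simp only [basis, List.mem_cons, List.not_mem_nil, or_false] at hb
    rcases hb with rfl | rfl | rfl | rfl | rfl | rfl | rfl | rfl
    exacts [⟨0, rfl⟩, ⟨1, rfl⟩, ⟨2, rfl⟩, ⟨3, rfl⟩, ⟨4, rfl⟩, ⟨5, rfl⟩, ⟨6, rfl⟩, ⟨7, rfl⟩]
  obtain ⟨i, rfl⟩ := hb'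
  rw [word_dec h.1, h2, dec_pc, ← psi_single, red_psi]
  congr 1
  exact mat_single A i

/-! ### Entries -/

/-- negation -/
def R8.neg (x : R8) : R8 := ⟨-x.a, -x.b, -x.c, -x.d, -x.e, -x.f, -x.g, -x.h⟩

theorem neg_fn (x : R8) : x.neg.fn = -x.fn := by
  funext i
  fin_cases i <;> rfl

/-- the checker -/
def chkE (d : Dat) (e : Ent) : Bool :=
  isoB e.A && isoB e.B && isoB e.A' && isoB e.B' &&
    (par d.a e.A && par d.b e.B && par e.d.a e.A' && par e.d.b e.B') &&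
    (same (cw d) (cw e.d) && chk e.d) &&
    (decide (e.B'.ap (e.A'.ap e.x) = e.B.ap (e.A.ap ⟨1, 0, 0, 0, 0, 0, 0, 0⟩)) &&
      decide (e.A'.ap (e.B'.ap e.x) = (e.A.ap (e.B.ap ⟨1, 0, 0, 0, 0, 0, 0, 0⟩)).neg))

end Cfsg.Agent.H75.QO

private theorem dce_d541631bb164 : _root_.True := by
  try have : _root_.True := by simp only [_root_.Cfsg.Agent.H75.QO.C8.mat.eq_1]
  try have : _root_.True := by simp only [_root_.Cfsg.Agent.H75.QO.R8.fn.eq_1]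
  try have : _root_.True := by simp only [_root_.Cfsg.Agent.H75.QO.C8.ap.eq_1]
  try have : _root_.True := by simp only [_root_.Cfsg.Agent.H75.QO.C8.col.eq_1]
  try have : _root_.True := by simp only [_root_.Cfsg.Agent.H75.QO.lin8.eq_1]
  try have : _root_.True := by simp only [_root_.Cfsg.Agent.H75.QO.R8.dot.eq_1]
  try have : _root_.True := by simp only [_root_.Cfsg.Agent.H75.QO.bt.eq_1]
  try have : _root_.True := by simp only [_root_.Cfsg.Agent.H75.QO.pc.eq_1]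
  try have : _root_.True := by simp only [_root_.Cfsg.Agent.H75.QO.par.eq_1]
  exact _root_.True.intro
end

-- part: H868/QS/OutBase
section
prune_inst 0xe0305625382212000004000460003ce3ca000102006b880051840c000d875c4100008620faa00a1a114a2024407c4048130000f94010000020840600411d00a098a970e22234a19527000f80f80b190c00200000000000000000000000041004010000000
set_option linter.all false
open scoped Cfsg.Agent.FastGrp

/-!
# `2.Co₁` (S2491, S2492): the elements of `C(w)` outside `Z × L` (helper868)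

* `not_comm_v` : they do not commute with `v`;
* `half` : `2 |C(g)| ≤ |C(w) ∩ C(y)|` for a power `y` of odd order;
* `inf_le` : `|C(w) ∩ C(y)| ≤ |y| n`, `n` a bound for the centralizers of the involutions of `C(y) / ⟨y⟩`;
* `out3` : the bound for the class `3D` (`C(y) / ⟨y⟩ ≅ A₉`).
-/

set_option autoImplicit false

open Subgroup

namespace Cfsg.Agent.H868.QS.Outer

open Cfsg Cfsg.Agent.KFacts.Co1D4
open Cfsg.Agent.LThreeMB (fr XX Zx)
open Cfsg.Agent.H630.Ore.Co1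
open Cfsg.Agent.StdG24
open Cfsg.Spor (Co1)
open Equiv (Perm swap)

/-! ### an element of `C(w)` which does not commute with `v` -/

theorem exists_c : ∃ c : Co1, c * TwoB.w = TwoB.w * c ∧ c * TwoB.v ≠ TwoB.v * c := by
  have h1 : CoSide.val [9, 6] = CoSide.val [6, 9] := CoSide.rel (by (delta Cfsg.Agent.CoOneType.CoEval.sameB; rewrite [Cfsg.Agent.CoOneType.CoW.fold_eq]; decide +kernel))
  have h2 : CoSide.val [9, 12] = CoSide.val [6, 12, 9] := CoSide.rel (by (delta Cfsg.Agent.CoOneType.CoEval.sameB; rewrite [Cfsg.Agent.CoOneType.CoW.fold_eq]; decide +kernel))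
  simp only [CoSide.val, List.map_cons, List.map_nil, List.prod_cons, List.prod_nil, mul_one] at h1 h2
  refine ⟨CoOneType.CoEval.pr (CoSide.e 9), h1, fun h3 => ?_⟩
  have h4 : CoOneType.CoEval.pr (CoSide.e 9) * TwoB.v = TwoB.w * (TwoB.v * CoOneType.CoEval.pr (CoSide.e 9)) := h2
  rw [h3] at h4
  exact TwoB.w_ne (mul_eq_right.1 h4.symm)

theorem not_comm_v {g : Co1} (hw : g * TwoB.w = TwoB.w * g) (hg : g ∉ Main.setup.ZL) : g * TwoB.v ≠ TwoB.v * g := by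
  have := LThree.fin_co1
  intro h
  obtain ⟨c, hc, hcv⟩ := exists_c
  have hZ : ∀ a ∈ Main.setup.ZL, a * TwoB.v = TwoB.v * a := by
    intro a ha
    obtain ⟨b, hb, l, hl, rfl⟩ := Main.setup.mem_ZL.1 ha
    have h1 := Main.setup.cent_LZ l hl TwoB.v Main.setup.v_mem
    have h2 := Main.setup.Z_comm b hb TwoB.v Main.setup.v_mem
    rw [mul_assoc, h1, ← mul_assoc, h2, mul_assoc]
  have hcZ : c ∉ Main.setup.ZL := fun h1 => hcv (hZ c h1)
  have h1 : g * c ∈ Main.setup.ZL := (Main.setup.mul_mem_iff hw hc).2 ⟨fun h2 => absurd h2 hg, fun h2 => absurd h2 hcZ⟩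
  have h2 := hZ _ h1
  apply hcv
  have h3 : g * (c * TwoB.v) = g * (TwoB.v * c) := by
    calc g * (c * TwoB.v) = g * c * TwoB.v := by group
      _ = TwoB.v * (g * c) := h2
      _ = TwoB.v * g * c := by group
      _ = g * TwoB.v * c := by rw [h]
      _ = g * (TwoB.v * c) := by group
  exact mul_left_cancel h3

theorem comm_of_mem {g y : Co1} (h : y ∈ zpowers g) {c : Co1} (hc : c * g = g * c) : c * y = y * c := by
  obtain ⟨n, rfl⟩ := h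
  exact ((show Commute c g from hc).zpow_right n).eq

theorem half {g y : Co1} (hw : TwoB.w ∈ zpowers g) (hg : g ∉ Main.setup.ZL) (hy : y ∈ zpowers g)
    (ho : Odd (orderOf y)) : 2 * Nat.card (centralizer ({g} : Set Co1)) ≤
      Nat.card (centralizer ({TwoB.w} : Set Co1) ⊓ centralizer ({y} : Set Co1) : Subgroup Co1) := by
  have := LThree.fin_co1
  have hgw : g * TwoB.w = TwoB.w * g := comm_of_mem hw rfl
  have hyw : y * TwoB.w = TwoB.w * y := comm_of_mem hw (comm_of_mem hy rfl).symm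
  have hyL := odd_mem_L ho hyw
  have hv := not_comm_v hgw hg
  have hyv : y * TwoB.v = TwoB.v * y := Main.setup.cent_LZ y hyL TwoB.v Main.setup.v_mem
  set K : Subgroup Co1 := centralizer ({TwoB.w} : Set Co1) ⊓ centralizer ({y} : Set Co1) with hK
  have hle : centralizer ({g} : Set Co1) ≤ K := by
    intro c hc
    have hc' := mem_centralizer_singleton_iff.1 hc
    exact ⟨mem_centralizer_singleton_iff.2 (comm_of_mem hw hc'), mem_centralizer_singleton_iff.2 (comm_of_mem hy hc')⟩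
  have hvK : TwoB.v ∈ K := ⟨mem_centralizer_singleton_iff.2 TwoB.wv.symm, mem_centralizer_singleton_iff.2 hyv.symm⟩
  have h1 := relIndex_mul_card hle
  have h2 : (centralizer ({g} : Set Co1)).relIndex K ≠ 1 := by
    intro h3
    exact hv (mem_centralizer_singleton_iff.1 ((relIndex_eq_one.1 h3) hvK)).symm
  have h3 : (centralizer ({g} : Set Co1)).relIndex K ≠ 0 := by
    intro h4
    rw [h4, zero_mul] at h1
    exact Nat.card_pos.ne h1
  rw [← h1]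
  exact Nat.mul_le_mul_right _ (by omega)

/-- `|C(u) ∩ C(y)| ≤ |y| n`, `n` a bound for the centralizers of the involutions of `C(y) / ⟨y⟩` -/
theorem inf_le {u y : Co1} (hu : orderOf u = 2) (huy : u * y = y * u) (ho : Odd (orderOf y)) {n : ℕ}
    (hn : ∀ x : XX y, orderOf x = 2 → Nat.card (centralizer ({x} : Set (XX y))) ≤ n) :
    Nat.card (centralizer ({u} : Set Co1) ⊓ centralizer ({y} : Set Co1) : Subgroup Co1) ≤ orderOf y * n := by
  have := LThree.fin_co1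
  have : Finite (XX y) := Quotient.finite _
  set zb : XX y := LThreeMB.mk y huy with hzb
  have hzb2 : orderOf zb = 2 := by
    have : Fact (Nat.Prime 2) := ⟨by norm_num⟩
    refine orderOf_eq_prime ?_ ?_
    · have hck : u ^ 2 * y = y * u ^ 2 := (show Commute u y from huy).pow_left 2
      have h2 : zb ^ 2 = LThreeMB.mk y hck := rfl
      rw [h2, LThreeMB.mk_eq_one]
      exact ⟨0, by rw [zpow_zero, ← hu, pow_orderOf_eq_one]⟩
    · intro h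
      rw [hzb, LThreeMB.mk_eq_one] at h
      have h3 : u ∈ zpowers y := h
      have h4 := orderOf_dvd_of_mem_zpowers h3
      rw [hu] at h4
      exact absurd (even_iff_two_dvd.2 h4) (Nat.not_even_iff_odd.2 ho)
  have h7 := hn zb hzb2
  set K : Subgroup Co1 := centralizer ({u} : Set Co1) ⊓ centralizer ({y} : Set Co1) with hK
  let f : ↥K →* XX y := (QuotientGroup.mk' (Zx y)).comp (Subgroup.inclusion inf_le_right)
  have hrange : f.range ≤ centralizer ({zb} : Set (XX y)) := by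
    rintro _ ⟨k, rfl⟩
    rw [mem_centralizer_singleton_iff]
    have h1 := mem_centralizer_singleton_iff.1 (k.2.1)
    have h2 := mem_centralizer_singleton_iff.1 (k.2.2)
    change (QuotientGroup.mk (⟨(k : Co1), _⟩ : centralizer ({y} : Set Co1)) : XX y) * QuotientGroup.mk ⟨u, _⟩ =
      QuotientGroup.mk ⟨u, _⟩ * QuotientGroup.mk ⟨(k : Co1), _⟩
    rw [← QuotientGroup.mk_mul, ← QuotientGroup.mk_mul]
    exact congrArg _ (Subtype.ext h1)
  have hker : Nat.card f.ker ≤ orderOf y := by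
    have h1 : f.ker.map K.subtype ≤ zpowers y := by
      rintro _ ⟨k, hk, rfl⟩
      have h2 := mem_centralizer_singleton_iff.1 (k.2.2)
      have h3 : LThreeMB.mk y h2 = 1 := hk
      rw [LThreeMB.mk_eq_one] at h3
      obtain ⟨i, hi⟩ := h3
      exact ⟨i, hi⟩
    have h2 := Subgroup.card_le_of_le h1
    rwa [Subgroup.card_map_of_injective K.subtype_injective, Nat.card_zpowers] at h2
  have hcard : Nat.card K = Nat.card f.ker * Nat.card f.range := by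
    rw [← Subgroup.card_mul_index f.ker, Subgroup.index_ker]
  rw [hcard]
  exact Nat.mul_le_mul hker ((Subgroup.card_le_of_le hrange).trans h7)

/-! ### involutions of `A₉` -/

theorem card_cent_alt {n : ℕ} (τ : alternatingGroup (Fin n)) (c : Perm (Fin n)) (hc : Perm.sign c = -1)
    (hcτ : c * τ = τ * c) : 2 * Nat.card ↥(centralizer ({τ} : Set (alternatingGroup (Fin n)))) =
      Nat.card ↥(centralizer ({(τ : Perm (Fin n))} : Set (Perm (Fin n)))) := by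
  let C := centralizer ({(τ : Perm (Fin n))} : Set (Perm (Fin n)))
  let f : ↥C →* ℤˣ := Perm.sign.comp C.subtype
  have hf : Function.Surjective f := by
    intro u
    rcases Int.units_eq_one_or u with rfl | rfl
    · exact ⟨1, map_one f⟩
    · exact ⟨⟨c, mem_centralizer_singleton_iff.2 hcτ⟩, hc⟩
  have h1 : f.ker.index = 2 := by
    rw [Subgroup.index_ker, MonoidHom.range_eq_top.2 hf, card_top, Nat.card_eq_fintype_card]
    rfl
  have e : ↥f.ker ≃ ↥(centralizer ({τ} : Set (alternatingGroup (Fin n)))) :=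
    { toFun := fun g => ⟨⟨(g : ↥C), Equiv.Perm.mem_alternatingGroup.2 (MonoidHom.mem_ker.1 g.2)⟩,
        mem_centralizer_singleton_iff.2 (Subtype.ext (mem_centralizer_singleton_iff.1 (g : ↥C).2))⟩
      invFun := fun g => ⟨⟨((g : alternatingGroup (Fin n)) : Perm (Fin n)),
        mem_centralizer_singleton_iff.2 (congrArg Subtype.val (mem_centralizer_singleton_iff.1 g.2))⟩,
        MonoidHom.mem_ker.2 (Equiv.Perm.mem_alternatingGroup.1 (g : alternatingGroup (Fin n)).2)⟩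
      left_inv := fun g => rfl
      right_inv := fun g => rfl }
  have h2 := card_mul_index f.ker
  rw [h1, Nat.card_congr e] at h2
  rw [mul_comm]
  exact h2

theorem card_le_cent {n : ℕ} (τ : alternatingGroup (Fin n)) : Nat.card ↥(centralizer ({τ} : Set (alternatingGroup (Fin n)))) ≤
      Nat.card ↥(centralizer ({(τ : Perm (Fin n))} : Set (Perm (Fin n)))) := by
  refine Nat.card_le_card_of_injective (fun g => ⟨((g : alternatingGroup (Fin n)) : Perm (Fin n)),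
        mem_centralizer_singleton_iff.2 (congrArg Subtype.val (mem_centralizer_singleton_iff.1 g.2))⟩) ?_
  intro a b h
  have h1 : ((a : alternatingGroup (Fin n)) : Perm (Fin n)) = ((b : alternatingGroup (Fin n)) : Perm (Fin n)) :=
    Subtype.mk.inj h
  exact Subtype.ext (Subtype.ext h1)

/-- centralizers of involutions of `A₉` -/
theorem card_nine {τ : alternatingGroup (Fin 9)} (h : orderOf τ = 2) :
    Nat.card ↥(centralizer ({τ} : Set (alternatingGroup (Fin 9)))) ≤ 480 := by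
  set σ : Perm (Fin 9) := (τ : Perm (Fin 9)) with hσ
  have ho : orderOf σ = 2 := (orderOf_coe τ).trans h
  obtain ⟨k, hk⟩ := Perm.cycleType_prime_order (σ := σ) (by rw [ho]; norm_num)
  rw [ho] at hk
  have hs := Perm.sum_cycleType σ
  have hle : σ.support.card ≤ 9 := by simpa using Finset.card_le_univ σ.support
  have hsign := Perm.sign_of_cycleType σ
  rw [Perm.mem_alternatingGroup.1 τ.2] at hsign
  rw [hk, Multiset.sum_replicate, smul_eq_mul] at hs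
  rw [hk, Multiset.sum_replicate, smul_eq_mul, Multiset.card_replicate] at hsign
  have hcard := Perm.nat_card_centralizer σ
  rw [hk, Fintype.card_fin] at hcard
  have hk3 : k ≤ 3 := by omega
  interval_cases k
  · exact absurd hsign (by decide)
  · -- two transpositions
    have h4 : σ.support.card = 4 := by omega
    have h5 : 1 < (σ.supportᶜ).card := by
      rw [Finset.card_compl, h4, Fintype.card_fin]; norm_num
    obtain ⟨a, ha, b, hb, hab⟩ := Finset.one_lt_card.1 h5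
    have hc := card_cent_alt τ (swap a b) (Perm.sign_swap hab) (by
      refine Perm.Disjoint.commute ?_
      rw [Perm.disjoint_iff_disjoint_support, Perm.support_swap hab]
      rw [Finset.disjoint_left]
      intro x hx hx'
      simp only [Finset.mem_insert, Finset.mem_singleton] at hx
      rcases hx with rfl | rfl
      · exact (Finset.mem_compl.1 ha) hx'
      · exact (Finset.mem_compl.1 hb) hx')
    have h6 : Nat.card ↥(centralizer ({σ} : Set (Perm (Fin 9)))) = 960 := by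
      rw [hcard]; decide
    rw [← hσ, h6] at hc
    omega
  · exact absurd hsign (by decide)
  · refine (card_le_cent τ).trans ?_
    rw [← hσ, hcard]
    decide


theorem card_cent_congr {G H : Type*} [Group G] [Group H] (e : G ≃* H) (x : G) :
    Nat.card (centralizer ({x} : Set G)) = Nat.card (centralizer ({e x} : Set H)) := by
  refine Nat.card_congr
    { toFun := fun c => ⟨e (c : G), mem_centralizer_singleton_iff.2 (by
        rw [← map_mul, mem_centralizer_singleton_iff.1 c.2, map_mul])⟩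
      invFun := fun c => ⟨e.symm (c : H), mem_centralizer_singleton_iff.2 (by
        have h1 := congrArg e.symm (mem_centralizer_singleton_iff.1 c.2)
        simpa using h1)⟩
      left_inv := fun c => Subtype.ext (e.symm_apply_apply (c : G))
      right_inv := fun c => Subtype.ext (e.apply_symm_apply (c : H)) }

theorem w_order : orderOf TwoB.w = 2 := by
  have : Fact (Nat.Prime 2) := ⟨Nat.prime_two⟩
  exact orderOf_eq_prime (by rw [pow_two, TwoB.ww]) TwoB.w_ne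

/-- **the class 3D** -/
theorem out3 (g y : Co1) (hw : TwoB.w ∈ zpowers g) (hg : g ∉ Main.setup.ZL) (hy : y ∈ zpowers g) (h3 : orderOf y = 3)
    (hf : fr y = 2 ^ 8) : Bd 1218 g := by
  have := LThree.fin_co1
  obtain ⟨t, ht, hft, ⟨e⟩, -⟩ := LThreeMB.CEight.nine
  obtain ⟨k, hk⟩ := LThreeCo1.Ranks.eight y t h3 ht hf hft
  obtain ⟨-, ⟨f⟩⟩ := LThreeMB.exists_XX_equiv hk
  have ho : Odd (orderOf y) := by rw [h3]; decide
  have hwy : TwoB.w * y = y * TwoB.w := (comm_of_mem hw (comm_of_mem hy rfl).symm).symm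
  have h1 := half hw hg hy ho
  have h2 := inf_le w_order hwy ho (n := 480) (fun x hx => by
    rw [card_cent_congr (f.trans e) x]
    exact card_nine (by rw [MulEquiv.orderOf_eq, hx]))
  rw [h3] at h2
  show Nat.card _ ≤ 1218
  omega

end Cfsg.Agent.H868.QS.Outer
end

-- part: H868/QS/OutFive
section
prune_inst 0x200000000000000000000000000000010000000
set_option linter.all false
open scoped Cfsg.Agent.FastGrp

/-!
# `2.Co₁`: the elements of `C(w)` outside `Z × L`, orders 5 and 7 (helper868, S2491 / S2492)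

`y ∈ L` of order 5 or 7: `3 |C(w) ∩ C(y)| ≤ |C(y)|` (`third`, since `r` moves `w`), and `2 |C(g)| ≤ |C(w) ∩ C(y)|`.
-/

set_option autoImplicit false

open Subgroup

namespace Cfsg.Agent.H868.QS.Outer

open Cfsg Cfsg.Agent.KFacts.Co1D4
open Cfsg.Agent.LThreeMB (fr XX Zx)
open Cfsg.Agent.H630.Ore.Co1
open Cfsg.Spor (Co1)

/-- `r` moves `w` -/
theorem third {y : Co1} (hL : y ∈ GTwo.L) :
    3 * Nat.card (centralizer ({TwoB.w} : Set Co1) ⊓ centralizer ({y} : Set Co1) : Subgroup Co1) ≤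
      Nat.card (centralizer ({y} : Set Co1)) := by
  have := LThree.fin_co1
  set K : Subgroup Co1 := centralizer ({TwoB.w} : Set Co1) ⊓ centralizer ({y} : Set Co1) with hK
  set C : Subgroup Co1 := centralizer ({y} : Set Co1) with hC
  have hle : K ≤ C := inf_le_right
  have hrC : TwoB.r ∈ C := mem_centralizer_singleton_iff.2 (Main.setup.Lr y hL).symm
  have h1 := relIndex_mul_card hle
  have hr : TwoB.r * TwoB.w = TwoB.v * TwoB.r := by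
    have h := TwoB.rw_
    calc TwoB.r * TwoB.w = (TwoB.r * TwoB.w * TwoB.r⁻¹) * TwoB.r := by group
      _ = TwoB.v * TwoB.r := by rw [h]
  have hr2 : TwoB.r * TwoB.v = TwoB.w * TwoB.v * TwoB.r := by
    have h := TwoB.rv
    calc TwoB.r * TwoB.v = (TwoB.r * TwoB.v * TwoB.r⁻¹) * TwoB.r := by group
      _ = TwoB.w * TwoB.v * TwoB.r := by rw [h]
  have h2 : K.relIndex C ≠ 1 := by
    intro h3
    have h4 := mem_centralizer_singleton_iff.1 ((relIndex_eq_one.1 h3) hrC).1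
    rw [hr] at h4
    exact TwoB.vw (mul_right_cancel h4)
  have h3 : K.relIndex C ≠ 2 := by
    intro h4
    have h5 := mul_self_mem_of_index_two (H := K.subgroupOf C) h4 ⟨TwoB.r, hrC⟩
    have h6 : TwoB.r * TwoB.r ∈ K := h5
    have h7 := mem_centralizer_singleton_iff.1 h6.1
    have h8 : TwoB.r * TwoB.r * TwoB.w = TwoB.w * TwoB.v * (TwoB.r * TwoB.r) := by
      calc TwoB.r * TwoB.r * TwoB.w = TwoB.r * (TwoB.r * TwoB.w) := by group
        _ = TwoB.r * (TwoB.v * TwoB.r) := by rw [hr]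
        _ = (TwoB.r * TwoB.v) * TwoB.r := by group
        _ = TwoB.w * TwoB.v * TwoB.r * TwoB.r := by rw [hr2]
        _ = TwoB.w * TwoB.v * (TwoB.r * TwoB.r) := by group
    rw [h8] at h7
    have h9 := mul_right_cancel h7
    exact TwoB.v_ne (mul_eq_left.1 h9)
  have h4 : K.relIndex C ≠ 0 := by
    intro h5
    rw [h5, zero_mul] at h1
    exact Nat.card_pos.ne h1
  rw [← h1]
  exact Nat.mul_le_mul_right _ (by omega)

/-- **order seven** -/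
theorem out7 (g y : Co1) (hw : TwoB.w ∈ zpowers g) (hg : g ∉ Main.setup.ZL) (hy : y ∈ zpowers g)
    (h7 : orderOf y = 7) : Bd 11007 g := by
  have ho : Odd (orderOf y) := by rw [h7]; decide
  have hyw : y * TwoB.w = TwoB.w * y := comm_of_mem hw (comm_of_mem hy rfl).symm
  have h1 := half hw hg hy ho
  have h2 := third (odd_mem_L ho hyw)
  have h3 := H8.Ore.CoOneB.bound_seven h7
  show Nat.card _ ≤ 11007
  omega

/-- **order five** -/
theorem out5 (g y : Co1) (hw : TwoB.w ∈ zpowers g) (hg : g ∉ Main.setup.ZL) (hy : y ∈ zpowers g)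
    (h5 : orderOf y = 5) : Bd 11007 g := by
  have ho : Odd (orderOf y) := by rw [h5]; decide
  have hyw : y * TwoB.w = TwoB.w * y := comm_of_mem hw (comm_of_mem hy rfl).symm
  have h1 := half hw hg hy ho
  show Nat.card _ ≤ 11007
  rcases CoFive.Ranks.ranks y h5 with hf | hf | hf
  · obtain ⟨t, u, Q, v, ρ, D⟩ := KFacts.J2.Facts.exists_dat_of (MFive.JTwo.isoJ2 h5 hf)
    have h2 := inf_le w_order hyw.symm ho (n := 1920) (fun x hx => by
      rcases H8.Ore.JBound.two D.F hx with h | h <;> rw [h]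
      norm_num)
    rw [h5] at h2
    omega
  · exact absurd hyw (fun h => Cfsg.Agent.H868.Ore.Co1.no_w_five h5 hf h)
  · have h2 := third (odd_mem_L ho hyw)
    have h3 := H8.Ore.CoOneB.bound_5B h5 hf
    omega

end Cfsg.Agent.H868.QS.Outer
end

-- part: H480/QS/BThreeB
section
prune_inst 0xe0301625082212000004001460003ce3da000002006b880151840c0004c6dc4000008620c8a00c1a1002a00400340048130000304000000000840400011d00a098a252002240a19526000f80300e190c00200000000000000000000000041004010000000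
set_option linter.all false
open scoped Cfsg.Agent.FastGrp

-- part: H480/QS/BThree
section
/-!
# 2.B over the class 3A (helper480; piece P7 of the row 2.B of S2491, S2492)

`x` of order three in `C(t₀)`, `FiType t₀ x`; `C(x, t₀) ≥ ⟨x⟩ × K`, `K ≅ 2.Fi22`, `t₀ ∈ K`.

* `comm_z` : `a b` is a commutator of `C(a, b)` in `Fi24'` (octad and triple transitivity);
* `all_KK` : every element of `K` is a commutator in `K`, if every noncentral element of `2.Fi22` is;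
* `three_A_cover` : for a 2-element `u` of `C(x, t₀)` : `u x` is a commutator in `C(t₀)` or its image has a centralizer of order
  at most `7357464576`.
-/

set_option autoImplicit false
set_option maxRecDepth 100000

namespace Cfsg.Agent.H480.QS

open Cfsg Cfsg.Agent.H849.ThreeNorm Cfsg.Agent.H480.Ore
open Cfsg.Agent.R08 Cfsg.Agent.R08.FiTwentyFour Cfsg.Agent.R08.TetFi24A
open Cfsg.Spor (Fi24)
open Cfsg.Agent.H777.Ore (IsC AllC)
open Cfsg.Agent.H6.QO (RowN NC)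
open Cfsg.Agent.H51.Mult (PCE)
open Subgroup (centralizer mem_centralizer_singleton_iff zpowers center)

/-! ### `a b` is a commutator -/

theorem comm_z {a b : Fi24} (P : At a b) : ∃ u v : Cab a b, u * v * u⁻¹ * v⁻¹ = P.z := by
  obtain ⟨a0, b0, c0, -, ht, -⟩ := Cfsg.Agent.R01.Strong.tFacts.four
  obtain ⟨c, Hc, rfl⟩ := P.exists_x ht.mx
  obtain ⟨d, Hd, rfl⟩ := P.exists_x ht.my
  obtain ⟨e, He, rfl⟩ := P.exists_x ht.mw
  have cd := (P.comm_iff _ _).1 ht.cxy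
  have ce := (P.comm_iff _ _).1 ht.cxw
  have de := (P.comm_iff _ _).1 ht.cyw
  have ncd := P.ne_of ht.xy
  have nce := P.ne_of ht.xw
  have nde := P.ne_of ht.yw
  obtain ⟨u, v, w, hx⟩ := Cfsg.Agent.R01.Strong.tFacts.hex _ _ _ ht
  obtain ⟨f, Hf, rfl⟩ := P.exists_x hx.t'.mx
  obtain ⟨g, Hg, rfl⟩ := P.exists_x hx.t'.my
  obtain ⟨h, Hh, rfl⟩ := P.exists_x hx.t'.mw
  have fg := (P.comm_iff _ _).1 hx.t'.cxy
  have fh := (P.comm_iff _ _).1 hx.t'.cxw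
  have gh := (P.comm_iff _ _).1 hx.t'.cyw
  have cf := (P.comm_iff _ _).1 hx.caa
  have cg := (P.comm_iff _ _).1 hx.cab
  have ch := (P.comm_iff _ _).1 hx.cac
  have df := (P.comm_iff _ _).1 hx.cba
  have dg := (P.comm_iff _ _).1 hx.cbb
  have dh := (P.comm_iff _ _).1 hx.cbc
  have ef := (P.comm_iff _ _).1 hx.cca
  have eg := (P.comm_iff _ _).1 hx.ccb
  have eh := (P.comm_iff _ _).1 hx.ccc
  have nfg := P.ne_of hx.t'.xy
  have nfh := P.ne_of hx.t'.xw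
  have ngh := P.ne_of hx.t'.yw
  have ncf := P.ne_of hx.aa
  have ncg := P.ne_of hx.ab
  have nch := P.ne_of hx.ac
  have ndf := P.ne_of hx.ba
  have ndg := P.ne_of hx.bb
  have ndh := P.ne_of hx.bc
  have nef := P.ne_of hx.ca
  have neg := P.ne_of hx.cb
  have neh := P.ne_of hx.cc
  have hprod : ((P.x Hc * P.x Hd * (P.x He * P.x Hf) * (P.x Hg * P.x Hh) : Cab a b) : Fi24) =
      c * d * (e * f) * (g * h) := by
    rw [Subgroup.coe_mul, Subgroup.coe_mul, P.x_mul, P.x_mul, P.x_mul]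
  have h1 : P.π (P.x Hc * P.x Hd * (P.x He * P.x Hf) * (P.x Hg * P.x Hh)) = 1 := by
    rw [← hx.prod]
    simp only [map_mul, mul_assoc]
  have hz : P.x Hc * P.x Hd * (P.x He * P.x Hf) * (P.x Hg * P.x Hh) = P.z := by
    rcases (P.lift.ext.ker _).1 h1 with h2 | h2
    · exfalso
      have h3 : c * d * (e * f) * (g * h) = 1 := by rw [← hprod, h2]; rfl
      apply TetFi24A.six Hc.hc Hd.hc He.hc Hf.hc Hg.hc Hh.hc ncd nce nde nfg nfh ngh ncf ncg nch ndf ndg ndh nef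
        neg neh cd ce de fg fh gh cf cg ch df dg dh ef eg eh
      have h4 : f * g * h * (f * g * h) = 1 := by
        have e1 : f * g * h = h * (f * g) := (fh.mul_left gh).eq
        calc f * g * h * (f * g * h) = f * g * (h * h) * (f * g) := by
              conv_lhs => rw [show f * g * h * (f * g * h) = f * g * h * (h * (f * g)) by rw [← e1]]
              group
          _ = f * g * (f * g) := by rw [sq Hh.hc, mul_one]
          _ = f * g * (g * f) := by rw [fg.eq]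
          _ = f * (g * g) * f := by group
          _ = 1 := by rw [sq Hg.hc, mul_one, sq Hf.hc]
      apply mul_right_cancel (b := f * g * h)
      rw [h4, ← h3]
      group
    · exact h2
  obtain ⟨y, hy1, hy2, hy3⟩ := Cfsg.Agent.R01.Strong.tFacts.tri _ _ _ _ _ _ ht hx.t'
  obtain ⟨n, rfl⟩ := P.lift.ext.surj y
  have k1 := Cfsg.Agent.H827.Trans.conj_x P n Hc Hf hy1
  have k2 := Cfsg.Agent.H827.Trans.conj_x P n Hd Hg hy2
  have k3 := Cfsg.Agent.H827.Trans.conj_x P n He Hh hy3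
  obtain ⟨-, n1, n2⟩ := mem_Cab.1 n.2
  have na : (n : Fi24) * a * (n : Fi24)⁻¹ = a := mul_inv_eq_iff_eq_mul.2 n1
  refine ⟨P.x Hc * P.x Hd * P.x He, n, ?_⟩
  apply Subtype.ext
  have hz' : c * d * (e * f) * (g * h) = a * b := by rw [← hprod, hz, P.hz]
  rw [P.hz]
  simp only [Subgroup.coe_mul, Subgroup.coe_inv, P.coe_x]
  have ac : Commute a c := Hc.ca.symm
  have ad : Commute a d := Hd.ca.symm
  have ae : Commute a e := He.ca.symm
  have af : Commute a f := Hf.ca.symm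
  have ag : Commute a g := Hg.ca.symm
  have ah : Commute a h := Hh.ca.symm
  have aa : a * a = 1 := P.aa
  have X : a * c * (a * d) * (a * e) = a * (c * d * e) := by
    calc a * c * (a * d) * (a * e) = a * (c * a) * (d * a) * e := by group
      _ = a * (a * c) * (a * d) * e := by rw [ac.eq, ad.eq]
      _ = (a * a) * (c * a) * d * e := by group
      _ = (a * a) * (a * c) * d * e := by rw [ac.eq]
      _ = a * (c * d * e) := by rw [aa]; group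
  have Y : (n : Fi24) * (a * (c * d * e))⁻¹ * (n : Fi24)⁻¹ = (f * g * h)⁻¹ * a := by
    have e1 : (n : Fi24) * (a * (c * d * e)) * (n : Fi24)⁻¹ = a * (f * g * h) := by
      calc (n : Fi24) * (a * (c * d * e)) * (n : Fi24)⁻¹ = ((n : Fi24) * a * (n : Fi24)⁻¹) *
            (((n : Fi24) * c * (n : Fi24)⁻¹) * ((n : Fi24) * d * (n : Fi24)⁻¹) * ((n : Fi24) * e * (n : Fi24)⁻¹)) := by
            group
        _ = _ := by rw [na, k1, k2, k3]
    have e2 : (n : Fi24) * (a * (c * d * e))⁻¹ * (n : Fi24)⁻¹ = ((n : Fi24) * (a * (c * d * e)) * (n : Fi24)⁻¹)⁻¹ := by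
      group
    rw [e2, e1, mul_inv_rev]
    congr 1
    exact inv_eq_of_mul_eq_one_left aa
  have Z : (f * g * h)⁻¹ = f * g * h := by
    apply inv_eq_of_mul_eq_one_left
    have e1 : f * g * h = h * (f * g) := (fh.mul_left gh).eq
    calc f * g * h * (f * g * h) = f * g * h * (h * (f * g)) := by rw [← e1]
      _ = f * g * (h * h) * (f * g) := by group
      _ = f * g * (f * g) := by rw [sq Hh.hc, mul_one]
      _ = f * g * (g * f) := by rw [fg.eq]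
      _ = f * (g * g) * f := by group
      _ = 1 := by rw [sq Hg.hc, mul_one, sq Hf.hc]
  have W : Commute a (c * d * e * (f * g * h)) :=
    ((ac.mul_right ad).mul_right ae).mul_right ((af.mul_right ag).mul_right ah)
  rw [X]
  calc a * (c * d * e) * (n : Fi24) * (a * (c * d * e))⁻¹ * (n : Fi24)⁻¹
        = a * (c * d * e) * ((n : Fi24) * (a * (c * d * e))⁻¹ * (n : Fi24)⁻¹) := by group
    _ = a * (c * d * e * (f * g * h)) * a := by rw [Y, Z]; group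
    _ = (c * d * e * (f * g * h)) * (a * a) := by rw [W.eq]; group
    _ = c * d * (e * f) * (g * h) := by rw [aa]; group
    _ = a * b := hz'

private theorem b3_emk_mul {C L : Type*} [Group C] [Group L] {Z : Subgroup C} [Z.Normal] (e : C ⧸ Z ≃* L) (u x : C) :
    e (QuotientGroup.mk (u * x)) = e (QuotientGroup.mk u) * e (QuotientGroup.mk x) :=
  e.map_mul (QuotientGroup.mk u) (QuotientGroup.mk x)

private theorem b3_emk_pow {C L : Type*} [Group C] [Group L] {Z : Subgroup C} [Z.Normal] (e : C ⧸ Z ≃* L) {u : C}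
    {m : ℕ} (h : u ^ m = 1) : e (QuotientGroup.mk u) ^ m = 1 := by
  rw [← map_pow, ← QuotientGroup.mk_pow, h, QuotientGroup.mk_one, map_one]

private theorem b3_emk_comm {C L : Type*} [Group C] [Group L] {Z : Subgroup C} [Z.Normal] (e : C ⧸ Z ≃* L) {u x : C}
    (h : u * x = x * u) :
    e (QuotientGroup.mk u) * e (QuotientGroup.mk x) = e (QuotientGroup.mk x) * e (QuotientGroup.mk u) := by
  rw [← b3_emk_mul, ← b3_emk_mul, h]

private theorem b3_map_comm {A B : Type*} [Group A] [Group B] (f : A →* B) (u v : A) :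
    f (u * v * u⁻¹ * v⁻¹) = f u * f v * (f u)⁻¹ * (f v)⁻¹ := by
  rw [f.map_mul, f.map_mul, f.map_mul, f.map_inv, f.map_inv]

section abs

variable {G : Type*} [Group G] {x r : G} {π : centralizer ({x} : Set G) →* ↥(_root_.commutator Fi24)}
  (D : Data x r π)
include D

theorem exists_K' [Finite G] {t : G} (htx : t * x = x * t) (htt : t * t = 1) {a b : Fi24} (P : TetFi24A.At a b)
    (hτ : (π ⟨t, mem_centralizer_singleton_iff.2 htx⟩ : Fi24) = a * b) :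
    ∃ (i : G) (κ : ↥(KK x i t) →* ↥(Cab a b)), i * i = 1 ∧ i * x * i⁻¹ = x⁻¹ ∧ i * t = t * i ∧ Function.Bijective κ ∧
      (∀ k : ↥(KK x i t), (κ k : Fi24) = π ⟨k, mem_centralizer_singleton_iff.2 (mem_KK.1 k.2).1⟩) ∧
      (∀ k, P.π (κ k) = 1 ↔ (k : G) = 1 ∨ (k : G) = t) ∧
      (∀ c d : G, c * x = x * c → c * t = t * c → d * x = x * d → d * t = t * d →
        (¬ ∃ (m : ℤ) (k : ↥(KK x i t)), c = x ^ m * k) → (¬ ∃ (m : ℤ) (k : ↥(KK x i t)), d = x ^ m * k) →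
        ∃ (m : ℤ) (k : ↥(KK x i t)), c * d = x ^ m * k) ∧
      (∀ c : G, c * x = x * c → c * t = t * c → (∀ k : ↥(KK x i t), c * k * c⁻¹ = k ∨ c * k * c⁻¹ = t * k) →
        ∃ (m : ℤ) (k : ↥(KK x i t)), c = x ^ m * k) := by
  obtain ⟨n, hn⟩ := (au_surj D).1 (MulAut.conjNormal b)
  obtain ⟨hii, hix⟩ := inv_of_au D P.hb hn
  -- `i` commutes with `t`
  have htN : t ∈ N x := cent_le (mem_centralizer_singleton_iff.2 htx)
  have hau : D.auHom (⟨t, htN⟩ * n) = MulAut.conjNormal a := by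
    rw [map_mul, hn, au_of_mem D ⟨t, htN⟩ (mem_centralizer_singleton_iff.2 htx), hτ, ← map_mul, mul_assoc, sq P.hb,
      mul_one]
  obtain ⟨hti, -⟩ := inv_of_au D P.ha hau
  have hti' : t * (n : G) * (t * n) = 1 := hti
  obtain ⟨i, hi⟩ : ∃ i : G, i = n := ⟨_, rfl⟩
  rw [← hi] at hii hix hti'
  have hiinv : i⁻¹ = i := inv_eq_of_mul_eq_one_left hii
  have htinv : t⁻¹ = t := inv_eq_of_mul_eq_one_left htt
  have hit : i * t = t * i := by
    have h1 : t * i = (t * i)⁻¹ := eq_inv_of_mul_eq_one_left hti'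
    rw [h1, mul_inv_rev, hiinv, htinv]
  have h3k : ∀ k : ℤ, x ^ (3 * k) = 1 := fun k => by
    rw [zpow_mul, show ((3 : ℤ)) = ((3 : ℕ) : ℤ) by norm_num, zpow_natCast, ← D.ord, pow_orderOf_eq_one, one_zpow]
  -- the map `C(x) → Fi24`
  have hcj : ∀ (g : G) (hg : g * x = x * g), ∃ hg' : (i * g * i⁻¹) * x = x * (i * g * i⁻¹),
      (π ⟨i * g * i⁻¹, mem_centralizer_singleton_iff.2 hg'⟩ : Fi24) =
        b * π ⟨g, mem_centralizer_singleton_iff.2 hg⟩ * b⁻¹ := by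
    intro g hg
    have h1 := (cj D.ord n ⟨g, mem_centralizer_singleton_iff.2 hg⟩).2
    have h2 : D.au n (π ⟨g, mem_centralizer_singleton_iff.2 hg⟩) = _ := D.au_apply n _
    have h3 : D.au n = MulAut.conjNormal b := hn
    rw [h3] at h2
    have h4 := congrArg Subtype.val h2
    rw [MulAut.conjNormal_apply] at h4
    subst hi
    exact ⟨mem_centralizer_singleton_iff.1 h1, h4.symm⟩
  have hker : ∀ (g : G) (hg : g * x = x * g), (π ⟨g, mem_centralizer_singleton_iff.2 hg⟩ : Fi24) = 1 ↔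
      ∃ m : ℤ, g = x ^ m := by
    intro g hg
    have h1 := D.ker ⟨g, mem_centralizer_singleton_iff.2 hg⟩
    constructor
    · intro h2
      obtain ⟨m, hm⟩ := Subgroup.mem_zpowers_iff.1 (h1.1 (Subtype.ext h2))
      exact ⟨m, hm.symm⟩
    · rintro ⟨m, hm⟩
      exact congrArg Subtype.val (h1.2 (Subgroup.mem_zpowers_iff.2 ⟨m, hm.symm⟩))
  have hmul : ∀ (g h : G) (hg : g * x = x * g) (hh : h * x = x * h) (hgh : g * h * x = x * (g * h)),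
      (π ⟨g * h, mem_centralizer_singleton_iff.2 hgh⟩ : Fi24) =
        (π ⟨g, mem_centralizer_singleton_iff.2 hg⟩ : Fi24) * π ⟨h, mem_centralizer_singleton_iff.2 hh⟩ := by
    intro g h hg hh hgh
    have h1 : (⟨g * h, mem_centralizer_singleton_iff.2 hgh⟩ : centralizer ({x} : Set G)) =
        ⟨g, mem_centralizer_singleton_iff.2 hg⟩ * ⟨h, mem_centralizer_singleton_iff.2 hh⟩ := rfl
    rw [h1, π.map_mul]
    rfl
  have hinv : ∀ (g : G) (hg : g * x = x * g) (hg' : g⁻¹ * x = x * g⁻¹),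
      (π ⟨g⁻¹, mem_centralizer_singleton_iff.2 hg'⟩ : Fi24) =
        (π ⟨g, mem_centralizer_singleton_iff.2 hg⟩ : Fi24)⁻¹ := by
    intro g hg hg'
    have h1 : (⟨g⁻¹, mem_centralizer_singleton_iff.2 hg'⟩ : centralizer ({x} : Set G)) =
        ⟨g, mem_centralizer_singleton_iff.2 hg⟩⁻¹ := rfl
    rw [h1, π.map_inv]
    rfl
  -- `g` commutes with `x`, `g'` has the same image: `g = x ^ m * g'`
  have hsame : ∀ (g g' : G) (hg : g * x = x * g) (hg' : g' * x = x * g'),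
      (π ⟨g, mem_centralizer_singleton_iff.2 hg⟩ : Fi24) = π ⟨g', mem_centralizer_singleton_iff.2 hg'⟩ →
        ∃ m : ℤ, g = x ^ m * g' := by
    intro g g' hg hg' h
    have h1 : g'⁻¹ * x = x * g'⁻¹ := (show Commute g' x from hg').inv_left
    have h2 : g * g'⁻¹ * x = x * (g * g'⁻¹) := by rw [mul_assoc, h1, ← mul_assoc, hg, mul_assoc]
    obtain ⟨m, hm⟩ := (hker (g * g'⁻¹) h2).1 (by rw [hmul g g'⁻¹ hg h1 h2, hinv g' hg' h1, h, mul_inv_cancel])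
    exact ⟨m, by rw [← hm, inv_mul_cancel_right]⟩
  have hxi : ∀ m : ℤ, i * x ^ m * i⁻¹ = (x ^ m)⁻¹ := fun m => by rw [← conj_zpow, hix, inv_zpow]
  have hxt : ∀ m : ℤ, t * x ^ m = x ^ m * t := fun m => (show Commute t x from htx).zpow_right m
  have hxx : ∀ m : ℤ, x ^ m * x = x * x ^ m := fun m => (Commute.refl x).zpow_left m
  -- commuting with `t`
  have hct : ∀ (g : G) (hg : g * x = x * g),
      (π ⟨g, mem_centralizer_singleton_iff.2 hg⟩ : Fi24) * (a * b) =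
        a * b * π ⟨g, mem_centralizer_singleton_iff.2 hg⟩ → g * t = t * g := by
    intro g hg h
    have h1 : g * t * x = x * (g * t) := by rw [mul_assoc, htx, ← mul_assoc, hg, mul_assoc]
    have h2 : t * g * x = x * (t * g) := by rw [mul_assoc, hg, ← mul_assoc, htx, mul_assoc]
    obtain ⟨m, hm⟩ := hsame (g * t) (t * g) h1 h2 (by rw [hmul g t hg htx h1, hmul t g htx hg h2, hτ, h])
    have h3 : x ^ m = (x ^ m)⁻¹ := by
      have h4 : (x ^ m * t) * (x ^ m * t) = 1 := by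
        have h5 : x ^ m * t = g * t * g⁻¹ := by rw [hm]; group
        rw [h5]
        calc g * t * g⁻¹ * (g * t * g⁻¹) = g * (t * t) * g⁻¹ := by group
          _ = 1 := by rw [htt]; group
      have h5 : x ^ m * x ^ m = 1 := by
        calc x ^ m * x ^ m = x ^ m * x ^ m * (t * t) := by rw [htt, mul_one]
          _ = x ^ m * (x ^ m * t) * t := by group
          _ = x ^ m * (t * x ^ m) * t := by rw [hxt]
          _ = (x ^ m * t) * (x ^ m * t) := by group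
          _ = 1 := h4
      exact eq_inv_of_mul_eq_one_left h5
    rw [hm, zpow_eq_one D h3, one_mul]
  -- elements of `K`
  have hKab : ∀ (k : G) (hk : k ∈ KK x i t), (π ⟨k, mem_centralizer_singleton_iff.2 (mem_KK.1 hk).1⟩ : Fi24) ∈
      Cab a b := by
    intro k hk
    obtain ⟨h1, h2, h3⟩ := mem_KK.1 hk
    rw [mem_Cab]
    have hb : (π ⟨k, mem_centralizer_singleton_iff.2 h1⟩ : Fi24) * b =
        b * π ⟨k, mem_centralizer_singleton_iff.2 h1⟩ := by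
      obtain ⟨h4, h5⟩ := hcj k h1
      have h6 : i * k * i⁻¹ = k := by rw [← h2]; group
      have h7 : (⟨i * k * i⁻¹, mem_centralizer_singleton_iff.2 h4⟩ : centralizer ({x} : Set G)) =
          ⟨k, mem_centralizer_singleton_iff.2 h1⟩ := Subtype.ext h6
      rw [h7] at h5
      exact eq_mul_inv_iff_mul_eq.1 h5
    have hab : (π ⟨k, mem_centralizer_singleton_iff.2 h1⟩ : Fi24) * (a * b) =
        a * b * π ⟨k, mem_centralizer_singleton_iff.2 h1⟩ := by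
      have h4 : k * t * x = x * (k * t) := by rw [mul_assoc, htx, ← mul_assoc, h1, mul_assoc]
      have h5 := hmul k t h1 htx h4
      have h6 := hmul t k htx h1 (by rw [← h3]; exact h4)
      have h7 : (⟨k * t, mem_centralizer_singleton_iff.2 h4⟩ : centralizer ({x} : Set G)) =
          ⟨t * k, mem_centralizer_singleton_iff.2 (by rw [← h3]; exact h4)⟩ := Subtype.ext h3
      rw [h7, h6, hτ] at h5
      exact h5.symm
    refine ⟨mem_commutator_iff.1 (π ⟨k, mem_centralizer_singleton_iff.2 h1⟩).2, ?_, hb⟩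
    have h4 : (π ⟨k, mem_centralizer_singleton_iff.2 h1⟩ : Fi24) * a * b =
        a * π ⟨k, mem_centralizer_singleton_iff.2 h1⟩ * b := by
      rw [mul_assoc, hab, mul_assoc, mul_assoc, hb]
    exact mul_right_cancel h4
  -- lifting elements of `Cab`
  have hlift : ∀ y ∈ Cab a b, ∃ (k : G) (hk : k ∈ KK x i t),
      (π ⟨k, mem_centralizer_singleton_iff.2 (mem_KK.1 hk).1⟩ : Fi24) = y := by
    intro y hy
    obtain ⟨hy1, hya, hyb⟩ := mem_Cab.1 hy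
    obtain ⟨⟨g, hgm⟩, hg⟩ := D.surj ⟨y, mem_commutator_iff.2 hy1⟩
    have hgx := mem_centralizer_singleton_iff.1 hgm
    have hgy : (π ⟨g, mem_centralizer_singleton_iff.2 hgx⟩ : Fi24) = y := congrArg Subtype.val hg
    obtain ⟨h4, h5⟩ := hcj g hgx
    rw [hgy, ← hyb, mul_inv_cancel_right] at h5
    obtain ⟨m, hm⟩ := hsame _ g h4 hgx (by rw [h5, hgy])
    have hxg : ∀ l : ℤ, g * x ^ l = x ^ l * g := fun l => (show Commute g x from hgx).zpow_right l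
    have hkx : x ^ (2 * m) * g * x = x * (x ^ (2 * m) * g) := by
      rw [mul_assoc, hgx, ← mul_assoc, hxx, mul_assoc]
    have hky : (π ⟨x ^ (2 * m) * g, mem_centralizer_singleton_iff.2 hkx⟩ : Fi24) = y := by
      rw [hmul _ g (hxx _) hgx hkx, (hker _ (hxx _)).2 ⟨_, rfl⟩, one_mul, hgy]
    have hki : x ^ (2 * m) * g * i = i * (x ^ (2 * m) * g) := by
      have h6 : i * (x ^ (2 * m) * g) * i⁻¹ = x ^ (2 * m) * g := by
        calc i * (x ^ (2 * m) * g) * i⁻¹ = (i * x ^ (2 * m) * i⁻¹) * (i * g * i⁻¹) := by group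
          _ = (x ^ (2 * m))⁻¹ * (x ^ m * g) := by rw [hxi, hm]
          _ = x ^ (2 * m) * (x ^ (3 * (-m)) * g) := by
            rw [← mul_assoc, ← mul_assoc, ← zpow_neg, ← zpow_add, ← zpow_add]
            congr 2
            ring
          _ = x ^ (2 * m) * g := by rw [h3k, one_mul]
      exact (mul_inv_eq_iff_eq_mul.1 h6).symm
    have hkt : x ^ (2 * m) * g * t = t * (x ^ (2 * m) * g) := by
      apply hct _ hkx
      rw [hky, ← mul_assoc, hya, mul_assoc, hyb, ← mul_assoc]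
    exact ⟨x ^ (2 * m) * g, mem_KK.2 ⟨hkx, hki, hkt⟩, hky⟩
  let κ : ↥(KK x i t) →* ↥(Cab a b) :=
    { toFun := fun k => ⟨_, hKab k k.2⟩
      map_one' := Subtype.ext ((hker 1 (by rw [one_mul, mul_one])).2 ⟨0, (zpow_zero _).symm⟩)
      map_mul' := fun k l => Subtype.ext (hmul k l (mem_KK.1 k.2).1 (mem_KK.1 l.2).1 (mem_KK.1 (k * l).2).1) }
  have hκs : Function.Surjective κ := by
    rintro ⟨y, hy⟩
    obtain ⟨k, hk, h⟩ := hlift y hy
    exact ⟨⟨k, hk⟩, Subtype.ext h⟩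
  have hone : ∀ k : G, k * i = i * k → ∀ m : ℤ, k = x ^ m → k = 1 := by
    rintro _ hk m rfl
    apply zpow_eq_one D
    rw [← hxi m, ← hk]
    group
  -- the cover
  have hform : ∀ (c : G) (hc : c * x = x * c), (π ⟨c, mem_centralizer_singleton_iff.2 hc⟩ : Fi24) ∈ Cab a b →
      ∃ (m : ℤ) (k : ↥(KK x i t)), c = x ^ m * k := by
    intro c hc h
    obtain ⟨k, hk, h1⟩ := hlift _ h
    obtain ⟨m, hm⟩ := hsame c k hc (mem_KK.1 hk).1 h1.symm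
    exact ⟨m, ⟨k, hk⟩, hm⟩
  have hfs : ∀ (c : G) (hc : c * x = x * c), c * t = t * c →
      ((π ⟨c, mem_centralizer_singleton_iff.2 hc⟩ : Fi24) * a * (π ⟨c, mem_centralizer_singleton_iff.2 hc⟩ : Fi24)⁻¹ = a ∧
        (π ⟨c, mem_centralizer_singleton_iff.2 hc⟩ : Fi24) * b * (π ⟨c, mem_centralizer_singleton_iff.2 hc⟩ : Fi24)⁻¹ = b) ∨
      ((π ⟨c, mem_centralizer_singleton_iff.2 hc⟩ : Fi24) * a * (π ⟨c, mem_centralizer_singleton_iff.2 hc⟩ : Fi24)⁻¹ = b ∧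
        (π ⟨c, mem_centralizer_singleton_iff.2 hc⟩ : Fi24) * b * (π ⟨c, mem_centralizer_singleton_iff.2 hc⟩ : Fi24)⁻¹ = a) := by
    intro c hc hct'
    refine CTwoTab.FiTF.fix_or_swap P (t := π ⟨t, mem_centralizer_singleton_iff.2 htx⟩) hτ ?_
    rw [mem_centralizer_singleton_iff, ← π.map_mul, ← π.map_mul]
    exact congrArg π (Subtype.ext hct')
  have hκi : Function.Injective κ := by
    rw [injective_iff_map_eq_one]
    intro k hk
    obtain ⟨m, hm⟩ := (hker k (mem_KK.1 k.2).1).1 (congrArg Subtype.val hk)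
    exact Subtype.ext (hone k (mem_KK.1 k.2).2.1 m hm)
  refine ⟨i, κ, hii, hix, hit, ⟨hκi, hκs⟩, fun _ => rfl, ?_, ?_, ?_⟩
  · intro k
    obtain ⟨hkx, hki, hkt⟩ := mem_KK.1 k.2
    rw [P.lift.ext.ker]
    constructor
    · rintro (h | h)
      · left
        obtain ⟨m, hm⟩ := (hker k hkx).1 (congrArg Subtype.val h)
        exact hone k hki m hm
      · right
        have h1 : (π ⟨k, mem_centralizer_singleton_iff.2 hkx⟩ : Fi24) = π ⟨t, mem_centralizer_singleton_iff.2 htx⟩ := by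
          rw [hτ, ← P.hz]
          exact congrArg Subtype.val h
        obtain ⟨m, hm⟩ := hsame k t hkx htx h1
        have h2 : (k : G) * t⁻¹ = 1 := by
          refine hone _ ?_ m (by rw [hm, mul_inv_cancel_right])
          rw [htinv, mul_assoc, ← hit, ← mul_assoc, hki, mul_assoc]
        exact mul_inv_eq_one.1 h2
    · rintro (h | h)
      · left
        have : k = 1 := Subtype.ext h
        rw [this, map_one]
      · right
        apply Subtype.ext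
        rw [P.hz, ← hτ]
        show (π ⟨k, mem_centralizer_singleton_iff.2 hkx⟩ : Fi24) = _
        congr 2
        exact Subtype.ext h
  · intro c d hcx hct' hdx hdt hc hd
    have hcd : c * d * x = x * (c * d) := by rw [mul_assoc, hdx, ← mul_assoc, hcx, mul_assoc]
    apply hform _ hcd
    rw [mem_Cab]
    refine ⟨mem_commutator_iff.1 (π ⟨c * d, mem_centralizer_singleton_iff.2 hcd⟩).2, ?_⟩
    rw [hmul c d hcx hdx hcd]
    rcases hfs c hcx hct' with ⟨h1, h2⟩ | ⟨h1, h2⟩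
    · exact absurd (hform c hcx (mem_Cab.2 ⟨mem_commutator_iff.1 (π ⟨c, mem_centralizer_singleton_iff.2 hcx⟩).2,
        mul_inv_eq_iff_eq_mul.1 h1, mul_inv_eq_iff_eq_mul.1 h2⟩)) hc
    rcases hfs d hdx hdt with ⟨h3, h4⟩ | ⟨h3, h4⟩
    · exact absurd (hform d hdx (mem_Cab.2 ⟨mem_commutator_iff.1 (π ⟨d, mem_centralizer_singleton_iff.2 hdx⟩).2,
        mul_inv_eq_iff_eq_mul.1 h3, mul_inv_eq_iff_eq_mul.1 h4⟩)) hd
    rw [mul_inv_eq_iff_eq_mul] at h1 h2 h3 h4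
    constructor
    · rw [mul_assoc, h3, ← mul_assoc, h2, mul_assoc]
    · rw [mul_assoc, h4, ← mul_assoc, h1, mul_assoc]
  · intro c hcx hct' hk
    apply hform c hcx
    have h1 : ∀ y ∈ Cab a b, (π ⟨c, mem_centralizer_singleton_iff.2 hcx⟩ : Fi24) * y *
        (π ⟨c, mem_centralizer_singleton_iff.2 hcx⟩ : Fi24)⁻¹ = y ∨
        (π ⟨c, mem_centralizer_singleton_iff.2 hcx⟩ : Fi24) * y *
        (π ⟨c, mem_centralizer_singleton_iff.2 hcx⟩ : Fi24)⁻¹ = a * b * y := by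
      intro y hy
      obtain ⟨k, hkm, rfl⟩ := hlift y hy
      have hkx := (mem_KK.1 hkm).1
      have hci : c⁻¹ * x = x * c⁻¹ := (show Commute c x from hcx).inv_left
      have hck : c * k * x = x * (c * k) := by rw [mul_assoc, hkx, ← mul_assoc, hcx, mul_assoc]
      have hckc : c * k * c⁻¹ * x = x * (c * k * c⁻¹) := by rw [mul_assoc, hci, ← mul_assoc, hck, mul_assoc]
      rw [← hinv c hcx hci, ← hmul c k hcx hkx hck, ← hmul _ _ hck hci hckc]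
      rcases hk ⟨k, hkm⟩ with h | h
      · left
        congr 2
        exact Subtype.ext h
      · right
        have htk : t * k * x = x * (t * k) := by rw [mul_assoc, hkx, ← mul_assoc, htx, mul_assoc]
        rw [← hτ, ← hmul t k htx hkx htk]
        congr 2
        exact Subtype.ext h
    have h2 : ∀ y ∈ Cab a b, (π ⟨c, mem_centralizer_singleton_iff.2 hcx⟩ : Fi24) * y *
        (π ⟨c, mem_centralizer_singleton_iff.2 hcx⟩ : Fi24)⁻¹ = y := fun y hy => OddHalf.D4.Spor.FiTF.fix_all P h1 hy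
    rcases OddHalf.D4.Spor.FiTF.mem_of_fix P (π ⟨c, mem_centralizer_singleton_iff.2 hcx⟩).2 h2 with h3 | h3
    · rw [h3]
      exact Subgroup.one_mem _
    · rw [h3, ← P.hz]
      exact P.z.2

end abs

section frame

variable {G : Type*} [Group G] [Finite G] {t : G} {L : Type*} [Group L]

theorem exists_frame' (htt : t * t = 1) (ht1 : t ≠ 1) (h2 : Nat.card ↥(center ↥(centralizer ({t} : Set G))) = 2)
    (e : ↥(centralizer ({t} : Set G)) ⧸ center ↥(centralizer ({t} : Set G)) ≃* L) {x : ↥(centralizer ({t} : Set G))}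
    {r : G} {π : centralizer ({(x : G)} : Set G) →* ↥(_root_.commutator Fi24)} (D : Data (x : G) r π)
    (htx : t * x = x * t) {a b : Fi24} (P : TetFi24A.At a b)
    (hτ : (π ⟨t, mem_centralizer_singleton_iff.2 htx⟩ : Fi24) = a * b) :
    ∃ (i : G) (κ : ↥(KK (x : G) i t) →* ↥(Cab a b)) (F : FiFrame (e (QuotientGroup.mk x))), i * i = 1 ∧
      i * (x : G) * i⁻¹ = (x : G)⁻¹ ∧ i * t = t * i ∧ Function.Bijective κ ∧
      (∀ k : ↥(KK (x : G) i t), (κ k : Fi24) = π ⟨k, mem_centralizer_singleton_iff.2 (mem_KK.1 k.2).1⟩) ∧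
      (∀ c' : ↥(centralizer ({t} : Set G)), (∃ (m : ℤ) (k : ↥(KK (x : G) i t)), (c' : G) = (x : G) ^ m * k) ↔
        e (QuotientGroup.mk c') ∈ F.S) ∧
      (∀ k : ↥(KK (x : G) i t), F.j (P.π (κ k)) =
        e (QuotientGroup.mk ⟨(k : G), mem_centralizer_singleton_iff.2 (mem_KK.1 k.2).2.2⟩)) := by
  obtain ⟨i, κ, hii, hix, hit, hκ, hκπ, hpk', hcov, hout⟩ := exists_K' D htx htt P hτ
  let p : ↥(KK (x : G) i t) →* Spor.Fi22 := P.π.comp κ
  have hps : Function.Surjective p := P.lift.ext.surj.comp hκ.2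
  have hpk : ∀ k, p k = 1 ↔ (k : G) = 1 ∨ (k : G) = t := hpk'
  let C : Subgroup G := centralizer ({t} : Set G)
  let q0 : C →* L := e.toMonoidHom.comp (QuotientGroup.mk' (center ↥(centralizer ({t} : Set G))))
  have hq0s : Function.Surjective q0 := e.surjective.comp (QuotientGroup.mk'_surjective _)
  have hq0k : ∀ c : C, q0 c = 1 ↔ (c : G) = 1 ∨ (c : G) = t := by
    intro c
    rw [← center_cases ht1 h2, ← QuotientGroup.eq_one_iff]
    show e _ = 1 ↔ _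
    rw [map_eq_one_iff e e.injective]
    rfl
  let ι : ↥(KK (x : G) i t) →* C :=
    { toFun := fun k => ⟨k, mem_centralizer_singleton_iff.2 (mem_KK.1 k.2).2.2⟩
      map_one' := rfl
      map_mul' := fun _ _ => rfl }
  let q : ↥(KK (x : G) i t) →* L := q0.comp ι
  have hqp : ∀ k, q k = 1 ↔ p k = 1 := by
    intro k
    rw [hpk]
    exact hq0k (ι k)
  let j : Spor.Fi22 →* L := p.liftOfSurjective hps ⟨q, fun k hk => (hqp k).2 hk⟩
  have hj : ∀ k, j (p k) = q k := fun k =>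
    MonoidHom.liftOfRightInverse_comp_apply p _ _ ⟨q, fun k hk => (hqp k).2 hk⟩ k
  have hsx : e (QuotientGroup.mk x) = q0 x := rfl
  have hx3 : x ^ 3 = 1 := by
    apply Subtype.ext
    show (x : G) ^ 3 = 1
    rw [← D.ord, pow_orderOf_eq_one]
  -- lifting elements commuting with `s`
  have hlift : ∀ c : L, c * e (QuotientGroup.mk x) = e (QuotientGroup.mk x) * c → ∃ c' : C, q0 c' = c ∧
      (c' : G) * x = x * c' := by
    intro c hc
    obtain ⟨c', rfl⟩ := hq0s c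
    refine ⟨c', rfl, ?_⟩
    have h3 : (QuotientGroup.mk x : C ⧸ center ↥(centralizer ({t} : Set G))) * QuotientGroup.mk c' =
        QuotientGroup.mk c' * QuotientGroup.mk x := by
      apply e.injective
      rw [map_mul, map_mul]
      exact hc.symm
    have h4 := H979.CovLift.lift_comm (Z := center ↥(centralizer ({t} : Set G))) le_rfl h2 (by decide : Odd 3) hx3 h3
    exact (congrArg Subtype.val h4).symm
  have hform : ∀ c' : C, (∃ (m : ℤ) (k : ↥(KK (x : G) i t)), (c' : G) = (x : G) ^ m * k) ↔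
      ∃ (m : ℤ) (f : Spor.Fi22), q0 c' = (e (QuotientGroup.mk x)) ^ m * j f := by
    intro c'
    constructor
    · rintro ⟨m, k, h⟩
      refine ⟨m, p k, ?_⟩
      rw [hj]
      have h3 : c' = x ^ m * ι k := by
        apply Subtype.ext
        rw [Subgroup.coe_mul, Subgroup.coe_zpow]
        exact h
      rw [h3, map_mul, map_zpow]
      rfl
    · rintro ⟨m, f, h⟩
      obtain ⟨k, rfl⟩ := hps f
      rw [hj, hsx] at h
      have h3 : q0 (c' * (x ^ m * ι k)⁻¹) = 1 := by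
        rw [map_mul, map_inv, map_mul, map_zpow, h]
        exact mul_inv_cancel _
      have h4 : (c' : G) = ((c' * (x ^ m * ι k)⁻¹ : C) : G) * ((x : G) ^ m * k) := by
        have h5 : c' = (c' * (x ^ m * ι k)⁻¹) * (x ^ m * ι k) := (inv_mul_cancel_right _ _).symm
        have h6 : (c' : G) = ((c' * (x ^ m * ι k)⁻¹ : C) : G) * ((x ^ m * ι k : C) : G) := congrArg Subtype.val h5
        have h7 : ((x ^ m * ι k : C) : G) = (x : G) ^ m * k := by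
          rw [Subgroup.coe_mul, Subgroup.coe_zpow]
          rfl
        rwa [h7] at h6
      have htK : t ∈ KK (x : G) i t := mem_KK.2 ⟨htx, hit.symm, rfl⟩
      rcases (hq0k _).1 h3 with h5 | h5
      · rw [h5, one_mul] at h4
        exact ⟨m, k, h4⟩
      · rw [h5] at h4
        refine ⟨m, ⟨t, htK⟩ * k, ?_⟩
        rw [h4, Subgroup.coe_mul, ← mul_assoc, (show Commute t (x : G) from htx).zpow_right m, mul_assoc]
  have htx' : ∀ c' : C, (c' : G) * t = t * c' := fun c' => mem_centralizer_singleton_iff.1 c'.2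
  refine ⟨i, κ, ⟨j, ?_, ?_, q0 ⟨i, mem_centralizer_singleton_iff.2 hit⟩, ?_, ?_, ?_, ?_⟩, hii, hix, hit, hκ, hκπ, hform, hj⟩
  · rw [injective_iff_map_eq_one]
    intro f hf
    obtain ⟨k, rfl⟩ := hps f
    rw [hj] at hf
    exact (hqp k).1 hf
  · intro f
    obtain ⟨k, rfl⟩ := hps f
    rw [hj, hsx]
    show q0 (ι k) * q0 x = q0 x * q0 (ι k)
    rw [← map_mul, ← map_mul]
    congr 1
    exact Subtype.ext (mem_KK.1 k.2).1
  · rw [hsx, ← map_inv, ← map_mul, ← map_mul, ← map_inv]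
    congr 1
    exact Subtype.ext hix
  · intro f
    obtain ⟨k, rfl⟩ := hps f
    rw [hj]
    show q0 _ * q0 (ι k) = q0 (ι k) * q0 _
    rw [← map_mul, ← map_mul]
    congr 1
    exact Subtype.ext (mem_KK.1 k.2).2.1.symm
  · intro c d hc hd hcS hdS
    obtain ⟨c', rfl, hc'⟩ := hlift c hc
    obtain ⟨d', rfl, hd'⟩ := hlift d hd
    rw [← map_mul]
    rw [← hform] at hcS hdS ⊢
    rw [Subgroup.coe_mul]
    exact hcov _ _ hc' (htx' c') hd' (htx' d') hcS hdS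
  · intro c hc hcj
    obtain ⟨c', rfl, hc'⟩ := hlift c hc
    rw [← hform]
    refine hout _ hc' (htx' c') fun k => ?_
    have h3 := hcj (p k)
    rw [hj] at h3
    have h4 : q0 (c' * ι k * c'⁻¹ * (ι k)⁻¹) = 1 := by
      rw [map_mul, map_mul, map_mul, map_inv, map_inv]
      have h5 : q0 c' * q0 (ι k) = q0 (ι k) * q0 c' := h3
      rw [h5]
      group
    have h5 : (c' : G) * k * (c' : G)⁻¹ = ((c' * ι k * c'⁻¹ * (ι k)⁻¹ : C) : G) * k := by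
      show _ = (c' : G) * k * (c' : G)⁻¹ * (k : G)⁻¹ * k
      group
    rcases (hq0k _).1 h4 with h6 | h6
    · left
      rw [h5, h6, one_mul]
    · right
      rw [h5, h6]


/-! ### The elements of `⟨x⟩ × K` -/

/-- every element of `2.Fi22` is a commutator -/
theorem all_Cab (hFi : RowN Spor.Fi22) {a b : Fi24} (P : At a b) [Finite ↥(Cab a b)] : AllC ↥(Cab a b) := by
  have hpce : PCE P.π := ⟨P.lift.ext.surj, CTwoTab.FiTF.ker_le P, FiTwentyFour.perfect P.ha P.hb P.ne P.ab⟩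
  intro g
  by_cases hg : g ∈ center ↥(Cab a b)
  · have h1 : P.π g = 1 := by
      apply Fi22Out.center_triv
      intro y
      obtain ⟨w, rfl⟩ := P.lift.ext.surj y
      rw [← map_mul, ← map_mul, (Subgroup.mem_center_iff.1 hg w)]
    rcases (P.lift.ext.ker _).1 h1 with h2 | h2
    · exact ⟨1, 1, by rw [h2]; group⟩
    · obtain ⟨u, v, huv⟩ := comm_z P
      exact ⟨u, v, by rw [h2, huv]⟩
  · exact hFi.any hpce g hg

/-- the elements of `⟨x⟩ × K` are commutators in `C(t)` -/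
theorem isC_mem (hFi : RowN Spor.Fi22) {x : ↥(centralizer ({t} : Set G))} (hx : orderOf x = 3) {i : G} {a b : Fi24}
    (P : At a b) (κ : ↥(KK (x : G) i t) →* ↥(Cab a b)) (hκ : Function.Bijective κ)
    (hix : i * (x : G) * i⁻¹ = (x : G)⁻¹) (hit : i * t = t * i) {c : ↥(centralizer ({t} : Set G))}
    (hc : ∃ (m : ℤ) (k : ↥(KK (x : G) i t)), (c : G) = (x : G) ^ m * k) : IsC c := by
  obtain ⟨m, k, hm⟩ := hc
  let ε : ↥(KK (x : G) i t) ≃* ↥(Cab a b) := MulEquiv.ofBijective κ hκ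
  have hfin : Finite ↥(Cab a b) := Finite.of_equiv _ ε.toEquiv
  obtain ⟨u', v', huv'⟩ := all_Cab hFi P (ε k)
  obtain ⟨u, rfl⟩ := ε.surjective u'
  obtain ⟨v, rfl⟩ := ε.surjective v'
  have huv : k = u * v * u⁻¹ * v⁻¹ := by
    exact ε.injective (huv'.trans (b3_map_comm ε.toMonoidHom u v).symm)
  let ι : ↥(KK (x : G) i t) →* ↥(centralizer ({t} : Set G)) :=
    { toFun := fun k => ⟨k, mem_centralizer_singleton_iff.2 (mem_KK.1 k.2).2.2⟩
      map_one' := rfl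
      map_mul' := fun _ _ => rfl }
  let i' : ↥(centralizer ({t} : Set G)) := ⟨i, mem_centralizer_singleton_iff.2 hit⟩
  have hix' : i' * x * i'⁻¹ = x⁻¹ := Subtype.ext hix
  have hιx : ∀ k, Commute (ι k) x := fun k => Subtype.ext (mem_KK.1 k.2).1
  have hιi : ∀ k, Commute (ι k) i' := fun k => Subtype.ext (mem_KK.1 k.2).2.1
  have hcm : c = ι k * x ^ m := by
    rw [((hιx k).zpow_right m).eq]
    apply Subtype.ext
    rw [Subgroup.coe_mul, Subgroup.coe_zpow]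
    exact hm
  have h3 : x ^ ((3 : ℤ) * m) = 1 := by
    rw [zpow_mul, show ((3 : ℤ)) = ((3 : ℕ) : ℤ) by norm_num, zpow_natCast, ← hx, pow_orderOf_eq_one, one_zpow]
  have h4 : x ^ m = i' * x ^ m * i'⁻¹ * (x ^ m)⁻¹ := by
    rw [← conj_zpow, hix']
    calc x ^ m = x ^ ((3 : ℤ) * m) * (x⁻¹ ^ m * (x ^ m)⁻¹) := by
          rw [inv_zpow, ← zpow_neg, ← zpow_add, ← zpow_add]
          congr 1
          ring
      _ = x⁻¹ ^ m * (x ^ m)⁻¹ := by rw [h3, one_mul]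
  rw [hcm]
  refine H777.Ore.isC_mul_of_commute (a := ι u) (b := ι v) (c := i') (d := x ^ m) ?_ h4 (hιi u)
    ((hιx u).zpow_right m) (hιi v) ((hιx v).zpow_right m)
  exact (congrArg ι huv).trans (b3_map_comm ι u v)

end frame

/-! ### The result -/

section result

open Cfsg.Agent.MonsterX Cfsg.Agent.LThree

variable {t₀ : ↥InstData.M.G} (hA : LThreeB.Row.TA t₀)
    (h2 : Nat.card ↥(center ↥(centralizer ({t₀} : Set ↥InstData.M.G))) = 2) {L : Type*} [Group L]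
    (e : ↥(centralizer ({t₀} : Set ↥InstData.M.G)) ⧸ center ↥(centralizer ({t₀} : Set ↥InstData.M.G)) ≃* L)
    {x : ↥(centralizer ({t₀} : Set ↥InstData.M.G))} (hx : orderOf x = 3)
    (h : H844.Ore.FiType t₀ (x : ↥InstData.M.G))
include hA h2 hx h

end result

end Cfsg.Agent.H480.QS
end

-- part: H480/QS/BThreeB
section
/-!
# 2.B over the class 3A: the outer 2-elements (helper480; piece P7 of the row 2.B of S2491, S2492)

* `outer_cases` : an outer automorphism of `Fi22` of 2-power order fixes a transposition or at most `53084160` elements;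
* `fused` : a 2-element `c` of `C(x, t₀)` interchanging `a`, `b` and fixing a transposition of `Fi22` is conjugate to `t₀ c` in
  `C(x, t₀)`;
* `three_A_cover2` : the final form of P7: `u x` is a commutator in `C(t₀)` or its image has a centralizer of order at most
  `318504960`.
-/

set_option autoImplicit false
set_option maxRecDepth 100000

namespace Cfsg.Agent.H480.QS

section fi22

open Subgroup Cfsg
open Cfsg.Agent.LThreeFi22 Cfsg.Agent.R01.FiFusion Cfsg.Agent.R01.FiFacts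
open Cfsg.Agent.H647.SpF.Fi22 (ctx0 orbit_le card_cent_tri)
open Cfsg.Agent.OddHalf.NI3.Ex.FiRow.Base (T kt exists_fixed)
open Cfsg.Agent.H480.Ore.Fi22Out (card_two center_triv)

/-- the number of elements commuting with an involution which is not a transposition -/
theorem card_invol' {w : Spor.Fi22} (hw : w * w = 1) (hw1 : w ≠ 1) (hwT : w ∉ T) :
    Nat.card ↥(centralizer ({w} : Set Spor.Fi22)) ≤ 53084160 := by
  have C := ctx0
  have := C.finite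
  have Fa := Cfsg.Agent.R08.AutT.tFacts
  rcases Cfsg.Agent.OddHalf.D4.Spor.Fi22.inv_cases hw hw1 with
    h1 | ⟨a, ha, b, hb, hab, cab, rfl⟩ | ⟨a, b, c, h1, rfl⟩
  · exact absurd h1 hwT
  · have key : ∀ g ∈ centralizer ({a * b} : Set Spor.Fi22), g * a * g⁻¹ ∈ ({a, b} : Set Spor.Fi22) := by
      intro g hg
      rcases C.cz a ha b hb hab cab g (mem_centralizer_singleton_iff.1 hg) with ⟨h, -⟩ | ⟨h, -⟩
      · exact Or.inl (mul_inv_eq_iff_eq_mul.2 h)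
      · exact Or.inr h
    obtain ⟨n, hn, hc⟩ := orbit_le (centralizer ({a * b} : Set Spor.Fi22)) a (N := 2)
      ((Set.ncard_insert_le _ _).trans (by rw [Set.ncard_singleton])) key
    have h2 : Nat.card ↥(centralizer ({a * b} : Set Spor.Fi22) ⊓ centralizer ({a} : Set Spor.Fi22)) ≤ 26542080 := by
      rw [← card_two ha hb hab cab]
      refine card_le_of_le ?_
      rintro g ⟨hg, hga⟩
      refine ⟨hga, mem_centralizer_singleton_iff.2 ?_⟩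
      have hg' := mem_centralizer_singleton_iff.1 hg
      have hga' := mem_centralizer_singleton_iff.1 hga
      have h3 : a * (g * b) = a * (b * g) := by
        rw [← mul_assoc, ← hga', mul_assoc, hg', mul_assoc]
      exact mul_left_cancel h3
    calc Nat.card ↥(centralizer ({a * b} : Set Spor.Fi22)) = n * _ := hc.symm
      _ ≤ 2 * 26542080 := Nat.mul_le_mul hn h2
      _ ≤ 53084160 := by norm_num
  · obtain ⟨a', b', c', H⟩ := Fa.hex a b c h1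
    -- the orbit of `a` under `C(w)` is contained in the hexad
    have key : ∀ g ∈ centralizer ({a * b * c} : Set Spor.Fi22),
        g * a * g⁻¹ ∈ ({a, b, c, a', b', c'} : Set Spor.Fi22) := by
      intro g hg
      have hg' := mem_centralizer_singleton_iff.1 hg
      by_contra hcon
      simp only [Set.mem_insert_iff, Set.mem_singleton_iff, not_or] at hcon
      obtain ⟨n1, n2, n3, n4, n5, n6⟩ := hcon
      have tri := fun (t : Spor.Fi22) (htT : t ∈ Cfsg.Agent.R08.AutT.T) =>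
        Cfsg.Agent.OddHalf.D4.Spor.Fi22.comm_tri Cfsg.Agent.StdFi22.MainFi22.bas h1 htT
      have aw : a * (a * b * c) = a * b * c * a := by
        calc a * (a * b * c) = a * (a * (b * c)) := by group
          _ = a * (a * (c * b)) := by rw [h1.cyw]
          _ = a * ((a * c) * b) := by group
          _ = a * ((c * a) * b) := by rw [h1.cxw]
          _ = (a * c) * (a * b) := by group
          _ = (a * c) * (b * a) := by rw [h1.cxy]
          _ = a * (c * b) * a := by group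
          _ = a * (b * c) * a := by rw [h1.cyw]
          _ = _ := by group
      have gc : g⁻¹ * (a * b * c) = a * b * c * g⁻¹ := by
        calc g⁻¹ * (a * b * c) = g⁻¹ * (a * b * c * g) * g⁻¹ := by group
          _ = g⁻¹ * (g * (a * b * c)) * g⁻¹ := by rw [hg']
          _ = _ := by group
      have xw : g * a * g⁻¹ * (a * b * c) = a * b * c * (g * a * g⁻¹) := by
        calc g * a * g⁻¹ * (a * b * c) = g * a * (g⁻¹ * (a * b * c)) := by group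
          _ = g * (a * (a * b * c)) * g⁻¹ := by rw [gc]; group
          _ = g * (a * b * c) * a * g⁻¹ := by rw [aw]; group
          _ = _ := by rw [hg']; group
      have xT : g * a * g⁻¹ ∈ Cfsg.Agent.R08.AutT.T := C.conj a h1.mx g
      obtain ⟨xa, xb, xc⟩ := tri _ xT xw
      obtain ⟨t, htT, ta, tb, tc, tn⟩ := Cfsg.Agent.OddHalf.D4.Spor.Fi22.exists_ncomm
        Cfsg.Agent.StdFi22.MainFi22.bas H xT xa xb xc n1 n2 n3 n4 n5 n6
      apply tn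
      have tw : t * (a * b * c) = a * b * c * t := by
        calc t * (a * b * c) = t * a * b * c := by group
          _ = a * (t * b) * c := by rw [ta]; group
          _ = a * b * (t * c) := by rw [tb]; group
          _ = _ := by rw [tc]; group
      have k1 : g⁻¹ * t * g ∈ Cfsg.Agent.R08.AutT.T := by
        have := C.conj t htT g⁻¹
        rwa [inv_inv] at this
      have k2 : g⁻¹ * t * g * (a * b * c) = a * b * c * (g⁻¹ * t * g) := by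
        calc g⁻¹ * t * g * (a * b * c) = g⁻¹ * t * (g * (a * b * c)) := by group
          _ = g⁻¹ * (t * (a * b * c)) * g := by rw [hg']; group
          _ = (g⁻¹ * (a * b * c)) * t * g := by rw [tw]; group
          _ = _ := by rw [gc]; group
      have k3 := (tri _ k1 k2).1
      calc t * (g * a * g⁻¹) = g * ((g⁻¹ * t * g) * a) * g⁻¹ := by group
        _ = g * (a * (g⁻¹ * t * g)) * g⁻¹ := by rw [k3]
        _ = _ := by group
    have h6 : ({a, b, c, a', b', c'} : Set Spor.Fi22).ncard ≤ 6 := by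
      refine (Set.ncard_insert_le _ _).trans (Nat.succ_le_succ ?_)
      refine (Set.ncard_insert_le _ _).trans (Nat.succ_le_succ ?_)
      refine (Set.ncard_insert_le _ _).trans (Nat.succ_le_succ ?_)
      refine (Set.ncard_insert_le _ _).trans (Nat.succ_le_succ ?_)
      refine (Set.ncard_insert_le _ _).trans (Nat.succ_le_succ ?_)
      rw [Set.ncard_singleton]
    obtain ⟨n, hn, hc⟩ := orbit_le (centralizer ({a * b * c} : Set Spor.Fi22)) a h6 key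
    -- the second step
    have key2 : ∀ g ∈ centralizer ({a * b * c} : Set Spor.Fi22) ⊓ centralizer ({a} : Set Spor.Fi22),
        g * b * g⁻¹ ∈ ({b, c} : Set Spor.Fi22) := by
      rintro g ⟨hg, hga⟩
      have hg' := mem_centralizer_singleton_iff.1 hg
      have hga' := mem_centralizer_singleton_iff.1 hga
      have h2 : g * (b * c) = b * c * g := by
        have h3 : a * (g * (b * c)) = a * (b * c * g) := by
          calc a * (g * (b * c)) = (g * a) * (b * c) := by rw [hga']; group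
            _ = g * (a * b * c) := by group
            _ = _ := by rw [hg']; group
        exact mul_left_cancel h3
      rcases C.cz b h1.my c h1.mw h1.yw h1.cyw g h2 with ⟨h, -⟩ | ⟨h, -⟩
      · exact Or.inl (mul_inv_eq_iff_eq_mul.2 h)
      · exact Or.inr h
    obtain ⟨n', hn', hc'⟩ := orbit_le (centralizer ({a * b * c} : Set Spor.Fi22) ⊓ centralizer ({a} : Set Spor.Fi22)) b
      (N := 2) ((Set.ncard_insert_le _ _).trans (by rw [Set.ncard_singleton])) key2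
    have hle : Nat.card ↥(centralizer ({a * b * c} : Set Spor.Fi22) ⊓ centralizer ({a} : Set Spor.Fi22) ⊓
        centralizer ({b} : Set Spor.Fi22)) ≤ 147456 := by
      rw [← card_cent_tri C Fa h1]
      refine card_le_of_le ?_
      rintro g ⟨⟨hg, hga⟩, hgb⟩
      refine ⟨⟨hga, hgb⟩, mem_centralizer_singleton_iff.2 ?_⟩
      have hg' := mem_centralizer_singleton_iff.1 hg
      have hga' := mem_centralizer_singleton_iff.1 hga
      have hgb' := mem_centralizer_singleton_iff.1 hgb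
      have h3 : a * b * (g * c) = a * b * (c * g) := by
        calc a * b * (g * c) = a * (b * g) * c := by group
          _ = (a * g) * b * c := by rw [← hgb']; group
          _ = g * (a * b * c) := by rw [← hga']; group
          _ = _ := by rw [hg']; group
      exact mul_left_cancel h3
    calc Nat.card ↥(centralizer ({a * b * c} : Set Spor.Fi22)) = n * (n' * _) := by rw [hc', hc]
      _ ≤ 6 * (2 * 147456) := Nat.mul_le_mul hn (Nat.mul_le_mul hn' hle)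
      _ ≤ 53084160 := by norm_num

/-- **Outer automorphisms of 2-power order.** -/
theorem outer_cases {α : MulAut Spor.Fi22} {k : ℕ} (hk : α ^ 2 ^ k = 1) (ho : ¬ ∃ g, α = MulAut.conj g) :
    (∃ f ∈ T, α f = f) ∨ Nat.card ↥(fixedSubgroup α) ≤ 53084160 := by
  have C := ctx0
  have hfin : Finite Spor.Fi22 := C.finite
  -- the largest `j` with `α ^ 2 ^ j ≠ 1`
  induction k with
  | zero =>
    exfalso
    rw [pow_zero, pow_one] at hk
    exact ho ⟨1, by rw [hk, map_one]⟩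
  | succ j ih =>
    by_cases h1 : α ^ 2 ^ j = 1
    · exact ih h1
    by_cases hj : j = 0
    · subst hj
      left
      refine exists_fixed ?_
      rw [← pow_two]
      exact hk
    -- the power is inner
    obtain ⟨i, rfl⟩ : ∃ i, j = i + 1 := ⟨j - 1, by omega⟩
    obtain ⟨g, hg⟩ : ∃ g : Spor.Fi22, α * α = MulAut.conj g :=
      Cfsg.Agent.OddHalf.Table.OutFi22.mul_outer α α (fun x hx => ho ⟨x, hx⟩) (fun x hx => ho ⟨x, hx⟩)
    obtain ⟨u, hu⟩ : ∃ u : Spor.Fi22, α ^ 2 ^ (i + 1) = MulAut.conj u := by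
      refine ⟨g ^ 2 ^ i, ?_⟩
      rw [map_pow, ← hg, ← pow_two, ← pow_mul, ← pow_succ']
    have hu1 : u ≠ 1 := by
      rintro rfl
      exact h1 (by rw [hu, map_one])
    have huu : u * u = 1 := by
      apply center_triv
      intro x
      have h2 : MulAut.conj (u * u) = (1 : MulAut Spor.Fi22) := by
        rw [map_mul, ← hu, ← pow_two, ← pow_mul, ← pow_succ]
        exact hk
      have h3 := DFunLike.congr_fun h2 x
      rw [MulAut.conj_apply] at h3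
      exact mul_inv_eq_iff_eq_mul.1 h3
    -- `α` fixes `u`
    have hαu : α u = u := by
      have h2 : α * MulAut.conj u = MulAut.conj u * α := by
        rw [← hu]
        exact (Commute.refl α).pow_right _
      have h5 : u⁻¹ * α u = 1 := by
        apply center_triv
        intro y
        obtain ⟨w, rfl⟩ := α.surjective y
        have h6 := DFunLike.congr_fun h2 w
        change α (u * w * u⁻¹) = u * α w * u⁻¹ at h6
        rw [map_mul, map_mul, map_inv] at h6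
        have h7 : α u * α w = u * α w * u⁻¹ * α u := by rw [← h6]; group
        calc u⁻¹ * α u * α w = u⁻¹ * (α u * α w) := by group
          _ = α w * (u⁻¹ * α u) := by rw [h7]; group
      calc α u = u * (u⁻¹ * α u) := by group
        _ = u := by rw [h5, mul_one]
    have hle : fixedSubgroup α ≤ centralizer ({u} : Set Spor.Fi22) := by
      intro x hx
      have hx' : α x = x := hx
      have h2 : ∀ n : ℕ, (α ^ n) x = x := by
        intro n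
        induction n with
        | zero => rfl
        | succ n ihn => rw [pow_succ, MulAut.mul_apply, hx', ihn]
      have h3 := h2 (2 ^ (i + 1))
      rw [hu, MulAut.conj_apply] at h3
      rw [mem_centralizer_singleton_iff]
      exact (mul_inv_eq_iff_eq_mul.1 h3).symm
    by_cases huT : u ∈ T
    · exact Or.inl ⟨u, huT, hαu⟩
    · exact Or.inr ((card_le_of_le hle).trans (card_invol' huu hu1 huT))

end fi22

section frameL

open Subgroup Cfsg Cfsg.Agent.H480.Ore Cfsg.Agent.H480.Ore.FiFrame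
open Cfsg.Agent.OddHalf.NI3.Ex.FiRow.Base (T)

namespace FrameL

variable {L : Type*} [Group L] {s : L} (D : FiFrame s) (hs : orderOf s = 3)
include D hs

theorem card_le_of [Finite L] {u : L} {n : ℕ} (hn : u ^ 2 ^ n = 1) (hus : u * s = s * u) {α : MulAut Spor.Fi22}
    (hα : ∀ f, D.j (α f) = u * D.j f * u⁻¹) {N : ℕ} (hfix : Nat.card ↥(fixedSubgroup α) ≤ N) :
    Nat.card ↥(centralizer ({u * s} : Set L)) ≤ 6 * N := by
  have hfin : Finite Spor.Fi22 := Finite.of_injective D.j D.inj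
  -- `C(u s) ≤ C(u) ⊓ C(s)`
  have hc : Commute u s := hus
  have hle : centralizer ({u * s} : Set L) ≤ centralizer ({u} : Set L) ⊓ centralizer ({s} : Set L) := by
    intro c hcc
    rw [mem_centralizer_singleton_iff] at hcc
    have h1 : Commute c (u * s) := hcc
    have h2 : Commute c ((u * s) ^ 2 ^ n) := h1.pow_right _
    rw [hc.mul_pow, hn, one_mul] at h2
    have h3 : Commute c s := by
      have h4 : (s ^ 2 ^ n) ^ 2 ^ n = s := by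
        rw [← pow_mul, ← pow_add, ← two_mul, pow_mul, show 2 ^ 2 = 3 * 1 + 1 by norm_num]
        clear h2 hn
        induction n with
        | zero => rw [pow_zero, pow_one]
        | succ n ih =>
          rw [pow_succ, pow_mul, ih, pow_succ, pow_mul, ← hs, pow_orderOf_eq_one, one_pow, one_mul]
      rw [← h4]
      exact h2.pow_right _
    refine ⟨mem_centralizer_singleton_iff.2 ?_, mem_centralizer_singleton_iff.2 h3.eq⟩
    have h4 : Commute c (u * s * s⁻¹) := h1.mul_right h3.inv_right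
    rwa [mul_inv_cancel_right] at h4
  set A : Subgroup L := centralizer ({u} : Set L) ⊓ centralizer ({s} : Set L) with hA
  refine (card_le_of_le hle).trans ?_
  -- the intersection with `S`
  have h1 : Nat.card ↥(A ⊓ D.S) ≤ 3 * N := by
    let φ : ↥(zpowers s) × ↥(fixedSubgroup α) → L := fun p => (p.1 : L) * D.j (p.2 : Spor.Fi22)
    have h2 : ((A ⊓ D.S : Subgroup L) : Set L) ⊆ Set.range φ := by
      rintro _ ⟨⟨hx1, hx2⟩, ⟨k, f, rfl⟩⟩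
      have hxu := mem_centralizer_singleton_iff.1 hx1
      have hku : u * s ^ k = s ^ k * u := (show Commute u s from hus).zpow_right k
      have hf : α f = f := by
        apply D.inj
        rw [hα]
        have h3 : s ^ k * (D.j f * u) = s ^ k * (u * D.j f) := by
          calc s ^ k * (D.j f * u) = s ^ k * D.j f * u := by group
            _ = u * (s ^ k * D.j f) := hxu
            _ = (u * s ^ k) * D.j f := by group
            _ = _ := by rw [hku]; group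
        rw [← mul_left_cancel h3, mul_inv_cancel_right]
      exact ⟨(⟨s ^ k, k, rfl⟩, ⟨f, hf⟩), rfl⟩
    have h3 : Nat.card ↥(A ⊓ D.S) ≤ Nat.card (Set.range φ) := by
      have := Set.Finite.to_subtype (Set.finite_range φ)
      exact Nat.card_mono (Set.finite_range φ) h2
    have h4 : Nat.card (Set.range φ) ≤ Nat.card (↥(zpowers s) × ↥(fixedSubgroup α)) :=
      Nat.card_le_card_of_surjective (Set.rangeFactorization φ) Set.rangeFactorization_surjective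
    rw [Nat.card_prod, Nat.card_zpowers, hs] at h4
    exact (h3.trans h4).trans (Nat.mul_le_mul_left _ hfix)
  -- the index is at most two
  have h2 : Nat.card A ≤ 2 * Nat.card ↥(A ⊓ D.S) := by
    have h3 := ((A ⊓ D.S).subgroupOf A).card_mul_index
    rw [Nat.card_congr (subgroupOfEquivOfLe (inf_le_left : A ⊓ D.S ≤ A)).toEquiv] at h3
    have h4 : ((A ⊓ D.S).subgroupOf A).index ≤ 2 := by
      by_cases h5 : A ≤ D.S
      · have h6 : (A ⊓ D.S).subgroupOf A = ⊤ := by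
          rw [subgroupOf_eq_top]
          exact le_inf le_rfl h5
        rw [h6, index_top]
        norm_num
      · obtain ⟨a, haA, haS⟩ := SetLike.not_le_iff_exists.1 h5
        have hm : ∀ b : A, b ∈ (A ⊓ D.S).subgroupOf A ↔ (b : L) ∈ D.S := by
          intro b
          rw [mem_subgroupOf, mem_inf]
          exact and_iff_right b.2
        have h6 : ((A ⊓ D.S).subgroupOf A).index = 2 := by
          rw [index_eq_two_iff]
          refine ⟨⟨a, haA⟩, fun b => ?_⟩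
          rw [hm, hm]
          by_cases hb : (b : L) ∈ D.S
          · right
            refine ⟨hb, fun h7 => haS ?_⟩
            have h8 := D.S.mul_mem (D.S.inv_mem hb) h7
            rwa [coe_mul, inv_mul_cancel_left] at h8
          · left
            refine ⟨?_, hb⟩
            exact D.cover' (mem_centralizer_singleton_iff.1 b.2.2) (mem_centralizer_singleton_iff.1 haA.2) hb haS
        rw [h6]
    rw [← h3, mul_comm]
    exact Nat.mul_le_mul_right _ h4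
  omega


/-- outer 2-elements: they fix a transposition or the centralizer is small -/
theorem outer_cases [Finite L] {u : L} {n : ℕ} (hn : u ^ 2 ^ n = 1) (hus : u * s = s * u) (huS : u ∉ D.S) :
    (∃ f ∈ T, u * D.j f * u⁻¹ = D.j f) ∨ Nat.card ↥(centralizer ({u * s} : Set L)) ≤ 318504960 := by
  have hfin : Finite Spor.Fi22 := Finite.of_injective D.j D.inj
  obtain ⟨α, hα⟩ := D.exists_aut hus huS
  have hpow : ∀ (m : ℕ) (f : Spor.Fi22), D.j ((α ^ m) f) = u ^ m * D.j f * (u ^ m)⁻¹ := by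
    intro m
    induction m with
    | zero => intro f; rw [pow_zero, pow_zero, one_mul, inv_one, mul_one]; rfl
    | succ m ih =>
      intro f
      rw [pow_succ', MulAut.mul_apply, hα, ih, pow_succ']
      group
  have hα1 : α ^ 2 ^ n = 1 := by
    ext f
    apply D.inj
    rw [hpow, hn, one_mul, inv_one, mul_one]
    rfl
  have hαo : ¬ ∃ g, α = MulAut.conj g := by
    rintro ⟨g, rfl⟩
    apply huS
    have h1 : (D.j g)⁻¹ * u ∈ D.S := by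
      refine D.out _ ?_ ?_
      · have h2 : (D.j g)⁻¹ * s = s * (D.j g)⁻¹ := (show Commute (D.j g) s from D.comm g).inv_left
        rw [mul_assoc, hus, ← mul_assoc, h2, mul_assoc]
      · intro f
        have h2 := hα f
        rw [MulAut.conj_apply, map_mul, map_mul, map_inv] at h2
        calc (D.j g)⁻¹ * u * D.j f = (D.j g)⁻¹ * (u * D.j f * u⁻¹) * u := by group
          _ = D.j f * ((D.j g)⁻¹ * u) := by rw [← h2]; group
    have h2 := D.S.mul_mem (D.j_mem g) h1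
    rwa [mul_inv_cancel_left] at h2
  rcases QS.outer_cases hα1 hαo with ⟨f, hf, h⟩ | h
  · exact Or.inl ⟨f, hf, by rw [← hα, h]⟩
  · exact Or.inr (card_le_of D hs hn hus hα h)

end FrameL

end frameL

/-! ### Fusion -/

section abs

open Cfsg Cfsg.Agent.H849.ThreeNorm Cfsg.Agent.H480.Ore
open Cfsg.Agent.R08 Cfsg.Agent.R08.FiTwentyFour Cfsg.Agent.R08.TetFi24A
open Cfsg.Spor (Fi24)
open Subgroup (centralizer mem_centralizer_singleton_iff zpowers center)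

variable {G : Type*} [Group G] {x r : G} {π : centralizer ({x} : Set G) →* ↥(_root_.commutator Fi24)}
  (D : Data x r π)
include D

theorem fused {t : G} (htx : t * x = x * t) (htt : t * t = 1) {a b : Fi24} (P : At a b)
    (hτ : (π ⟨t, mem_centralizer_singleton_iff.2 htx⟩ : Fi24) = a * b) {c : G} (hcx : c * x = x * c)
    {n : ℕ} (hn : c ^ 2 ^ n = 1) (hct : c * t = t * c)
    (hsw : (π ⟨c, mem_centralizer_singleton_iff.2 hcx⟩ : Fi24) * a =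
      b * π ⟨c, mem_centralizer_singleton_iff.2 hcx⟩) {f : Fi24} (Hf : Nb a b f)
    (hf : (π ⟨c, mem_centralizer_singleton_iff.2 hcx⟩ : Fi24) * f = f * π ⟨c, mem_centralizer_singleton_iff.2 hcx⟩) :
    ∃ k : G, k * x = x * k ∧ k * t = t * k ∧ k * c * k⁻¹ = t * c := by
  have hker : ∀ (g : G) (hg : g * x = x * g), (π ⟨g, mem_centralizer_singleton_iff.2 hg⟩ : Fi24) = 1 ↔
      ∃ m : ℤ, g = x ^ m := by
    intro g hg
    have h1 := D.ker ⟨g, mem_centralizer_singleton_iff.2 hg⟩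
    constructor
    · intro h2
      obtain ⟨m, hm⟩ := Subgroup.mem_zpowers_iff.1 (h1.1 (Subtype.ext h2))
      exact ⟨m, hm.symm⟩
    · rintro ⟨m, hm⟩
      exact congrArg Subtype.val (h1.2 (Subgroup.mem_zpowers_iff.2 ⟨m, hm.symm⟩))
  have hmul : ∀ (g h : G) (hg : g * x = x * g) (hh : h * x = x * h) (hgh : g * h * x = x * (g * h)),
      (π ⟨g * h, mem_centralizer_singleton_iff.2 hgh⟩ : Fi24) =
        (π ⟨g, mem_centralizer_singleton_iff.2 hg⟩ : Fi24) * π ⟨h, mem_centralizer_singleton_iff.2 hh⟩ := by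
    intro g h hg hh hgh
    have h1 : (⟨g * h, mem_centralizer_singleton_iff.2 hgh⟩ : centralizer ({x} : Set G)) =
        ⟨g, mem_centralizer_singleton_iff.2 hg⟩ * ⟨h, mem_centralizer_singleton_iff.2 hh⟩ := rfl
    rw [h1, π.map_mul]
    rfl
  have hinv : ∀ (g : G) (hg : g * x = x * g) (hg' : g⁻¹ * x = x * g⁻¹),
      (π ⟨g⁻¹, mem_centralizer_singleton_iff.2 hg'⟩ : Fi24) =
        (π ⟨g, mem_centralizer_singleton_iff.2 hg⟩ : Fi24)⁻¹ := by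
    intro g hg hg'
    have h1 : (⟨g⁻¹, mem_centralizer_singleton_iff.2 hg'⟩ : centralizer ({x} : Set G)) =
        ⟨g, mem_centralizer_singleton_iff.2 hg⟩⁻¹ := rfl
    rw [h1, π.map_inv]
    rfl
  have hsame : ∀ (g g' : G) (hg : g * x = x * g) (hg' : g' * x = x * g'),
      (π ⟨g, mem_centralizer_singleton_iff.2 hg⟩ : Fi24) = π ⟨g', mem_centralizer_singleton_iff.2 hg'⟩ →
        ∃ m : ℤ, g = x ^ m * g' := by
    intro g g' hg hg' h
    have h1 : g'⁻¹ * x = x * g'⁻¹ := (show Commute g' x from hg').inv_left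
    have h2 : g * g'⁻¹ * x = x * (g * g'⁻¹) := by rw [mul_assoc, h1, ← mul_assoc, hg, mul_assoc]
    obtain ⟨m, hm⟩ := (hker (g * g'⁻¹) h2).1 (by rw [hmul g g'⁻¹ hg h1 h2, hinv g' hg' h1, h, mul_inv_cancel])
    exact ⟨m, by rw [← hm, inv_mul_cancel_right]⟩
  have hxt : ∀ m : ℤ, t * x ^ m = x ^ m * t := fun m => (show Commute t x from htx).zpow_right m
  -- a 2-element `x ^ m * y`, `y` a 2-element commuting with `x`
  have h3k : ∀ k : ℤ, x ^ (3 * k) = 1 := fun k => by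
    rw [zpow_mul, show ((3 : ℤ)) = ((3 : ℕ) : ℤ) by norm_num, zpow_natCast, ← D.ord, pow_orderOf_eq_one, one_zpow]
  have htwo : ∀ (m : ℤ) (y : G) (N : ℕ), y * x = x * y → y ^ 2 ^ N = 1 → (x ^ m * y) ^ 2 ^ N = 1 → x ^ m = 1 := by
    intro m y N hyx hy hxy
    have h1 : Commute (x ^ m) y := ((show Commute y x from hyx).zpow_right m).symm
    rw [h1.mul_pow, hy, mul_one, ← zpow_natCast, ← zpow_mul] at hxy
    have h2 : (3 : ℤ) ∣ m * ((2 ^ N : ℕ) : ℤ) := by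
      have := orderOf_dvd_iff_zpow_eq_one.2 hxy
      rwa [D.ord] at this
    have h3 : (3 : ℤ) ∣ m := by
      refine IsCoprime.dvd_of_dvd_mul_right ?_ h2
      push_cast
      exact IsCoprime.pow_right (by norm_num)
    obtain ⟨l, rfl⟩ := h3
    exact h3k l
  -- the element over `a f`
  obtain ⟨⟨k, hkm⟩, hk⟩ := D.surj ⟨a * f, TetFi24A.even a P.ha f Hf.hc⟩
  have hkx := mem_centralizer_singleton_iff.1 hkm
  have hkf : (π ⟨k, mem_centralizer_singleton_iff.2 hkx⟩ : Fi24) = a * f := congrArg Subtype.val hk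
  have hki : k⁻¹ * x = x * k⁻¹ := (show Commute k x from hkx).inv_left
  have af : a * f = f * a := Hf.ca.symm
  have bf : b * f = f * b := Hf.cb.symm
  have ab : a * b = b * a := P.ab
  have aa : a * a = 1 := P.aa
  have hkt : k * t = t * k := by
    have h1 : k * t * x = x * (k * t) := by rw [mul_assoc, htx, ← mul_assoc, hkx, mul_assoc]
    have h2 : t * k * x = x * (t * k) := by rw [mul_assoc, hkx, ← mul_assoc, htx, mul_assoc]
    obtain ⟨m, hm⟩ := hsame (k * t) (t * k) h1 h2 (by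
      rw [hmul k t hkx htx h1, hmul t k htx hkx h2, hτ, hkf]
      calc a * f * (a * b) = a * (f * a) * b := by group
        _ = a * (a * f) * b := by rw [af]
        _ = a * a * (f * b) := by group
        _ = a * a * (b * f) := by rw [bf]
        _ = a * (a * b) * f := by group
        _ = a * (b * a) * f := by rw [ab]
        _ = _ := by group)
    have h3 : x ^ m = 1 := by
      refine htwo m t 1 htx (by rw [pow_one, pow_two, htt]) ?_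
      have h5 : x ^ m * t = k * t * k⁻¹ := by rw [hm]; group
      rw [h5, pow_one, pow_two]
      calc k * t * k⁻¹ * (k * t * k⁻¹) = k * (t * t) * k⁻¹ := by group
        _ = 1 := by rw [htt]; group
    rw [hm, h3, one_mul]
  refine ⟨k, hkx, hkt, ?_⟩
  have h1 : k * c * x = x * (k * c) := by rw [mul_assoc, hcx, ← mul_assoc, hkx, mul_assoc]
  have h2 : k * c * k⁻¹ * x = x * (k * c * k⁻¹) := by rw [mul_assoc, hki, ← mul_assoc, h1, mul_assoc]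
  have h3 : t * c * x = x * (t * c) := by rw [mul_assoc, hcx, ← mul_assoc, htx, mul_assoc]
  obtain ⟨m, hm⟩ := hsame (k * c * k⁻¹) (t * c) h2 h3 (by
    rw [hmul (k * c) k⁻¹ h1 hki h2, hmul k c hkx hcx h1, hmul t c htx hcx h3, hinv k hkx hki, hkf, hτ]
    have e1 : (a * f)⁻¹ = a * f := by
      apply inv_eq_of_mul_eq_one_left
      calc a * f * (a * f) = a * (f * a) * f := by group
        _ = a * (a * f) * f := by rw [af]
        _ = (a * a) * (f * f) := by group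
        _ = 1 := by rw [aa, FiTwentyFour.sq Hf.hc, one_mul]
    rw [e1]
    generalize (π ⟨c, mem_centralizer_singleton_iff.2 hcx⟩ : Fi24) = w at hsw hf
    calc a * f * w * (a * f) = a * f * (w * a) * f := by group
      _ = a * f * (b * w) * f := by rw [hsw]
      _ = a * (f * b) * (w * f) := by group
      _ = a * (b * f) * (f * w) := by rw [hf, bf]
      _ = a * b * (f * f) * w := by group
      _ = a * b * w := by rw [FiTwentyFour.sq Hf.hc, mul_one])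
  have h4 : x ^ m = 1 := by
    have hc2 : (t * c) ^ 2 ^ (n + 1) = 1 := by
      have h5 : Commute t c := hct.symm
      have h6 : t ^ 2 ^ (n + 1) = 1 := by rw [pow_succ', pow_mul, pow_two, htt, one_pow]
      have h7 : c ^ 2 ^ (n + 1) = 1 := by rw [pow_succ, pow_mul, hn, one_pow]
      rw [h5.mul_pow, h6, h7, one_mul]
    refine htwo m (t * c) (n + 1) h3 hc2 ?_
    rw [← hm, conj_pow, pow_succ, pow_mul, hn, one_pow, mul_one, mul_inv_cancel]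
  rw [hm, h4, one_mul]

end abs

/-! ### The result -/

section frame

open Cfsg Cfsg.Agent.H849.ThreeNorm Cfsg.Agent.H480.Ore
open Cfsg.Agent.R08 Cfsg.Agent.R08.FiTwentyFour Cfsg.Agent.R08.TetFi24A
open Cfsg.Spor (Fi24)
open Cfsg.Agent.H777.Ore (IsC AllC)
open Cfsg.Agent.H6.QO (RowN NC)
open Subgroup (centralizer mem_centralizer_singleton_iff zpowers center)

variable {G : Type*} [Group G] [Finite G] {t : G} {L : Type*} [Group L]

/-- the abstract form -/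
theorem cover_abs (htt : t * t = 1) (ht1 : t ≠ 1) (h2 : Nat.card ↥(center ↥(centralizer ({t} : Set G))) = 2)
    (e : ↥(centralizer ({t} : Set G)) ⧸ center ↥(centralizer ({t} : Set G)) ≃* L) {x : ↥(centralizer ({t} : Set G))}
    (hx : orderOf x = 3) (hs : orderOf (e (QuotientGroup.mk x)) = 3)
    {r : G} {π : centralizer ({(x : G)} : Set G) →* ↥(_root_.commutator Fi24)} (D : Data (x : G) r π)
    (htx : t * x = x * t) {a b : Fi24} (P : TetFi24A.At a b)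
    (hτ : (π ⟨t, mem_centralizer_singleton_iff.2 htx⟩ : Fi24) = a * b) (hFi : RowN Spor.Fi22)
    (hT : ∀ g : L, Nat.card ↥(centralizer ({g} : Set L)) ≤ 7700000000 → IsC g)
    {u : ↥(centralizer ({t} : Set G))} {n : ℕ} (hn : u ^ 2 ^ n = 1) (hux : u * x = x * u) :
    IsC (u * x) ∨ Nat.card ↥(centralizer ({e (QuotientGroup.mk (u * x))} : Set L)) ≤ 318504960 := by
  have : Finite L := Finite.of_equiv _ e.toEquiv
  obtain ⟨i, κ, F, hii, hix, hit, hκ, hκπ, hform, hj⟩ := exists_frame' htt ht1 h2 e D htx P hτ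
  by_cases hS : e (QuotientGroup.mk u) ∈ F.S
  · left
    apply isC_mem hFi hx P κ hκ hix hit
    rw [hform, b3_emk_mul e]
    exact F.S.mul_mem hS F.s_mem
  have hun : (e (QuotientGroup.mk u)) ^ 2 ^ n = 1 := b3_emk_pow e hn
  have hus : e (QuotientGroup.mk u) * e (QuotientGroup.mk x) = e (QuotientGroup.mk x) * e (QuotientGroup.mk u) :=
    b3_emk_comm e hux
  have hmk : e (QuotientGroup.mk (u * x)) = e (QuotientGroup.mk u) * e (QuotientGroup.mk x) := b3_emk_mul e u x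
  rcases FrameL.outer_cases F hs hun hus hS with ⟨f', hf'T, hf'⟩ | hcard
  swap
  · right
    rw [hmk]
    exact hcard
  left
  -- the transposition
  obtain ⟨f, Hf, rfl⟩ := P.exists_x hf'T
  obtain ⟨k₀, hk₀⟩ := hκ.2 (P.x Hf)
  have hk₀π := hκπ k₀
  rw [hk₀, P.coe_x] at hk₀π
  rw [← hk₀, hj k₀] at hf'
  have hk₀m := mem_KK.1 k₀.2
  let ι : ↥(KK (x : G) i t) → ↥(centralizer ({t} : Set G)) :=
    fun k => ⟨k, mem_centralizer_singleton_iff.2 (mem_KK.1 k.2).2.2⟩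
  have hcen : ((u * ι k₀ * u⁻¹ * (ι k₀)⁻¹ : ↥(centralizer ({t} : Set G))) : G) = 1 ∨
      ((u * ι k₀ * u⁻¹ * (ι k₀)⁻¹ : ↥(centralizer ({t} : Set G))) : G) = t := by
    rw [← center_cases ht1 h2, ← QuotientGroup.eq_one_iff]
    apply e.injective
    rw [e.map_one, b3_emk_mul e, b3_emk_mul e, b3_emk_mul e, QuotientGroup.mk_inv,
      QuotientGroup.mk_inv, e.map_inv, e.map_inv]
    exact mul_inv_eq_one.2 hf'
  have hux' : (u : G) * x = x * u := congrArg Subtype.val hux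
  have hut' : (u : G) * t = t * u := mem_centralizer_singleton_iff.1 u.2
  have hui : (u : G)⁻¹ * x = x * (u : G)⁻¹ := (show Commute (u : G) x from hux').inv_left
  have hmul : ∀ (g h : G) (hg : g * x = x * g) (hh : h * x = x * h) (hgh : g * h * x = x * (g * h)),
      (π ⟨g * h, mem_centralizer_singleton_iff.2 hgh⟩ : Fi24) =
        (π ⟨g, mem_centralizer_singleton_iff.2 hg⟩ : Fi24) * π ⟨h, mem_centralizer_singleton_iff.2 hh⟩ := by
    intro g h hg hh hgh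
    have h1 : (⟨g * h, mem_centralizer_singleton_iff.2 hgh⟩ : centralizer ({(x : G)} : Set G)) =
        ⟨g, mem_centralizer_singleton_iff.2 hg⟩ * ⟨h, mem_centralizer_singleton_iff.2 hh⟩ := rfl
    rw [h1, map_mul]
    rfl
  -- `π u` interchanges `a` and `b`
  obtain ⟨w, hw⟩ : ∃ w, w = (π ⟨(u : G), mem_centralizer_singleton_iff.2 hux'⟩ : Fi24) := ⟨_, rfl⟩
  have hwab : w * (a * b) = a * b * w := by
    have h4 : (u : G) * t * x = x * (u * t) := by rw [mul_assoc, htx, ← mul_assoc, hux', mul_assoc]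
    have h5 := hmul u t hux' htx h4
    have h6 := hmul t u htx hux' (by rw [← hut']; exact h4)
    have h7 : (⟨(u : G) * t, mem_centralizer_singleton_iff.2 h4⟩ : centralizer ({(x : G)} : Set G)) =
        ⟨t * u, mem_centralizer_singleton_iff.2 (by rw [← hut']; exact h4)⟩ := Subtype.ext hut'
    rw [h7, h6, hτ] at h5
    rw [hw]
    exact h5.symm
  have hsw : w * a = b * w ∧ w * b = a * w := by
    have h3 : (w * a * w⁻¹ = a ∧ w * b * w⁻¹ = b) ∨ (w * a * w⁻¹ = b ∧ w * b * w⁻¹ = a) := by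
      apply OddHalf.D4.Spor.FiTF.pair_fix P.ha P.hb P.ab P.ne
      rw [mul_inv_eq_iff_eq_mul]
      exact hwab
    rcases h3 with ⟨h4, h5⟩ | ⟨h4, h5⟩
    · exfalso
      apply hS
      rw [← hform]
      have hwC : w ∈ Cab a b := by
        rw [mem_Cab]
        refine ⟨?_, mul_inv_eq_iff_eq_mul.1 h4, mul_inv_eq_iff_eq_mul.1 h5⟩
        rw [hw]
        exact mem_commutator_iff.1 (π ⟨(u : G), mem_centralizer_singleton_iff.2 hux'⟩).2
      obtain ⟨k, hk⟩ := hκ.2 ⟨w, hwC⟩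
      have hkπ := hκπ k
      rw [hk] at hkπ
      have hkx := (mem_KK.1 k.2).1
      have hki : (k : G)⁻¹ * x = x * (k : G)⁻¹ := (show Commute (k : G) x from hkx).inv_left
      have h6 : (u : G) * (k : G)⁻¹ * x = x * (u * (k : G)⁻¹) := by rw [mul_assoc, hki, ← mul_assoc, hux', mul_assoc]
      have h7 : (⟨(u : G) * (k : G)⁻¹, mem_centralizer_singleton_iff.2 h6⟩ : centralizer ({(x : G)} : Set G)) =
          ⟨(u : G), mem_centralizer_singleton_iff.2 hux'⟩ * ⟨(k : G), mem_centralizer_singleton_iff.2 hkx⟩⁻¹ := rfl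
      have h8 : π ⟨(u : G) * (k : G)⁻¹, mem_centralizer_singleton_iff.2 h6⟩ = 1 := by
        rw [h7, map_mul, map_inv]
        apply Subtype.ext
        show (π ⟨(u : G), _⟩ : Fi24) * (π ⟨(k : G), _⟩ : Fi24)⁻¹ = 1
        rw [← hkπ, ← hw]
        exact mul_inv_cancel w
      obtain ⟨m, hm⟩ := Subgroup.mem_zpowers_iff.1 ((D.ker _).1 h8)
      exact ⟨m, k, by rw [hm, inv_mul_cancel_right]⟩
    · exact ⟨mul_inv_eq_iff_eq_mul.1 h4, mul_inv_eq_iff_eq_mul.1 h5⟩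
  -- `π u` fixes `f`
  have af : a * f = f * a := Hf.ca.symm
  have bf : b * f = f * b := Hf.cb.symm
  have ab : a * b = b * a := P.ab
  have aa : a * a = 1 := P.aa
  have bb : b * b = 1 := FiTwentyFour.sq P.hb
  have ff : f * f = 1 := FiTwentyFour.sq Hf.hc
  have hwf : w * f = f * w := by
    have h4 : (u : G) * k₀ * x = x * (u * k₀) := by rw [mul_assoc, hk₀m.1, ← mul_assoc, hux', mul_assoc]
    have h5 := hmul u k₀ hux' hk₀m.1 h4
    rcases hcen with h | h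
    · -- `u k₀ = k₀ u`
      have h6 : (u : G) * k₀ = k₀ * u := by
        have h7 : (u : G) * k₀ * (u : G)⁻¹ * (k₀ : G)⁻¹ = 1 := h
        exact mul_inv_eq_iff_eq_mul.1 (mul_inv_eq_one.1 h7)
      have h7 := hmul k₀ u hk₀m.1 hux' (by rw [← h6]; exact h4)
      have h8 : (⟨(u : G) * k₀, mem_centralizer_singleton_iff.2 h4⟩ : centralizer ({(x : G)} : Set G)) =
          ⟨k₀ * u, mem_centralizer_singleton_iff.2 (by rw [← h6]; exact h4)⟩ := Subtype.ext h6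
      rw [h8, h7, ← hw, ← hk₀π] at h5
      -- `a f w = w a f`
      exfalso
      have h9 : w * f * w⁻¹ = b * a * f := by
        have h10 : a * f = b * (w * f * w⁻¹) := by
          calc a * f = (a * f * w) * w⁻¹ := by group
            _ = (w * a) * f * w⁻¹ := by rw [h5]; group
            _ = b * (w * f * w⁻¹) := by rw [hsw.1]; group
        calc w * f * w⁻¹ = (b * b) * (w * f * w⁻¹) := by rw [bb, one_mul]
          _ = b * (b * (w * f * w⁻¹)) := by group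
          _ = b * a * f := by rw [← h10]; group
      have hL : w * f * w⁻¹ ∈ FiTwentyFour.L := FiTwentyFour.conj Hf.hc w
      rw [h9] at hL
      refine TetFi24A.four P.ha P.hb hL Hf.hc P.ne ?_ Hf.na.symm ?_ Hf.nb.symm ?_ P.ab ?_ Hf.ca.symm ?_ Hf.cb.symm ?_
      · intro h10
        apply Hf.nb
        have h11 : b * f = 1 := by
          have : a * (b * f) = a * 1 := by
            rw [mul_one]
            calc a * (b * f) = a * b * f := by group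
              _ = b * a * f := by rw [ab]
              _ = a := h10.symm
          exact mul_left_cancel this
        calc f = (b * b) * f := by rw [bb, one_mul]
          _ = b * (b * f) := by group
          _ = b := by rw [h11, mul_one]
      · intro h10
        apply Hf.na
        have h11 : a * f = 1 := by
          have : b * (a * f) = b * 1 := by
            rw [mul_one, ← mul_assoc]
            exact h10.symm
          exact mul_left_cancel this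
        calc f = (a * a) * f := by rw [aa, one_mul]
          _ = a * (a * f) := by group
          _ = a := by rw [h11, mul_one]
      · intro h10
        apply P.ne
        have h11 : b * a = 1 := by
          have : b * a * f = 1 * f := by rw [one_mul]; exact h10
          exact mul_right_cancel this
        calc a = (b * b) * a := by rw [bb, one_mul]
          _ = b * (b * a) := by group
          _ = b := by rw [h11, mul_one]
      · show a * (b * a * f) = b * a * f * a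
        calc a * (b * a * f) = (a * b) * (a * f) := by group
          _ = (b * a) * (f * a) := by rw [ab, af]
          _ = _ := by group
      · show b * (b * a * f) = b * a * f * b
        calc b * (b * a * f) = b * (b * a) * f := by group
          _ = b * (a * b) * f := by rw [ab]
          _ = b * a * (b * f) := by group
          _ = b * a * (f * b) := by rw [bf]
          _ = _ := by group
      · rw [mul_assoc, ff, mul_one, ab]
    · -- `u k₀ = t k₀ u`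
      have h6 : (u : G) * k₀ = t * (k₀ * u) := by
        have h7 : (u : G) * k₀ * (u : G)⁻¹ * (k₀ : G)⁻¹ = t := h
        calc (u : G) * k₀ = ((u : G) * k₀ * (u : G)⁻¹ * (k₀ : G)⁻¹) * (k₀ * u) := by group
          _ = _ := by rw [h7]
      have h8x : (k₀ : G) * u * x = x * (k₀ * u) := by rw [mul_assoc, hux', ← mul_assoc, hk₀m.1, mul_assoc]
      have h9x : t * ((k₀ : G) * u) * x = x * (t * (k₀ * u)) := by rw [← h6]; exact h4
      have h7 := hmul k₀ u hk₀m.1 hux' h8x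
      have h7' := hmul t (k₀ * u) htx h8x h9x
      have h8 : (⟨(u : G) * k₀, mem_centralizer_singleton_iff.2 h4⟩ : centralizer ({(x : G)} : Set G)) =
          ⟨t * (k₀ * u), mem_centralizer_singleton_iff.2 h9x⟩ := Subtype.ext h6
      rw [h8, h7', h7, hτ, ← hw, ← hk₀π] at h5
      -- `a b (a f w) = w a f`
      have h10 : b * (f * w) = b * (w * f) := by
        calc b * (f * w) = (a * a) * b * f * w := by rw [aa]; group
          _ = a * (a * b) * f * w := by group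
          _ = a * (b * a) * f * w := by rw [ab]
          _ = a * b * (a * f * w) := by group
          _ = w * (a * f) := h5
          _ = (w * a) * f := by group
          _ = b * (w * f) := by rw [hsw.1]; group
      exact (mul_left_cancel h10).symm
  -- fusion
  have hn' : (u : G) ^ 2 ^ n = 1 := by rw [← Subgroup.coe_pow, hn, Subgroup.coe_one]
  rw [hw] at hsw hwf
  obtain ⟨k, hkx, hkt, hku⟩ := fused D htx htt P hτ hux' hn' hut' hsw.1 Hf hwf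
  -- the commutator in the quotient
  have hTu : IsC (e (QuotientGroup.mk (u * x))) := by
    apply hT
    rw [hmk]
    exact (F.card_le hs hun hus hS).trans (by norm_num)
  obtain ⟨A', B', hAB⟩ := hTu
  obtain ⟨A₁, rfl⟩ := e.surjective A'
  obtain ⟨B₁, rfl⟩ := e.surjective B'
  obtain ⟨A, rfl⟩ := QuotientGroup.mk_surjective A₁
  obtain ⟨B, rfl⟩ := QuotientGroup.mk_surjective B₁
  have hz : (((A * B * A⁻¹ * B⁻¹)⁻¹ * (u * x) : ↥(centralizer ({t} : Set G))) : G) = 1 ∨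
      (((A * B * A⁻¹ * B⁻¹)⁻¹ * (u * x) : ↥(centralizer ({t} : Set G))) : G) = t := by
    rw [← center_cases ht1 h2, ← QuotientGroup.eq]
    apply e.injective
    rw [hAB]
    simp only [QuotientGroup.mk_mul, QuotientGroup.mk_inv, map_mul, map_inv]
  rcases hz with hz | hz
  · refine ⟨A, B, ?_⟩
    have h3 : (A * B * A⁻¹ * B⁻¹)⁻¹ * (u * x) = 1 := Subtype.ext hz
    exact (inv_mul_eq_one.1 h3).symm
  · let K : ↥(centralizer ({t} : Set G)) := ⟨k, mem_centralizer_singleton_iff.2 hkt⟩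
    let T : ↥(centralizer ({t} : Set G)) := ⟨t, mem_centralizer_singleton_iff.2 rfl⟩
    have hTT : T * T = 1 := Subtype.ext htt
    have hTc : ∀ g : ↥(centralizer ({t} : Set G)), T * g = g * T := fun g =>
      Subtype.ext (mem_centralizer_singleton_iff.1 g.2).symm
    have hz' : (A * B * A⁻¹ * B⁻¹)⁻¹ * (u * x) = T := Subtype.ext hz
    have hku' : K * u * K⁻¹ = T * u := Subtype.ext hku
    have hkx' : K * x * K⁻¹ = x := mul_inv_eq_iff_eq_mul.2 (Subtype.ext hkx)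
    have h3 : A * B * A⁻¹ * B⁻¹ = K * (u * x) * K⁻¹ := by
      calc A * B * A⁻¹ * B⁻¹ = (A * B * A⁻¹ * B⁻¹) * (T * T) := by rw [hTT, mul_one]
        _ = (A * B * A⁻¹ * B⁻¹) * ((A * B * A⁻¹ * B⁻¹)⁻¹ * (u * x)) * T := by rw [hz']; exact (mul_assoc _ _ _).symm
        _ = (u * x) * T := by rw [mul_inv_cancel_left]
        _ = T * (u * x) := (hTc _).symm
        _ = (T * u) * x := (mul_assoc _ _ _).symm
        _ = (K * u * K⁻¹) * (K * x * K⁻¹) := by rw [hku', hkx']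
        _ = K * (u * x) * K⁻¹ := by group
    refine ⟨K⁻¹ * A * K, K⁻¹ * B * K, ?_⟩
    calc u * x = K⁻¹ * (K * (u * x) * K⁻¹) * K := by group
      _ = K⁻¹ * (A * B * A⁻¹ * B⁻¹) * K := by rw [h3]
      _ = _ := by group

end frame

section result

open Cfsg Cfsg.Agent.H849.ThreeNorm Cfsg.Agent.H480.Ore
open Cfsg.Agent.MonsterX Cfsg.Agent.LThree
open Cfsg.Agent.H777.Ore (IsC AllC)
open Cfsg.Agent.H6.QO (RowN NC)
open Subgroup (centralizer mem_centralizer_singleton_iff zpowers center)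

variable {t₀ : ↥InstData.M.G} (hA : LThreeB.Row.TA t₀)
    (h2 : Nat.card ↥(center ↥(centralizer ({t₀} : Set ↥InstData.M.G))) = 2) {L : Type*} [Group L]
    (e : ↥(centralizer ({t₀} : Set ↥InstData.M.G)) ⧸ center ↥(centralizer ({t₀} : Set ↥InstData.M.G)) ≃* L)
    {x : ↥(centralizer ({t₀} : Set ↥InstData.M.G))} (hx : orderOf x = 3)
    (h : H844.Ore.FiType t₀ (x : ↥InstData.M.G))
include hA h2 hx h

/-- **2.B, 3A** (final form): the elements `u x`, `u` a 2-element of `C(x, t₀)`. `hT` is `H570.Ore.RowB.t1_b`. -/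
theorem three_A_cover2 (hFi : RowN Spor.Fi22)
    (hT : ∀ g : L, Nat.card ↥(centralizer ({g} : Set L)) ≤ 7700000000 → IsC g)
    {u : ↥(centralizer ({t₀} : Set ↥InstData.M.G))} {n : ℕ} (hn : u ^ 2 ^ n = 1) (hux : u * x = x * u) :
    IsC (u * x) ∨ Nat.card ↥(centralizer ({e (QuotientGroup.mk (u * x))} : Set L)) ≤ 318504960 := by
  have := LThreeMB.Row.finite_model
  have ho := MThirteen.Row.ta_order hA
  have htt : t₀ * t₀ = 1 := by rw [← pow_two, ← ho, pow_orderOf_eq_one]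
  have ht1 : t₀ ≠ 1 := by
    rintro rfl
    rw [orderOf_one] at ho
    norm_num at ho
  have hs := order_s hA h2 e hx h
  obtain ⟨hxt, f0, a, b, P, hf0⟩ := h
  have hob_ := exists_data (by rw [Subgroup.orderOf_coe, hx]) f0
  obtain ⟨r, D⟩ := hob_
  exact cover_abs htt ht1 h2 e hx hs D hxt P hf0 hFi hT hn hux

end result

end Cfsg.Agent.H480.QS
end
end
end
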